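import Cfsg.Agent.Lib.FusionSystem.CompTheory.Displacement
import Cfsg.Agent.Lib.FusionSystem.Meet.Main

/-! The automizers of a normal subsystem at centric subgroups are generated by compatible lifts. -/

set_option autoImplicit false

namespace CfsgLib.Fsys.EProd

open Cfsg Cfsg.FusionSystem CfsgLib.Fsys.WNR CfsgLib.Fsys.Meet CfsgLib.Fsys.CoreLayer
open Cfsg.FusionSystem (centralizerIn normalizerIn)

universe u

variable {Ω : Type u} [Group Ω] {S T : Subgroup Ω} {F : FusionSystem S} {E : FusionSystem T}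
  {Y : Subgroup Ω} {p : ℕ} [Fact p.Prime] [Finite S]

omit [Fact p.Prime] in
theorem setup (hS : IsPGroup p S) (hE : E.IsNormalIn F p) : Setup F E E p := ⟨hS, hE.1, hE.1⟩

omit [Fact p.Prime] in
theorem wcentric_centric (hE : E.IsInvariantIn F) (hY : WCentric F T Y) : E.IsCentric Y :=
  ⟨hY.1, fun R hR => hY.2 R (by
    obtain ⟨g, hg, hgi⟩ := isConj_iff.1 hR
    exact isConj_iff.2 ⟨g, hg.of_subsystem hE.1, hgi⟩)⟩

omit [Fact p.Prime] in
theorem wcentric_sup (hT : T ≤ S) (hY : WCentric F T Y) : Y ⊔ centralizerIn T Y = Y :=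
  sup_eq_left.2 (hY.2 Y (isConj_refl (hY.1.trans hT)))

/-- A good lift gives a generator at a nice subgroup. -/
theorem kGen_of_goodLift (hS : IsPGroup p S) (hE : E.IsNormalIn F p) (hn : Nice F Y) (hY : WCentric F T Y)
    {h : MulAut ↥(Y ⊔ centralizerIn S Y)} (hh : GoodLift p F E Y h) {a : MulAut Y}
    (hha : ∀ y ∈ Y, autFn h y = autFn a y) : a ∈ kGen p F E E Y := by
  have hT := hE.1.2.2.2.1
  have hYS : Y ≤ S := hn.1.1
  obtain ⟨a', ha', hha'⟩ := hh.restrict
  obtain rfl : a' = a := mulAut_ext fun y hy => by rw [← hha' y hy, hha y hy]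
  have hE' : Fn E (Y ⊔ centralizerIn T Y) (autFn h) := by
    rw [wcentric_sup hT.1 hY]
    exact ((mem_autGroup_iff_fn hY.1).1 ha').congr fun y hy => (hha y hy).symm
  refine gens_mem_kGen hn (Or.inr ⟨?_, autFn h, hh.compatible.fn, hha, fun c hc => ?_, hE', hE'⟩)
  · haveI := finite_of_le_base hYS
    refine Nat.Coprime.coprime_dvd_left (orderOf_dvd_of_pow_eq_one (mulAut_ext fun y hy => ?_)) hh.coprime
    have hpow : ∀ j : ℕ, ∀ y ∈ Y, autFn (a' ^ j) y = autFn (h ^ j) y := fun j => by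
      induction j with
      | zero => intro y hy; rw [pow_zero, pow_zero, autFn_id hy, autFn_id (Subgroup.mem_sup_left hy)]
      | succ j ih =>
        intro y hy
        rw [pow_succ, pow_succ, autFn_mul _ _ hy, autFn_mul _ _ (Subgroup.mem_sup_left hy), hha y hy,
          ih _ (autFn_mem a' hy)]
    rw [hpow _ y hy, pow_orderOf_eq_one, autFn_id (Subgroup.mem_sup_left hy), autFn_id hy]
  · exact ⟨hY.1 (hh.compatible.move c hc), hY.1 (hh.compatible.move c hc)⟩

/-- A generated automorphism of order prime to `p` at a nice subgroup has a good lift. -/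
theorem goodLift_of_kGen (hS : IsPGroup p S) (hE : E.IsNormalIn F p) (hn : Nice F Y) (hY : WCentric F T Y)
    {a : MulAut Y} (ha : a ∈ kGen p F E E Y) (hco : Nat.Coprime (orderOf a) p) :
    ∃ h, h ∈ F.autGroup (Y ⊔ centralizerIn S Y) ∧ GoodLift p F E Y h ∧ ∀ y ∈ Y, autFn h y = autFn a y := by
  have st := setup hS hE
  have hT := hE.1.2.2.2.1
  have hWS : Y ⊔ centralizerIn S Y ≤ S := sup_le hn.1.1 centralizerIn_le
  have hY' : Y ≤ T ⊓ T := le_inf hY.1 hY.1
  haveI := finite_of_le_base hn.1.1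
  obtain ⟨k, hk, hka, hkd, -, -⟩ := kGen_le_liftSub st hY' (fullyNormalized_good hS st.sat hn.1).2 ha
  obtain ⟨hkY, -, hkV⟩ := CompatLift.img_eq hk hka
  obtain ⟨b, hb, hbk⟩ := exists_aut_of_fn hk hkV
  have hbe : ∀ x ∈ Y ⊔ centralizerIn S Y, autFn b x = k x := fun x hx =>
    (autFn_coe b ⟨x, hx⟩).trans (hbk ⟨x, hx⟩)
  refine exists_goodLift hn.1 (wcentric_centric hE.1.2.2 hY) (Or.inl ⟨(kGen_le st hY' ha).1, b, hb,
    ⟨(mem_autGroup_iff_fn hWS).1 hb, fun y hy => ?_, fun u hu => ?_⟩, fun y hy => ?_⟩) hco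
  · rw [hbe y (Subgroup.mem_sup_left hy), hka y hy]
    exact autFn_mem a hy
  · rw [hbe u (Subgroup.mem_sup_right hu)]
    exact hY.2 Y (isConj_refl hn.1.1) (mem_centralizerIn.2 ⟨(hkd u hu).1, fun y hy => by
      have e1 : Commute y u := (mem_centralizerIn.1 hu).2 y hy
      have e2 : Commute y (k u) := (mem_centralizerIn.1 (hk.map_centralizer le_sup_left hkY
        (Subgroup.mem_sup_right hu) hu)).2 y hy
      exact (e1.inv_right.mul_right e2).eq⟩)
  · rw [hbe y (Subgroup.mem_sup_left hy), hka y hy]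

/-- An automorphism in `E` of a subgroup fixing a centric subgroup pointwise is conjugation by an element of it. -/
theorem fix_centric_conj (hS : IsPGroup p S) (hE : E.IsWeaklyNormalIn F p) (hY : WCentric F T Y)
    {N : Subgroup Ω} (hN : N ≤ T) (hYN : Y ≤ N) (hNY : N ≤ normalizerIn S Y) (hA : E.IsFullyAutomized p N)
    {δ : MulAut N} (hδ : δ ∈ E.autGroup N) (hfix : ∀ y ∈ Y, autFn δ y = y) :
    ∃ r ∈ Y, ∀ x ∈ N, autFn δ x = r * x * r⁻¹ := by
  have hT := hE.2.2.2.1
  haveI := finite_of_le_base hT.1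
  haveI := finite_of_le_base (hY.1.trans hT.1)
  have hδf := (mem_autGroup_iff_fn hN).1 hδ
  have hdisp : ∀ x ∈ N, x⁻¹ * autFn δ x ∈ Y := fun x hx => by
    refine hY.2 Y (isConj_refl (hY.1.trans hT.1)) (mem_centralizerIn.2
      ⟨T.mul_mem (T.inv_mem (hN hx)) (hN (autFn_mem δ hx)), fun y hy => ?_⟩)
    have hxy : x * y * x⁻¹ ∈ Y := (mem_normalizer_iff'.1 (hNY hx).2).1 y hy
    have h1 := hδf.map_conj hx (hYN hy)
    rw [hfix _ hxy, hfix y hy] at h1
    calc y * (x⁻¹ * autFn δ x) = x⁻¹ * (x * y * x⁻¹) * autFn δ x := by group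
      _ = x⁻¹ * (autFn δ x * y * (autFn δ x)⁻¹) * autFn δ x := by rw [← h1]
      _ = _ := by group
  obtain ⟨K, hK⟩ := IsPGroup.iff_card.1 (hS.to_le (hY.1.trans hT.1))
  have hp : δ ^ p ^ K = 1 := hK ▸ pow_card_eq_one_of_fix hYN hfix hdisp
  haveI := finite_of_le_base hN
  obtain ⟨γ, hγ, hγT⟩ := exists_conj_into (hS.to_le hT.1) hA (Subgroup.zpowers_le.2 hδ) (by
    rintro ⟨x, hx⟩
    obtain ⟨j, rfl⟩ := Subgroup.mem_zpowers_iff.1 hx
    refine ⟨K, Subtype.ext ?_⟩
    show (δ ^ j) ^ p ^ K = 1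
    rw [← zpow_natCast _ (p ^ K), ← zpow_mul, mul_comm, zpow_mul, zpow_natCast, hp, one_zpow])
  obtain ⟨t, ht, hte⟩ := mem_autInducedBy.1 (hγT _ (Subgroup.mem_zpowers _))
  have hγf := (mem_autGroup_iff_fn hN).1 hγ
  have hte' : ∀ x ∈ N, autFn γ (autFn δ x) = t * autFn γ x * t⁻¹ := fun x hx => by
    have h1 := hte ⟨autFn γ x, autFn_mem γ hx⟩
    rw [← autFn_coe, autFn_mul _ _ (autFn_mem γ hx), autFn_mul _ _ (autFn_mem _ (autFn_mem γ hx)),
      autFn_inv_apply γ hx] at h1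
    exact h1
  have hZ : F.IsConj Y (img (autFn γ) Y) := isConj_of_fn ((hγf.mono hYN).of_subsystem hE.2.2.1)
  have htY : t ∈ img (autFn γ) Y := by
    refine hY.2 _ hZ (mem_centralizerIn.2 ⟨ht, fun z hz => ?_⟩)
    obtain ⟨y, hy, rfl⟩ := (hγf.mono hYN).mem_img.1 hz
    have h1 := hte' y (hYN hy)
    rw [hfix y hy] at h1
    conv_lhs => rw [h1]
    group
  obtain ⟨r, hr, hrt⟩ := (hγf.mono hYN).mem_img.1 htY
  refine ⟨r, hr, fun x hx => hγf.inj (autFn_mem δ hx)
    (N.mul_mem (N.mul_mem (hYN hr) hx) (N.inv_mem (hYN hr))) ?_⟩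
  rw [hte' x hx, hγf.map_conj (hYN hr) hx, hrt]

set_option maxHeartbeats 800000 in
/-- A lift to the normalizer gives a lift at the subgroup. -/
theorem compatLift_of_normalizer (hS : IsPGroup p S) (hE : E.IsNormalIn F p) (hY : WCentric F T Y)
    (hYc : F.IsFullyCentralized Y) {N : Subgroup Ω} (hYN : Y ≤ N) (hN : N ≤ T) (hNY : N ≤ normalizerIn S Y)
    (hNs : centralizerIn S Y ≤ normalizerIn S N) (hNn : Nice F N) {h : MulAut ↥(N ⊔ centralizerIn S N)}
    (hh : GoodLift p F E N h) (hhY : ∀ y ∈ Y, autFn h y ∈ Y) {a : MulAut Y} (ha : a ∈ E.autGroup Y)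
    (hha : ∀ y ∈ Y, autFn h y = autFn a y) : CompatLift F E E Y a := by
  obtain ⟨n, hn, hhn⟩ := hh.restrict
  have hw := hE.1
  obtain ⟨hEs, hF, hEi⟩ := id hw
  have hT := hEi.2.1
  haveI := finite_of_le_base hT.1
  have hNS := hN.trans hT.1
  have hYS := hYN.trans hNS
  haveI := finite_of_le_base hYS
  haveI := finite_of_le_base hNS
  have hC : centralizerIn S N ≤ centralizerIn S Y := fun c hc =>
    mem_centralizerIn.2 ⟨(mem_centralizerIn.1 hc).1, fun y hy => (mem_centralizerIn.1 hc).2 y (hYN hy)⟩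
  have hhf : Fn F (N ⊔ centralizerIn S N) (autFn h) := hh.compatible.fn
  have hA := (fullyNormalized_good (hS.to_le hT.1) hEs (fullyNormalized_sub hS hF hT hEi.1 hN hNn.1)).1
  have hnY : ∀ y ∈ Y, autFn n y = autFn h y := fun y hy => (hhn y (hYN hy)).symm
  have hqN : ∀ q ∈ centralizerIn S Y, q ∈ Subgroup.normalizer (N : Set Ω) := fun q hq => (hNs hq).2
  have hqfix : ∀ q ∈ centralizerIn S Y, ∀ y ∈ Y, q * y * q⁻¹ = y := fun q hq y hy => by
    rw [← (mem_centralizerIn.1 hq).2 y hy, mul_inv_cancel_right]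
  -- the commutator with an element centralizing `Y`
  have hr : ∀ q (hq : q ∈ centralizerIn S Y), ∃ r ∈ Y, ∀ z ∈ N,
      autFn n (q * z * q⁻¹) = r * q * autFn n z * (r * q)⁻¹ := by
    intro q hq
    set σ := conjAut N (hqN q hq) with hσ
    have hσF : σ ∈ F.autGroup N := autInducedBy_le_autGroup hNS (conjAut_mem_autInducedBy _ (centralizerIn_le hq))
    have hd : n * (σ * n⁻¹ * σ⁻¹) ∈ E.autGroup N := mul_mem hn (Invariant.conj_mem hEi hN hσF (inv_mem hn))
    have hσv : ∀ z ∈ N, autFn σ z = q * z * q⁻¹ := fun z hz => (autFn_coe σ ⟨z, hz⟩).trans (conjAut_coe _ _)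
    have hσi : ∀ y ∈ Y, autFn σ⁻¹ y = y := fun y hy => by
      have h1 := autFn_inv_apply σ (hYN hy)
      rwa [hσv y (hYN hy), hqfix q hq y hy] at h1
    obtain ⟨r, hr, hre⟩ := fix_centric_conj hS hw hY hN hYN hNY hA hd fun y hy => by
      have hyN := hYN hy
      rw [autFn_mul _ _ hyN, autFn_mul _ _ hyN, hσi y hy, autFn_mul _ _ hyN]
      have h2 : autFn n⁻¹ y ∈ Y := by
        have hf := ((mem_autGroup_iff_fn hN).1 hn).mono hYN
        obtain ⟨u, hu, hue⟩ := hf.mem_img.1 ((hf.of_subsystem hEi.1).img_eq_self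
          (fun u hu => (hnY u hu).symm ▸ hhY u hu) |>.ge hy)
        rw [← hue, autFn_inv_apply n (hYN hu)]
        exact hu
      rw [hσv _ (hYN h2), hqfix q hq _ h2, autFn_apply_inv n hyN]
    refine ⟨r, hr, fun z hz => ?_⟩
    have hnz := autFn_mem n hz
    have h1 := hre (autFn σ (autFn n z)) (autFn_mem σ hnz)
    rw [autFn_mul _ _ (autFn_mem σ hnz), autFn_mul _ _ (autFn_mem σ hnz), autFn_inv_apply σ hnz,
      autFn_mul _ _ hnz, autFn_inv_apply n hz, hσv z hz, hσv _ hnz] at h1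
    rw [h1]
    group
  obtain ⟨N', g, hg, hVN', hN', hge⟩ := receptive_extend (fullyCentralized_receptive hS hF
    (centric_fullyCentralized (centric_sup_centralizer (fullyNormalized_good hS hF hNn.1).2))) hhf (img_autFn h)
  have hCN' : centralizerIn S Y ≤ N' := fun q hq => (hN' q).2 (by
    obtain ⟨r, hr, hre⟩ := hr q hq
    refine CompT.exists_conjugator hS hF hh hhf hEi (centralizerIn_le hq) (hqN q hq) (hY.1 hr) fun z hz => ?_
    rw [hhn z hz, hhn _ ((mem_normalizer_iff'.1 (hqN q hq)).1 z hz)]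
    exact hre z hz)
  set W := N ⊔ centralizerIn S Y
  have hVW : (N ⊔ centralizerIn S N) ≤ W := sup_le_sup le_rfl hC
  have hWN' : W ≤ N' := sup_le (le_sup_left.trans hVN') hCN'
  have hgW := hg.mono hWN'
  have hgN : img g N = N := (hg.mono (le_sup_left.trans hVN')).img_eq_self fun x hx => by
    rw [hge x (Subgroup.mem_sup_left hx)]
    exact hh.compatible.stable x hx
  have hYW : Y ≤ W := hYN.trans le_sup_left
  have hgY : img g Y = Y := (hgW.mono hYW).img_eq_self fun y hy => by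
    rw [hge y (Subgroup.mem_sup_left (hYN hy))]
    exact hhY y hy
  have hgC : img g (centralizerIn S Y) = centralizerIn S Y := (hgW.mono le_sup_right).img_eq_self fun c hc =>
    hgW.map_centralizer hYW hgY (Subgroup.mem_sup_right hc) hc
  have hWS : W ≤ S := sup_le hNS centralizerIn_le
  obtain ⟨β, hβ, hβe⟩ := exists_aut_of_fn hgW (by rw [hgW.img_sup, hgN, hgC])
  obtain ⟨i, hi, hico⟩ := exists_coprime_pow (p := p) hWS hVW (β := β) (a := h)
    (fun w hw => (autFn_coe β ⟨w, hVW hw⟩).trans ((hβe _).trans (hge w hw))) hh.coprime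
  set γ := β ^ i
  have hγ : Fn F W (autFn γ) := (mem_autGroup_iff_fn hWS).1 (pow_mem hβ i)
  have hγN : ∀ z ∈ N, autFn γ z = autFn n z := fun z hz =>
    (hi z (Subgroup.mem_sup_left hz)).trans (hhn z hz)
  have hγY : ∀ y ∈ Y, autFn γ y = autFn a y := fun y hy =>
    (hi y (Subgroup.mem_sup_left (hYN hy))).trans (hha y hy)
  have hdisp : ∀ q ∈ centralizerIn S Y, q⁻¹ * autFn γ q ∈ T := by
    intro q hq
    have hqW : q ∈ W := Subgroup.mem_sup_right hq
    obtain ⟨r, hrY, hre⟩ := hr q hq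
    set e := (r * q)⁻¹ * autFn γ q with he
    have hrW : r ∈ W := hYW hrY
    have heC : e ∈ centralizerIn S N := mem_centralizerIn.2
      ⟨S.mul_mem (S.inv_mem (S.mul_mem (hYS hrY) (centralizerIn_le hq))) (hγ.mem hqW), fun z hz => by
        have hu : autFn n⁻¹ z ∈ N := autFn_mem _ hz
        have h1 := hre _ hu
        rw [← hγN _ ((mem_normalizer_iff'.1 (hqN q hq)).1 _ hu), hγ.map_conj hqW (Subgroup.mem_sup_left hu),
          hγN _ hu, autFn_apply_inv n hz] at h1
        calc z * e = (r * q)⁻¹ * (r * q * z * (r * q)⁻¹) * autFn γ q := by rw [he]; group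
          _ = (r * q)⁻¹ * (autFn γ q * z * (autFn γ q)⁻¹) * autFn γ q := by rw [← h1]
          _ = _ := by rw [he]; group⟩
    have heW : e ∈ W := Subgroup.mem_sup_right (hC heC)
    have hem : e⁻¹ * autFn γ e ∈ T := by
      rw [hi e (Subgroup.mem_sup_right heC)]
      exact hN (hh.compatible.move e heC)
    set t := q⁻¹ * r * q with ht
    have htW : t ∈ W := W.mul_mem (W.mul_mem (W.inv_mem hqW) hrW) hqW
    have htT : t ∈ T := by
      simpa [ht] using sc_conj hT (S.inv_mem (centralizerIn_le hq)) (hY.1 hrY)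
    have hd : q⁻¹ * autFn γ q = t * e := by rw [he, ht]; group
    refine (disp_mem_of_coprime hS hWS (inf_le_right : T ⊓ W ≤ W) hico
      (fun r hr => ⟨sc_apply hT hγ hr.2 hr.1, autFn_mem γ hr.2⟩)
      (fun v hv r hr => ⟨sc_conj hT (hWS hv) hr.1, W.mul_mem (W.mul_mem hv hr.2) (W.inv_mem hv)⟩) hqW ?_).1
    rw [hd]
    refine ⟨?_, W.mul_mem (W.inv_mem (W.mul_mem htW heW)) (autFn_mem γ (W.mul_mem htW heW))⟩
    rw [hγ.map_mul htW heW, show (t * e)⁻¹ * (autFn γ t * autFn γ e) =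
      e⁻¹ * (t⁻¹ * autFn γ t) * e⁻¹⁻¹ * (e⁻¹ * autFn γ e) by group]
    exact T.mul_mem (sc_conj hT (S.inv_mem (centralizerIn_le heC))
      (T.mul_mem (T.inv_mem htT) (sc_apply hT hγ htW htT))) hem
  have hE' : Fn E (Y ⊔ centralizerIn T Y) (autFn γ) := by
    rw [wcentric_sup hT.1 hY]
    exact ((mem_autGroup_iff_fn hY.1).1 ha).congr fun y hy => (hγY y hy).symm
  exact ⟨autFn γ, hγ.mono (sup_le hYW le_sup_right), hγY, fun c hc => ⟨hdisp c hc, hdisp c hc⟩, hE', hE'⟩

set_option maxHeartbeats 800000 in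
/-- At centric subgroups the automizers of a normal subsystem are the generated groups. -/
theorem autGroup_le_kGen (hS : IsPGroup p S) (hE : E.IsNormalIn F p) :
    ∀ Y, WCentric F T Y → E.autGroup Y ≤ kGen p F E E Y := by
  classical
  have st := setup hS hE
  obtain ⟨hEs, hF, hEi⟩ := id hE.1
  have hT := hEi.2.1
  haveI := finite_of_le_base hT.1
  have hTp := hS.to_le hT.1
  intro Y₀ hY₀
  refine induction_down (S := T) (C := fun Y => WCentric F T Y → E.autGroup Y ≤ kGen p F E E Y) Y₀ hY₀.1 ?_ hY₀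
  intro Y₁ _ ih hY₁
  obtain ⟨Y, hconj, hn⟩ := exists_nice (p := p) hS hF (hY₁.1.trans hT.1)
  suffices hmain : E.autGroup Y ≤ kGen p F E E Y by
    intro b hb
    obtain ⟨f, hf, hfi⟩ := isConj_iff.1 hconj
    obtain ⟨e, he, -⟩ := exists_transport hf.le hf hfi
    obtain ⟨g, hg, hgf, hgi⟩ := hf.exists_inv
    rw [hfi] at hg hgi
    refine kGen_transport hg hgi (hmain (congr_mem hEi hY₁.1 hf hfi e he hb)) fun x hx => ?_
    obtain ⟨y, hy⟩ := e.surjective ⟨x, hx⟩
    obtain rfl : x = f y := by rw [← he y, hy]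
    rw [hgf y y.2, autFn_coe b y, ← he y, autFn_coe,
      show (MulAut.congr e b) (e y) = e (b y) by simp [MulAut.congr], he, hgf _ (b y).2]
  have hY : WCentric F T Y := hY₁.conj hT hconj
  have hcard : Nat.card Y₁ = Nat.card Y := (isConj_card hconj).symm
  have hYS := hn.1.1
  haveI := finite_of_le_base hYS
  haveI : Finite (MulAut Y) := Finite.of_injective (fun f : MulAut Y => (f : Y → Y)) DFunLike.coe_injective
  have hY' : Y ≤ T ⊓ T := le_inf hY.1 hY.1
  have hEn := fullyNormalized_sub hS hF hT hEi.1 hY.1 hn.1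
  obtain ⟨hA, hEc⟩ := fullyNormalized_good hTp hEs hEn
  have hAK : autInducedBy T Y ≤ kGen p F E E Y := by
    have h1 := autInducedBy_le_kGen st hY'
    rwa [inf_idem] at h1
  have hKn : ∀ b ∈ E.autGroup Y, ∀ k ∈ kGen p F E E Y, b * k * b⁻¹ ∈ kGen p F E E Y := fun b hb k hk =>
    kGen_conj hYS (autGroup_mono' hEi.1 Y hb) hk
  rcases eq_or_lt_of_le hY.1 with rfl | hlt
  · intro a ha
    obtain ⟨β, hβ, γ, hγ, rfl⟩ := exists_residual_decomp hTp hEs hA ha
    refine mul_mem ?_ (hAK hγ)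
    clear ha
    induction hβ using Subgroup.closure_induction with
    | mem a ha =>
      obtain ⟨b, hb, hbe, hbc⟩ := hE.2 a a.2
      have hWS : Y ⊔ centralizerIn S Y ≤ S := sup_le hT.1 centralizerIn_le
      have hbY : ∀ y ∈ Y, autFn b y = autFn (a : MulAut Y) y := fun y hy => by
        rw [autFn_coe b ⟨y, Subgroup.mem_sup_left hy⟩, autFn_coe (a : MulAut Y) ⟨y, hy⟩]
        exact hbe ⟨y, hy⟩
      obtain ⟨h, -, hh, hhe⟩ := exists_goodLift (p := p) hn.1 (wcentric_centric hEi hY) (a := (a : MulAut Y))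
        (Or.inl ⟨a.2, b, hb, ⟨(mem_autGroup_iff_fn hWS).1 hb, fun y hy => hbY y hy ▸ autFn_mem _ hy,
          fun u hu => by
            rw [autFn_coe b ⟨u, Subgroup.mem_sup_right hu⟩]
            exact (hbc ⟨u, Subgroup.mem_sup_right hu⟩ hu).1⟩, hbY⟩)
        (by rw [Subgroup.orderOf_coe]; exact ha)
      exact kGen_of_goodLift hS hE hn hY hh hhe
    | one => exact one_mem _
    | mul x y _ _ hx hy => exact mul_mem hx hy
    | inv x _ hx => exact inv_mem hx
  -- elements of `p`-power order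
  have hpel : ∀ b ∈ E.autGroup Y, ∀ j : ℕ, b ^ p ^ j = 1 → b ∈ kGen p F E E Y := by
    intro b hb j hj
    obtain ⟨γ, hγ, hγT⟩ := exists_conj_into hTp hA (Subgroup.zpowers_le.2 hb) (by
      rintro ⟨x, hx⟩
      obtain ⟨i, rfl⟩ := Subgroup.mem_zpowers_iff.1 hx
      refine ⟨j, Subtype.ext ?_⟩
      show (b ^ i) ^ p ^ j = 1
      rw [← zpow_natCast _ (p ^ j), ← zpow_mul, mul_comm, zpow_mul, zpow_natCast, hj, one_zpow])
    have h1 := hKn γ⁻¹ (inv_mem hγ) _ (hAK (hγT b (Subgroup.mem_zpowers _)))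
    simpa [mul_assoc] using h1
  set N := normalizerIn T Y
  have hNT : N ≤ T := normalizerIn_le
  have hYN : Y ≤ N := le_normalizerIn hY.1
  have hNY : N ≤ normalizerIn S Y := inf_le_inf hT.1 le_rfl
  haveI := finite_of_le_base hNT
  have hNcard : Nat.card Y₁ < Nat.card N := by
    rw [hcard]
    exact Set.Finite.card_lt_card (Set.toFinite (N : Set Ω)) (lt_normalizerIn hTp hlt)
  -- elements normalizing the Sylow subgroup
  have hnorm : ∀ b ∈ E.autGroup Y, (∀ c ∈ autInducedBy T Y, b * c * b⁻¹ ∈ autInducedBy T Y) →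
      Nat.Coprime (orderOf b) p → b ∈ kGen p F E E Y := by
    intro b hb hbn hco
    obtain ⟨N', g, hg, hYN', hN', hge⟩ := receptive_extend (fullyCentralized_receptive hTp hEs hEc)
      ((mem_autGroup_iff_fn hY.1).1 hb) (img_autFn b)
    have hNN : N ≤ N' := fun x hx => by
      obtain ⟨w, hw, hwe⟩ := mem_autInducedBy.1 (hbn _ (conjAut_mem_autInducedBy hx.2 hx.1))
      refine (hN' x).2 ⟨hx.1, hx.2, w, hw, fun y hy => ?_⟩
      lift y to Y using hy
      have h := hwe (b y)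
      simp only [MulAut.mul_apply, MulAut.inv_apply_self] at h
      rw [← conjAut_coe hx.2 y, autFn_coe, autFn_coe]
      exact h
    have hgN := hg.mono hNN
    have hgY : img g Y = Y := (img_congr hge).trans (img_autFn b)
    obtain ⟨β, hβ, hβe⟩ := exists_aut_of_fn hgN
      (hgN.img_eq_self fun x hx => hgN.map_normalizer hYN hgY hx hx.2)
    obtain ⟨i, hi, hico⟩ := exists_coprime_pow (p := p) (S := T) hNT hYN (β := β) (a := b)
      (fun y hy => (autFn_coe β ⟨y, hYN hy⟩).trans ((hβe _).trans (hge y hy))) hco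
    set b' := β ^ i
    have hb' : b' ∈ E.autGroup N := pow_mem hβ i
    have hNS := hNT.trans hT.1
    obtain ⟨N₂, hNN₂, hN₂⟩ := exists_nice (p := p) hS hF hNS
    obtain ⟨φ, hφ, -, hφi⟩ := exists_normalizer_map hS (fullyNormalized_good hS hF hN₂.1).1
      (fullyNormalized_receptive hS hF hN₂.1) hNN₂
    have hCN : centralizerIn S Y ≤ normalizerIn S N := fun c hc => by
      refine ⟨centralizerIn_le hc, mem_normalizer_of_map_le fun x hx => ?_⟩
      exact ⟨sc_conj hT (centralizerIn_le hc) hx.1, Subgroup.mul_mem _ (Subgroup.mul_mem _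
        (centralizerIn_le_normalizerIn hc).2 hx.2) (Subgroup.inv_mem _ (centralizerIn_le_normalizerIn hc).2)⟩
    have hφN := hφ.mono (le_normalizerIn hNS)
    have hφV := hφ.mono (sup_le (hYN.trans (le_normalizerIn hNS)) hCN)
    set Y₂ := img φ Y
    have hY₂S := (hφV.mono le_sup_left).img_le_base
    have hY₂ : WCentric F T Y₂ := hY.conj hT (isConj_of_fn (hφV.mono le_sup_left))
    have hfc := (fullyNormalized_good hS hF hn.1).2
    have hC : img φ (centralizerIn S Y) = centralizerIn S Y₂ :=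
      img_eq_of_card_le centralizerIn_le (hφV.mono le_sup_right)
        (fun c hc => hφV.map_centralizer le_sup_left rfl (Subgroup.mem_sup_right hc) hc)
        (hfc.2 _ (isConj_of_fn (hφV.mono le_sup_left)))
    have hfc₂ : F.IsFullyCentralized Y₂ := ⟨hY₂S, fun Z hZ => by
      rw [← hC, (hφV.mono le_sup_right).card_img]
      exact hfc.2 Z (isConj_trans (isConj_of_fn (hφV.mono le_sup_left)) hZ)⟩
    have hN₂T : N₂ ≤ T := hφi ▸ img_le fun x hx => sc_apply hT hφN hx (hNT hx)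
    have hY₂N : Y₂ ≤ N₂ := hφi ▸ img_mono hYN
    have hN₂Y : N₂ ≤ normalizerIn S Y₂ := hφi ▸ img_le fun x hx =>
      hφN.map_normalizer hYN rfl hx (hNY hx).2
    have hC₂ : centralizerIn S Y₂ ≤ normalizerIn S N₂ := hC ▸ img_le fun c hc =>
      hφ.map_normalizer (le_normalizerIn hNS) hφi (hCN hc) (hCN hc).2
    obtain ⟨e, he, -⟩ := exists_transport hNS hφN hφi
    have hb₂ := congr_mem hEi hNT hφN hφi e he hb'
    have hN₂c : WCentric F T N₂ := hY₂.mono hY₂N hN₂T
    obtain ⟨h, -, hh, hhe⟩ := goodLift_of_kGen hS hE hN₂ hN₂c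
      (ih N₂ hN₂T (by rw [isConj_card hNN₂]; exact hNcard) hN₂c hb₂)
      (by rwa [MulEquiv.orderOf_eq])
    have hval : ∀ x ∈ N, autFn (MulAut.congr e b') (φ x) = φ (autFn b' x) := fun x hx => by
      lift x to N using hx
      rw [← he x, autFn_coe, show (MulAut.congr e b') (e x) = e (b' x) by simp [MulAut.congr], he, autFn_coe]
    have hφY := hφV.mono (le_sup_left : Y ≤ _)
    obtain ⟨eY, heY, -⟩ := exists_transport hYS hφY rfl
    have hbY : ∀ y ∈ Y, autFn h (φ y) = autFn (MulAut.congr eY b) (φ y) := fun y hy => by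
      rw [hhe _ (hY₂N (mem_img_of_mem hy)), hval y (hYN hy), hi y hy]
      lift y to Y using hy
      rw [← heY y, autFn_coe (MulAut.congr eY b), show (MulAut.congr eY b) (eY y) = eY (b y) by simp [MulAut.congr],
        heY, autFn_coe]
    have hbY' : ∀ z ∈ Y₂, autFn h z = autFn (MulAut.congr eY b) z := fun z hz => by
      obtain ⟨y, hy, rfl⟩ := hφY.mem_img.1 hz
      exact hbY y hy
    have hl := compatLift_of_normalizer hS hE hY₂ hfc₂ hY₂N hN₂T hN₂Y hC₂ hN₂ hh
      (fun z hz => hbY' z hz ▸ autFn_mem _ hz) (congr_mem hEi hY.1 hφY rfl eY heY hb) hbY'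
    obtain ⟨ψ, hψ, hψφ, hψi⟩ := hφV.exists_inv
    rw [hφV.img_sup, hC] at hψ hψi
    have hiY : img ψ Y₂ = Y := by
      rw [← (hφV.mono le_sup_left).img_comp]
      exact (img_congr fun x hx => hψφ x (Subgroup.mem_sup_left hx)).trans (img_id Y)
    have hiC : img ψ (centralizerIn S Y₂) = centralizerIn S Y := by
      rw [← hC, ← (hφV.mono le_sup_right).img_comp]
      exact (img_congr fun x hx => hψφ x (Subgroup.mem_sup_right hx)).trans (img_id _)
    refine gens_mem_kGen hn (Or.inr ⟨hco, CompatLift.transport st (le_inf hY₂.1 hY₂.1) hψ hiY hiC hl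
      fun z hz => ?_⟩)
    obtain ⟨y, hy, rfl⟩ := hφY.mem_img.1 hz
    rw [hψφ y (Subgroup.mem_sup_left hy)]
    lift y to Y using hy
    rw [← heY y, autFn_coe (MulAut.congr eY b), show (MulAut.congr eY b) (eY y) = eY (b y) by simp [MulAut.congr],
      heY, autFn_coe, hψφ _ (Subgroup.mem_sup_left (b y).2)]
  intro a ha
  set A := E.autGroup Y
  obtain ⟨-, Syl, hSyl⟩ := hA
  haveI : ((kGen p F E E Y).subgroupOf A).Normal := ⟨fun k hk b => hKn b b.2 k hk⟩
  have hle : (Syl : Subgroup A) ≤ (kGen p F E E Y).subgroupOf A := by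
    rw [hSyl]
    exact fun x hx => hAK hx
  have hmem : (⟨a, ha⟩ : A) ∈ ((Subgroup.normalizer ((Syl : Subgroup A) : Set A) ⊔
      (kGen p F E E Y).subgroupOf A : Subgroup A) : Set A) := by
    rw [show Subgroup.normalizer ((Syl : Subgroup A) : Set A) ⊔ (kGen p F E E Y).subgroupOf A = ⊤ from
      Sylow.normalizer_sup_eq_top' Syl hle]
    exact Subgroup.mem_top _
  rw [Subgroup.mul_normal] at hmem
  obtain ⟨n, hn', k, hk, hnk⟩ := hmem
  rw [show a = (n : MulAut Y) * (k : MulAut Y) from (congrArg Subtype.val hnk).symm]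
  refine mul_mem ?_ hk
  obtain ⟨j, hj⟩ := CfsgLib.Fusion.Basic.exists_pow_coprime (p := p) (n : MulAut Y)
  have h1 : ((n : MulAut Y) ^ p ^ j) ∈ kGen p F E E Y := by
    refine hnorm _ (pow_mem n.2 _) (fun c hc => ?_) hj
    have hcA : c ∈ A := autInducedBy_le_autGroup hY.1 hc
    have h2 := (Subgroup.mem_normalizer_iff.1 (pow_mem hn' (p ^ j)) ⟨c, hcA⟩).1 (by rw [hSyl]; exact hc)
    rw [hSyl] at h2
    exact h2
  obtain ⟨i, r, l, hm, hr, -, hil, hi1⟩ := exists_exponent (p := p) j (orderOf_pos (n : MulAut Y))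
  -- split off the part of `p`-power order
  have h2 : (n : MulAut Y) ^ r ∈ kGen p F E E Y :=
    hpel _ (pow_mem n.2 _) l (by rw [← pow_mul, mul_comm, ← hm, pow_orderOf_eq_one])
  obtain ⟨u, v, huv⟩ : ∃ u v : ℤ, (r : ℤ) * u + ((p ^ j : ℕ) : ℤ) * v = 1 := by
    refine ⟨Nat.gcdA r (p ^ j), Nat.gcdB r (p ^ j), ?_⟩
    rw [← Nat.gcd_eq_gcd_ab, Nat.Coprime.gcd_eq_one (hr.pow_right j)]
    rfl
  rw [show (n : MulAut Y) = ((n : MulAut Y) ^ r) ^ u * ((n : MulAut Y) ^ p ^ j) ^ v by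
    rw [← zpow_natCast _ r, ← zpow_natCast _ (p ^ j), ← zpow_mul, ← zpow_mul, ← zpow_add, huv, zpow_one]]
  exact mul_mem (zpow_mem h2 u) (zpow_mem h1 v)

/-- Equality with the generated group. -/
theorem autGroup_eq_kGen (hS : IsPGroup p S) (hE : E.IsNormalIn F p) (hY : WCentric F T Y) :
    E.autGroup Y = kGen p F E E Y :=
  le_antisymm (autGroup_le_kGen hS hE Y hY) fun _ hb => (kGen_le (setup hS hE) (le_inf hY.1 hY.1) hb).1

end CfsgLib.Fsys.EProd
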