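import Cfsg.Agent.Lib.FusionSystem.EProd.Decomp
import Cfsg.Agent.Lib.FusionSystem.NormalCentralizerClosed
import Cfsg.Agent.Lib.FusionSystem.CoreDisplacement
import Mathlib.GroupTheory.Nilpotent

/-! Coprime automorphisms fixing the centralizer in a strongly closed subgroup extend to fix all of it. -/

set_option autoImplicit false

namespace CfsgLib.Fsys.EProd

open Cfsg Cfsg.FusionSystem CfsgLib.Fsys.WNR CfsgLib.Fsys.Meet
open Cfsg.FusionSystem (centralizerIn normalizerIn)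
open scoped commutatorElement Pointwise

universe u

/-- A coprime automorphism of a finite `p`-group fixing a subgroup and its centralizer in an invariant normal
subgroup fixes the normal subgroup. -/
theorem fix_of_fix_centralizer {G : Type u} [Group G] [Finite G] {p : ℕ} [Fact p.Prime] (hG : IsPGroup p G)
    (φ : MulAut G) (hco : Nat.Coprime (orderOf φ) p) (A : Subgroup G) [A.Normal]
    (hAinv : ∀ a ∈ A, φ a ∈ A) (X : Subgroup G) (hX : ∀ x ∈ X, φ x = x)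
    (hC : ∀ a ∈ A, (∀ x ∈ X, x * a = a * x) → φ a = a) : ∀ a ∈ A, φ a = a := by
  classical
  let D : Subgroup G := A ⊓ (MulEquiv.toMonoidHom φ).eqLocus (MonoidHom.id G)
  have hmemD : ∀ {a : G}, a ∈ A → φ a = a → a ∈ D := fun ha he => ⟨ha, he⟩
  suffices hle : A ≤ D from fun a ha => (hle ha).2
  by_contra hne
  have hlt : D < A := lt_of_le_of_ne inf_le_left fun e => hne e.ge
  obtain ⟨m, hm, ⟨-, hmn⟩, hmD⟩ := exists_mem_normalizer_not_mem (S := (⊤ : Subgroup G)) (p := p)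
    (hG.to_subgroup _) le_top hlt
  haveI := hG.isNilpotent
  obtain ⟨n, hn⟩ := Subgroup.nilpotent_iff_lowerCentralSeries.1 (inferInstance : Group.IsNilpotent G)
  have hxn : ∀ x ∈ X, x ∈ Subgroup.normalizer (D : Set G) := by
    refine fun x hx => mem_normalizer_of_map_le fun d hd => ?_
    refine hmemD (Subgroup.Normal.conj_mem inferInstance d hd.1 x) ?_
    have hdd : φ d = d := hd.2
    rw [map_mul, map_mul, map_inv, hX x hx, hdd]
  have key : ∀ (j k : ℕ), n ≤ k + j → ∀ a, a ∈ A → a ∈ Subgroup.normalizer (D : Set G) →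
      a ∈ (⊤ : Subgroup G).lowerCentralSeries k → a ∈ D := by
    intro j
    induction j with
    | zero =>
      intro k hk a _ _ ha
      have h1 := Subgroup.lowerCentralSeries_antitone (S := (⊤ : Subgroup G)) (by omega : n ≤ k) ha
      rw [hn, Subgroup.mem_bot] at h1
      rw [h1]
      exact one_mem _
    | succ j ih =>
      intro k hk a haA haN ha
      have hb : ∀ x ∈ X, a⁻¹ * (x * a * x⁻¹) ∈ D := fun x hx => by
        refine ih (k + 1) (by omega) _ (A.mul_mem (A.inv_mem haA) (Subgroup.Normal.conj_mem inferInstance a haA x))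
          (Subgroup.mul_mem _ (Subgroup.inv_mem _ haN)
            (Subgroup.mul_mem _ (Subgroup.mul_mem _ (hxn x hx) haN) (Subgroup.inv_mem _ (hxn x hx)))) ?_
        rw [Subgroup.lowerCentralSeries_succ, show a⁻¹ * (x * a * x⁻¹) = ⁅a⁻¹, x⁆ by
          rw [commutatorElement_def]; group]
        exact Subgroup.commutator_mem_commutator (Subgroup.inv_mem _ ha) (Subgroup.mem_top x)
      set e := a⁻¹ * φ a with he
      have heA : e ∈ A := A.mul_mem (A.inv_mem haA) (hAinv a haA)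
      have hed : ∀ d ∈ D, e * d = d * e := fun d hd => by
        have hdd : φ d = d := hd.2
        have h1 : φ (a * d * a⁻¹) = a * d * a⁻¹ := ((mem_normalizer_iff'.1 haN).1 d hd).2
        rw [map_mul, map_mul, map_inv, hdd] at h1
        calc e * d = a⁻¹ * (φ a * d * (φ a)⁻¹) * φ a := by rw [he]; group
          _ = a⁻¹ * (a * d * a⁻¹) * φ a := by rw [h1]
          _ = _ := by rw [he]; group
      have hex : ∀ x ∈ X, x * e = e * x := fun x hx => by
        obtain ⟨d, hd, hde⟩ : ∃ d ∈ D, x * a * x⁻¹ = a * d := ⟨_, hb x hx, by group⟩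
        have hdd : φ d = d := hd.2
        have h1 := congrArg φ hde
        rw [map_mul, map_mul, map_inv, hX x hx, map_mul, hdd] at h1
        have h2 : x * e * x⁻¹ = e :=
          calc x * e * x⁻¹ = (x * a * x⁻¹)⁻¹ * (x * φ a * x⁻¹) := by rw [he]; group
            _ = (a * d)⁻¹ * (φ a * d) := by rw [hde, h1]
            _ = d⁻¹ * (e * d) := by rw [he]; group
            _ = e := by rw [hed d hd]; group
        exact mul_inv_eq_iff_eq_mul.1 h2
      have heφ : φ e = e := hC e heA hex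
      have hpow : ∀ i : ℕ, (φ ^ i) a = a * e ^ i := fun i => by
        induction i with
        | zero => simp
        | succ i ihi =>
          rw [pow_succ', MulAut.mul_apply, ihi]
          show φ (a * e ^ i) = _
          rw [map_mul, map_pow, heφ, pow_succ', ← mul_assoc, show a * e = φ a by rw [he]; group]
      have h0 := hpow (orderOf φ)
      rw [pow_orderOf_eq_one, MulAut.one_apply] at h0
      have he0 : e ^ orderOf φ = 1 := mul_left_cancel (a := a) (h0.symm.trans (mul_one a).symm)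
      obtain ⟨i, hi⟩ := hG e
      have he1 : e = 1 := orderOf_eq_one_iff.1 <| Nat.eq_one_of_dvd_coprimes (hco.pow_right i)
        (orderOf_dvd_of_pow_eq_one he0) (orderOf_dvd_of_pow_eq_one hi)
      exact hmemD haA (inv_mul_eq_one.1 (he.symm.trans he1)).symm
  exact hmD (key n 0 (by omega) m hm hmn (by
    show m ∈ (⊤ : Subgroup G).lowerCentralSeries 0
    exact Subgroup.mem_top m))

variable {Ω : Type u} [Group Ω] {S T : Subgroup Ω} [Finite S] {F : FusionSystem S} {E : FusionSystem T}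
  {p : ℕ} [Fact p.Prime] {P Q X Y : Subgroup Ω}

/-- The centralizer in `T` is preserved by the maps on it. -/
def MaxCent (F : FusionSystem S) (T X : Subgroup Ω) : Prop :=
  ∀ f : Ω → Ω, Fn F (X ⊔ centralizerIn T X) f → centralizerIn T (img f X) ≤ img f (centralizerIn T X)

theorem maxCent_of_fullyCentralized (hS : IsPGroup p S) (hF : F.IsSaturated p) (hT : F.StronglyClosed T)
    (hX : F.IsFullyCentralized X) : MaxCent F T X := by
  intro f hf
  have hCT : centralizerIn T X ≤ T := inf_le_left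
  have hfX := hf.mono (le_sup_left : X ≤ X ⊔ centralizerIn T X)
  have hfC := hf.mono (le_sup_right : centralizerIn T X ≤ X ⊔ centralizerIn T X)
  haveI : Finite ↥(centralizerIn T (img f X)) := finite_of_le_base ((inf_le_left : centralizerIn T _ ≤ T).trans hT.1)
  haveI : Finite ↥(centralizerIn T X) := finite_of_le_base (hCT.trans hT.1)
  have hle : img f (centralizerIn T X) ≤ centralizerIn T (img f X) := img_le fun c hc =>
    ⟨sc_apply hT hf (Subgroup.mem_sup_right hc) (hCT hc),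
      (hf.map_centralizer le_sup_left rfl (Subgroup.mem_sup_right hc) ⟨hT.1 hc.1, hc.2⟩).2⟩
  obtain ⟨k, hk, -, hki⟩ := hfX.exists_inv
  obtain ⟨N, g, hg, hXN, hN, hge⟩ := receptive_extend (fullyCentralized_receptive hS hF hX) hk hki
  have hsub : centralizerIn S (img f X) ≤ N := fun c hc => (hN c).2 (inExt_of_commute hc)
  have hCle : centralizerIn T (img f X) ≤ N := fun c hc => hsub ⟨hT.1 hc.1, hc.2⟩
  have hgi : img g (img f X) = X := (img_congr hge).trans hki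
  refine (eq_of_le_of_card (S := S) ((inf_le_left : centralizerIn T _ ≤ T).trans hT.1) hle ?_).ge
  rw [hfC.card_img]
  exact card_le_of_map_le ((inf_le_left : centralizerIn T X ≤ T).trans hT.1) (hg.mono hCle) fun c hc =>
    ⟨sc_apply hT hg (hCle hc) hc.1, (hg.map_centralizer hXN hgi (hCle hc) ⟨hT.1 hc.1, hc.2⟩).2⟩

/-- A coprime automorphism fixing `C_T(X)` and the intersection with `T` extends, after moving, to fix `T`. -/
theorem climb (dt : Data F E p) : ∀ (n : ℕ) {Y X : Subgroup Ω}, Nat.card S + 1 - Nat.card Y = n →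
    ∀ {φ : MulAut Y}, φ ∈ F.autGroup Y → Nat.Coprime (orderOf φ) p → Y ≤ S → X ≤ Y →
    (∀ x ∈ X, autFn φ x = x) → (∀ x ∈ Y ⊓ T, autFn φ x = x) → centralizerIn T X ≤ Y → MaxCent F T X →
    ∃ (g : Ω → Ω) (V : Subgroup Ω) (ψ : MulAut V), Fn F Y g ∧ img g Y ≤ V ∧ V ≤ S ∧ T ≤ V ∧ ψ ∈ F.autGroup V ∧
      Nat.Coprime (orderOf ψ) p ∧ (∀ t ∈ T, autFn ψ t = t) ∧ ∀ y ∈ Y, autFn ψ (g y) = g (autFn φ y) := by
  intro n
  induction n using Nat.strong_induction_on with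
  | _ n ih =>
  intro Y X hn φ hφ hco hY hXY hfX hfT hCY hmax
  have hT := dt.sc
  haveI := finite_of_le_base hY
  haveI : Finite T := finite_of_le_base hT.1
  by_cases hTY : T ≤ Y
  · exact ⟨id, Y, φ, fn_id hY, (img_id Y).le, hY, hTY, hφ, hco, fun t ht => hfT t ⟨hTY ht, ht⟩, fun y _ => rfl⟩
  obtain ⟨Y₁, hYY₁, hY₁n⟩ := exists_fullyNormalized (F := F) hY
  have hY₁ := hY₁n.1
  have hrec := fullyNormalized_receptive dt.isp dt.sat hY₁n
  obtain ⟨g, hg, -, hgi⟩ := exists_normalizer_map dt.isp (fullyNormalized_good dt.isp dt.sat hY₁n).1 hrec hYY₁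
  have hgY := hg.mono (le_normalizerIn hY)
  haveI := finite_of_le_base hY₁
  obtain ⟨e, he, hmap⟩ := exists_transport hY hgY hgi
  set φ₁ := MulAut.congr e φ
  have hφ₁ : φ₁ ∈ F.autGroup Y₁ := hmap ▸ ⟨φ, hφ, rfl⟩
  have hco₁ : Nat.Coprime (orderOf φ₁) p := by rwa [show φ₁ = MulAut.congr e φ from rfl, MulEquiv.orderOf_eq]
  have hφv : ∀ y ∈ Y, autFn φ₁ (g y) = g (autFn φ y) := fun y hy => by
    lift y to Y using hy
    rw [← he y, autFn_coe, show φ₁ (e y) = e (φ y) by simp [φ₁, MulAut.congr], he, autFn_coe]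
  have hY₁T : Y₁ ⊓ T = img g (Y ⊓ T) := by rw [← hgi]; exact img_inf_sc hT hgY
  have hfT₁ : ∀ x ∈ Y₁ ⊓ T, autFn φ₁ x = x := fun x hx => by
    obtain ⟨y, hy, rfl⟩ := (hgY.mono inf_le_left).mem_img.1 (hY₁T.le hx)
    rw [hφv y hy.1, hfT y hy]
  set X₁ := img g X
  have hX₁Y₁ : X₁ ≤ Y₁ := hgi ▸ img_mono hXY
  have hfX₁ : ∀ x ∈ X₁, autFn φ₁ x = x := fun x hx => by
    obtain ⟨y, hy, rfl⟩ := (hgY.mono hXY).mem_img.1 hx
    rw [hφv y (hXY hy), hfX y hy]
  have hXC : X ⊔ centralizerIn T X ≤ Y := sup_le hXY hCY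
  have hC₁ : centralizerIn T X₁ ≤ img g (centralizerIn T X) := hmax g (hgY.mono hXC)
  have hCY₁ : centralizerIn T X₁ ≤ Y₁ := hC₁.trans (hgi ▸ img_mono hCY)
  have hgCle : img g (centralizerIn T X) ≤ centralizerIn T X₁ := img_le fun c hc =>
    ⟨sc_apply hT hgY (hCY hc) hc.1, (hgY.map_centralizer hXY rfl (hCY hc) ⟨hT.1 hc.1, hc.2⟩).2⟩
  have hmax₁ : MaxCent F T X₁ := fun f hf => by
    have hm : ∀ x ∈ X ⊔ centralizerIn T X, g x ∈ X₁ ⊔ centralizerIn T X₁ := fun x hx => by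
      have h1 := (hgY.mono hXC).img_sup ▸ mem_img_of_mem (f := g) hx
      exact sup_le_sup_left hgCle _ h1
    have hc := (hgY.mono hXC).comp hf hm
    have h1 := hmax _ hc
    rw [(hgY.mono hXY).img_comp, (hgY.mono hCY).img_comp] at h1
    exact h1.trans (img_mono hgCle)
  -- extend over the normalizer in `T`
  obtain ⟨N, h, hh, hY₁N, hN, hhe⟩ := receptive_extend hrec ((mem_autGroup_iff_fn hY₁).1 hφ₁) (img_autFn φ₁)
  set M := normalizerIn T Y₁
  have hφ₁f := (mem_autGroup_iff_fn hY₁).1 hφ₁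
  have hφ₁i := (mem_autGroup_iff_fn hY₁).1 (inv_mem hφ₁)
  have hMN : M ≤ N := fun m hm => by
    have hmS : m ∈ S := hT.1 hm.1
    have hmn := mem_normalizer_iff'.1 hm.2
    set τ := conjAut Y₁ hm.2
    have hτA : τ ∈ F.autGroup Y₁ := autInducedBy_le_autGroup hY₁ (conjAut_mem_autInducedBy hm.2 hmS)
    have hτv : ∀ y ∈ Y₁, autFn τ y = m * y * m⁻¹ := fun y hy => (autFn_coe τ ⟨y, hy⟩).trans (conjAut_coe _ _)
    have hτd : ∀ y ∈ Y₁, y⁻¹ * autFn τ y ∈ Y₁ ⊓ T := fun y hy => by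
      refine ⟨Y₁.mul_mem (Y₁.inv_mem hy) (autFn_mem τ hy), ?_⟩
      rw [hτv y hy, show y⁻¹ * (m * y * m⁻¹) = y⁻¹ * m * y⁻¹⁻¹ * m⁻¹ by group]
      exact T.mul_mem (sc_conj hT (S.inv_mem (hY₁ hy)) hm.1) (T.inv_mem hm.1)
    have hτi : ∀ y ∈ Y₁, autFn τ⁻¹ y = m⁻¹ * y * m := fun y hy => by
      have hu := hmn.2 y hy
      have h1 := autFn_inv_apply τ hu
      rwa [hτv _ hu, show m * (m⁻¹ * y * m) * m⁻¹ = y by group] at h1
    set σ := φ₁ * τ * φ₁⁻¹ * τ⁻¹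
    have hσA : σ ∈ F.autGroup Y₁ := mul_mem (mul_mem (mul_mem hφ₁ hτA) (inv_mem hφ₁)) (inv_mem hτA)
    have hσv : ∀ y ∈ Y₁, autFn σ y = autFn φ₁ (autFn τ (autFn φ₁⁻¹ (autFn τ⁻¹ y))) := fun y hy => by
      have h1 := autFn_mem τ⁻¹ hy
      rw [autFn_mul _ _ hy, autFn_mul _ _ h1, autFn_mul _ _ (autFn_mem _ h1)]
    have hfix : ∀ y ∈ Y₁ ⊓ T, autFn σ y = y := fun y hy => by
      have hv : autFn τ⁻¹ y ∈ Y₁ ⊓ T := ⟨autFn_mem _ hy.1, by
        rw [hτi y hy.1]; simpa using sc_conj hT (S.inv_mem hmS) hy.2⟩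
      have h1 : autFn φ₁⁻¹ (autFn τ⁻¹ y) = autFn τ⁻¹ y := by
        conv_lhs => rw [← hfT₁ _ hv]
        exact autFn_inv_apply φ₁ hv.1
      rw [hσv y hy.1, h1, autFn_apply_inv τ hy.1, hfT₁ y hy]
    have hd : ∀ y ∈ Y₁, y⁻¹ * autFn σ y ∈ Y₁ ⊓ T := fun y hy => by
      have hu := autFn_mem τ⁻¹ hy
      set z := autFn φ₁⁻¹ (autFn τ⁻¹ y)
      have hz : z ∈ Y₁ := autFn_mem _ hu
      have hzd := hτd z hz
      rw [hσv y hy, ← mul_inv_cancel_left z (autFn τ z), hφ₁f.map_mul hz hzd.1, autFn_apply_inv φ₁ hu,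
        hfT₁ _ hzd, ← mul_assoc]
      refine Subgroup.mul_mem _ ?_ hzd
      have h1 := hτd _ hu
      rw [autFn_apply_inv τ hy] at h1
      have h2 := Subgroup.inv_mem _ h1
      rwa [mul_inv_rev, inv_inv] at h2
    obtain ⟨s, hs, hse⟩ := mem_autInducedBy.1 (stab_mem_autInducedBy dt hY₁n hσA hfix hd)
    refine (hN m).2 ⟨hmS, hm.2, s * m, S.mul_mem hs hmS, fun y hy => ?_⟩
    have hy1 := autFn_mem φ₁ hy
    have hy2 := autFn_mem τ hy1
    rw [← hτv y hy]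
    have h1 := hse ⟨_, hy2⟩
    rw [← autFn_coe σ, hσv _ hy2, autFn_inv_apply τ hy1, autFn_inv_apply φ₁ hy] at h1
    refine h1.trans ?_
    show s * autFn τ (autFn φ₁ y) * s⁻¹ = _
    rw [hτv _ hy1]
    group
  set Y₂ := Y₁ ⊔ M
  have hY₂ : Y₂ ≤ S := sup_le hY₁ (inf_le_left.trans hT.1)
  have hY₂N : Y₂ ≤ N := sup_le hY₁N hMN
  haveI := finite_of_le_base hY₂
  have hY₁i : img h Y₁ = Y₁ := (img_congr hhe).trans (img_autFn φ₁)
  have hY₂n : Y₂ ≤ Subgroup.normalizer (Y₁ : Set Ω) := sup_le Subgroup.le_normalizer fun m hm => hm.2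
  have hhY₂ : ∀ y ∈ Y₂, h y ∈ Y₂ := fun y hy => by
    have hle : img h Y₂ ≤ Y₂ := by
      rw [(hh.mono hY₂N).img_sup, hY₁i]
      refine sup_le le_sup_left ((img_le fun m hm => ?_).trans le_sup_right)
      exact ⟨sc_apply hT hh (hMN hm) hm.1, (hh.map_normalizer hY₁N hY₁i (hMN hm) hm.2).2⟩
    exact hle (mem_img_of_mem hy)
  obtain ⟨φ', hφ', hφ'e⟩ := exists_aut_of_fn (hh.mono hY₂N) ((hh.mono hY₂N).img_eq_self hhY₂)
  haveI : Finite (MulAut Y₂) := Finite.of_injective (fun f : MulAut Y₂ => (f : Y₂ → Y₂)) DFunLike.coe_injective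
  obtain ⟨q, hqe, hqc⟩ := CoreLayer.exists_coprime_pow (p := p) hY₂ (le_sup_left : Y₁ ≤ Y₂) (β := φ') (a := φ₁)
    (fun y hy => by rw [autFn_coe φ' ⟨y, Subgroup.mem_sup_left hy⟩, hφ'e]; exact hhe y hy) hco₁
  set φ₂ := φ' ^ q
  have hφ₂ : φ₂ ∈ F.autGroup Y₂ := pow_mem hφ' q
  have hφ₂f := (mem_autGroup_iff_fn hY₂).1 hφ₂
  haveI : ((Y₂ ⊓ T).subgroupOf Y₂).Normal := ⟨fun a ha v => ⟨(v * a * v⁻¹).2, sc_conj hT (hY₂ v.2) ha.2⟩⟩
  have hfT₂ : ∀ x ∈ Y₂ ⊓ T, autFn φ₂ x = x := by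
    intro x hx
    have hmain := fix_of_fix_centralizer (p := p) (dt.isp.to_le hY₂) φ₂ hqc ((Y₂ ⊓ T).subgroupOf Y₂)
      (fun a ha => ⟨(φ₂ a).2, show ((φ₂ a : Y₂) : Ω) ∈ T by rw [← autFn_coe]; exact sc_apply hT hφ₂f a.2 ha.2⟩)
      (X₁.subgroupOf Y₂) (fun a ha => Subtype.ext (by
        rw [← autFn_coe, hqe (a : Ω) (hX₁Y₁ ha)]; exact hfX₁ _ ha))
      (fun a ha hc => Subtype.ext (by
        have haC : (a : Ω) ∈ centralizerIn T X₁ := mem_centralizerIn.2 ⟨ha.2, fun z hz =>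
          congrArg Subtype.val (hc ⟨z, Subgroup.mem_sup_left (hX₁Y₁ hz)⟩ hz)⟩
        rw [← autFn_coe, hqe _ (hCY₁ haC)]
        exact hfT₁ _ ⟨hCY₁ haC, ha.2⟩))
    rw [autFn_coe φ₂ ⟨x, hx.1⟩, hmain ⟨x, hx.1⟩ hx]
  have hcard : Nat.card Y < Nat.card Y₂ := by
    rw [← isConj_card hYY₁]
    refine Set.Finite.card_lt_card (Set.toFinite (Y₂ : Set Ω))
      (SetLike.coe_ssubset_coe.2 (lt_of_le_of_ne le_sup_left fun e' => ?_))
    have hTY₁ : ¬ T ≤ Y₁ := fun hle => hTY <| by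
      have h1 : Nat.card T ≤ Nat.card ↥(Y ⊓ T) := by
        rw [← (hgY.mono (inf_le_left : Y ⊓ T ≤ Y)).card_img, ← hY₁T, inf_eq_right.2 hle]
      exact (eq_of_le_of_card hT.1 inf_le_right h1).ge.trans inf_le_left
    have hlt : Y₁ < Y₁ ⊔ T := lt_of_le_of_ne le_sup_left fun e => hTY₁ (e.ge.trans' le_sup_right)
    obtain ⟨m, hmM, hm, hmY⟩ := exists_mem_normalizer_not_mem dt.isp (sup_le hY₁ hT.1) hlt
    obtain ⟨t, ht, u, hu, rfl⟩ := mem_sup_base dt hY₁ (sup_comm Y₁ T ▸ hmM)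
    refine hmY (Y₁.mul_mem ?_ hu)
    refine e'.ge (Subgroup.mem_sup_right ⟨ht, ?_⟩)
    rw [show t = t * u * u⁻¹ by group]
    exact Subgroup.mul_mem _ hm.2 (Subgroup.inv_mem _ (Subgroup.le_normalizer hu))
  have hle₂ := Subgroup.card_le_of_le hY₂
  obtain ⟨g₂, V, ψ, hg₂, hg₂V, hVS, hTV, hψ, hψc, hψT, hψv⟩ := ih (Nat.card S + 1 - Nat.card Y₂) (by omega)
    (Y := Y₂) (X := X₁) rfl hφ₂ hqc hY₂ (hX₁Y₁.trans le_sup_left)
    (fun x hx => (hqe x (hX₁Y₁ hx)).trans (hfX₁ x hx)) hfT₂ (hCY₁.trans le_sup_left) hmax₁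
  have hm : ∀ y ∈ Y, g y ∈ Y₂ := fun y hy => Subgroup.mem_sup_left (hgi ▸ mem_img_of_mem hy)
  refine ⟨g₂ ∘ g, V, ψ, hgY.comp hg₂ hm, img_le fun y hy => hg₂V (mem_img_of_mem (hm y hy)), hVS, hTV, hψ, hψc, hψT,
    fun y hy => ?_⟩
  show autFn ψ (g₂ (g y)) = g₂ (g (autFn φ y))
  rw [hψv _ (hm y hy), hqe _ (hgi ▸ mem_img_of_mem hy), hφv y hy]

/-- The displacement after the climb centralizes the strongly closed subgroup. -/
theorem climb_centralizes (dt : Data F E p) {Y : Subgroup Ω} {φ : MulAut Y} {g : Ω → Ω} {V : Subgroup Ω}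
    {ψ : MulAut V} (hg : Fn F Y g) (hgV : img g Y ≤ V) (hTV : T ≤ V) (hψ : ψ ∈ F.autGroup V) (hV : V ≤ S)
    (hψT : ∀ t ∈ T, autFn ψ t = t) (hψv : ∀ y ∈ Y, autFn ψ (g y) = g (autFn φ y)) {y : Ω} (hy : y ∈ Y) :
    (g y)⁻¹ * autFn ψ (g y) = g (y⁻¹ * autFn φ y) ∧ (g y)⁻¹ * autFn ψ (g y) ∈ centralizerIn S T := by
  have hv : g y ∈ V := hgV (mem_img_of_mem hy)
  have hψf := (mem_autGroup_iff_fn hV).1 hψ
  refine ⟨by rw [hψv y hy, hg.map_mul (Y.inv_mem hy) (autFn_mem φ hy), hg.map_inv hy], mem_centralizerIn.2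
    ⟨S.mul_mem (S.inv_mem (hV hv)) (hV (autFn_mem ψ hv)), fun t ht => ?_⟩⟩
  have hct : g y * t * (g y)⁻¹ ∈ T := sc_conj dt.sc (hV hv) ht
  have h1 := hψT _ hct
  rw [hψf.map_conj hv (hTV ht), hψT t ht] at h1
  calc t * ((g y)⁻¹ * autFn ψ (g y)) = (g y)⁻¹ * (g y * t * (g y)⁻¹) * autFn ψ (g y) := by group
    _ = (g y)⁻¹ * (autFn ψ (g y) * t * (autFn ψ (g y))⁻¹) * autFn ψ (g y) := by rw [h1]
    _ = _ := by group

end CfsgLib.Fsys.EProd
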