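import Cfsg.Agent.Lib.FusionSystem.EProd.CentralizerSub
import Cfsg.Agent.Lib.FusionSystem.EProd.Climb
import Cfsg.Agent.Lib.FusionSystem.CentralizerNormal
import Cfsg.Agent.Lib.FusionSystem.CoreLayer
import Cfsg.Agent.Lib.FusionSystem.CompTheory.Subnormal
import Cfsg.Agent.Lib.FusionSystem.CompTheory.Commute
import Cfsg.Agent.Lib.FusionSystem.CompTheory.LayerNormal
import Cfsg.Agent.Lib.FusionSystem.LocalModels

/-! The layer of the normalizer of a subgroup lies in the layer. -/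

set_option autoImplicit false

namespace CfsgLib.Fsys.EProd

open Cfsg Cfsg.FusionSystem CfsgLib.Fsys.WNR CfsgLib.Fsys.Meet CfsgLib.Fsys.CompT
open Cfsg.FusionSystem (centralizerIn normalizerIn)

universe u

variable {Ω : Type u} [Group Ω] {S T X U : Subgroup Ω} [Finite S] {F : FusionSystem S} {E : FusionSystem T}
  {p : ℕ} [Fact p.Prime]

/-- A coprime automorphism of a subgroup of `C_S(X)` fixing `C_T(X)` climbs to one fixing `T`. -/
theorem climb_coprime (dt : Data F E p) (hX : F.IsFullyCentralized X) {P : Subgroup Ω}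
    (hP : P ≤ centralizerIn S X) (hcomm : ∀ x ∈ P, ∀ w ∈ centralizerIn T X, w * x = x * w) {β : MulAut P}
    (hco : Nat.Coprime (orderOf β) p)
    (hext : ∃ ψ, Fn F (P ⊔ centralizerIn T X ⊔ X) ψ ∧ (∀ x ∈ P, ψ x = autFn β x) ∧
      (∀ w ∈ centralizerIn T X, ψ w = w) ∧ ∀ x ∈ X, ψ x = x) :
    ∃ (Y : Subgroup Ω) (g : Ω → Ω) (V : Subgroup Ω) (ψ : MulAut V), P ≤ Y ∧ Fn F Y g ∧ img g Y ≤ V ∧ V ≤ S ∧ T ≤ V ∧
      ψ ∈ F.autGroup V ∧ Nat.Coprime (orderOf ψ) p ∧ (∀ t ∈ T, autFn ψ t = t) ∧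
      ∀ x ∈ P, (g x)⁻¹ * autFn ψ (g x) = g (x⁻¹ * autFn β x) ∧ (g x)⁻¹ * autFn ψ (g x) ∈ centralizerIn S T := by
  obtain ⟨f, hf, hfP, hfW, hfX⟩ := hext
  set W := centralizerIn T X
  set Y := P ⊔ W ⊔ X
  have hY : Y ≤ S := hf.le
  have hPY : P ≤ Y := le_sup_left.trans le_sup_left
  have hWY : W ≤ Y := le_sup_right.trans le_sup_left
  have hfi : img f Y = Y := by
    rw [hf.img_sup, (hf.mono le_sup_left).img_sup, img_congr (f := f) (g := autFn β) hfP, img_autFn,
      img_congr (f := f) (g := id) hfW, img_id, img_congr (f := f) (g := id) hfX, img_id]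
  obtain ⟨φ, hφF, hφP, hφc, hφfix⟩ := exists_coprime_ext (G := F) hY hPY hf
    (fun x hx => hfi.le (mem_img_of_mem hx)) hfP hco
  have hφ : φ ∈ F.autGroup Y := (mem_autGroup_iff_fn hY).2 hφF
  have hφW : ∀ w ∈ W, autFn φ w = w := fun w hw => hφfix w (hWY hw) (hfW w hw)
  have hφX : ∀ x ∈ X, autFn φ x = x := fun x hx => hφfix x (Subgroup.mem_sup_right hx) (hfX x hx)
  have hPWX : ∀ a ∈ P ⊔ W, ∀ b ∈ X, a * b = b * a := fun a ha b hb => by
    have hle : P ⊔ W ≤ Subgroup.centralizer (X : Set Ω) := sup_le (fun x hx => (hP hx).2) fun x hx => hx.2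
    exact (hle ha b hb).symm
  have hPS := hP.trans centralizerIn_le
  haveI := finite_of_le_base hPS
  have hfT : ∀ t ∈ Y ⊓ T, autFn φ t = t := by
    intro t ht
    obtain ⟨a, ha, b, hb, rfl⟩ := mem_sup_of_commute hPWX ht.1
    obtain ⟨x, hx, w, hw, rfl⟩ := mem_sup_of_commute (fun x hx w hw => (hcomm x hx w hw).symm) ha
    have hval : autFn φ (x * w * b) = autFn β x * w * b := by
      rw [hφF.map_mul (le_sup_left (b := X) ha) (Subgroup.mem_sup_right hb),
        hφF.map_mul (hPY hx) (hWY hw), hφP x hx, hφW w hw, hφX b hb]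
    set d := x⁻¹ * autFn β x
    have hdP : d ∈ P := P.mul_mem (P.inv_mem hx) (autFn_mem β hx)
    have hdT : d ∈ T := by
      have h1 : (x * w * b)⁻¹ * autFn φ (x * w * b) ∈ T :=
        T.mul_mem (T.inv_mem ht.2) (sc_apply dt.sc hφF ht.1 ht.2)
      rw [hval] at h1
      have hdb : d * b = b * d := hPWX d (Subgroup.mem_sup_left hdP) b hb
      have hdw : w * d = d * w := hcomm d hdP w hw
      rwa [show (x * w * b)⁻¹ * (autFn β x * w * b) = d by
        calc (x * w * b)⁻¹ * (autFn β x * w * b) = b⁻¹ * w⁻¹ * (d * w) * b := by simp only [d]; group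
          _ = b⁻¹ * (d * b) := by rw [← hdw]; group
          _ = d := by rw [hdb]; group] at h1
    have hdW : d ∈ W := ⟨hdT, (hP hdP).2⟩
    have hd1 : autFn β d = d := by rw [← hφP d hdP]; exact hφW d hdW
    have hβf : ∀ j : ℕ, autFn (β ^ j) x = x * d ^ j := fun j => by
      induction j with
      | zero => rw [pow_zero, autFn_id hx, pow_zero, mul_one]
      | succ j ihj =>
        have hd' : ∀ i : ℕ, autFn β (x * d ^ i) = autFn β x * d ^ i := fun i => by
          have hfn : Fn F P (autFn β) := (hφF.mono hPY).congr hφP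
          have hdi : autFn β (d ^ i) = d ^ i := by
            induction i with
            | zero => rw [pow_zero]; exact hfn.map_one
            | succ i ihi => rw [pow_succ, hfn.map_mul (P.pow_mem hdP i) hdP, ihi, hd1]
          rw [hfn.map_mul hx (P.pow_mem hdP i), hdi]
        rw [pow_succ', autFn_mul _ _ hx, ihj, hd', pow_succ', ← mul_assoc, show x * d = autFn β x by simp [d]]
    have h0 := hβf (orderOf β)
    rw [pow_orderOf_eq_one, autFn_id hx] at h0
    have he0 : d ^ orderOf β = 1 := mul_left_cancel (a := x) (h0.symm.trans (mul_one x).symm)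
    obtain ⟨i, hi⟩ := (dt.isp.to_le hPS) ⟨d, hdP⟩
    have hde : d = 1 := orderOf_eq_one_iff.1 <| Nat.eq_one_of_dvd_coprimes (hco.pow_right i)
      (orderOf_dvd_of_pow_eq_one he0) (orderOf_dvd_of_pow_eq_one (congrArg Subtype.val hi))
    rw [hval, show autFn β x = x by rw [← mul_inv_cancel_left x (autFn β x)]; show x * d = x; rw [hde, mul_one]]
  obtain ⟨g, V, ψ, hg, hgV, hV, hTV, hψ, hψc, hψT, hψv⟩ := climb dt _ (Y := Y) (X := X) rfl hφ hφc hY le_sup_right
    hφX hfT hWY (maxCent_of_fullyCentralized dt.isp dt.sat dt.sc hX)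
  refine ⟨Y, g, V, ψ, hPY, hg, hgV, hV, hTV, hψ, hψc, hψT, fun x hx => ?_⟩
  have h := climb_centralizes dt hg hgV hTV hψ hV hψT hψv (hPY hx)
  rw [hφP x hx] at h
  exact h

/-- A component of a centralizer system is not centralized by the centralizer in the layer's base. -/
theorem not_centralizing (hS : IsPGroup p S) (hF : F.IsSaturated p) (hE : E.IsLayerOf F p)
    (hX : F.IsFullyCentralized X) {C : FusionSystem (centralizerIn S X)} (hC : F.IsCentralizerSystem X C)
    {Cm : FusionSystem U} (hCm : Cm.IsComponentIn C p) (hW : U ≤ centralizerIn (centralizerIn S X) (centralizerIn T X))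
    (hfix : FixesBy C Cm (centralizerIn T X)) : False := by
  classical
  have dt : Data F E p := ⟨hS, hE.1⟩
  set W := centralizerIn T X
  have hUS' : U ≤ centralizerIn S X := (CoreLayer.subnormal_le hCm.1).2
  have hUS : U ≤ S := hUS'.trans centralizerIn_le
  haveI := finite_of_le_base hUS
  haveI : Finite ↥(centralizerIn S X) := finite_of_le_base centralizerIn_le
  have hS'p : IsPGroup p ↥(centralizerIn S X) := hS.to_le centralizerIn_le
  have hCs : C.IsSaturated p := centralizerSystem_saturated hS hF hX hC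
  have hhyp : Cm.hyperfocalSubgroup p = U := hCm.2.2.1
  -- first the fixed subgroup
  have hΦ : U ≤ fixedSubgroup p F E := by
    rw [← hhyp]
    refine hyperfocal_le_of_coprime fun P hP β hβ hco x => ?_
    obtain ⟨ψ, hψ, hψβ, hψW⟩ := hfix P _ ((mem_autGroup_iff_fn hP).1 hβ)
    obtain ⟨-, -, f, hf, hfψ, hfX⟩ := (fn_centralizer hC).1 hψ
    obtain ⟨Y, g, V, φ, hPY, hg, hgV, hVS, hTV, hφ, hφc, hφT, hd⟩ := climb_coprime dt hX (hP.trans hUS')
      (fun y hy w hw => (hW (hP hy)).2 w hw) hco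
      ⟨f, hf, fun y hy => by rw [hfψ y (Subgroup.mem_sup_left hy), hψβ y hy],
        fun w hw => by rw [hfψ w (Subgroup.mem_sup_right hw), hψW w hw], hfX⟩
    obtain ⟨hdv, hdC⟩ := hd x x.2
    have hφf := (mem_autGroup_iff_fn hVS).1 hφ
    obtain ⟨D, hD⟩ := exists_centralizerSystem F dt.sc.1 (Q := T)
    have hΦsc := stronglyClosed_fixedSubgroup hS dt.nrm
    set d := (g x)⁻¹ * autFn φ (g x)
    have hgx : g x ∈ V := hgV (mem_img_of_mem (hPY x.2))
    have hdV : d ∈ V := V.mul_mem (V.inv_mem hgx) (autFn_mem φ hgx)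
    have hfoc : d⁻¹ * autFn φ d ∈ fixedSubgroup p F E := by
      refine focal_le_fixedSubgroup hS dt.nrm hD (Subgroup.subset_closure ?_)
      have hle : (V ⊓ centralizerIn S T) ⊔ T ≤ V := sup_le inf_le_left hTV
      have hDf : Fn D (V ⊓ centralizerIn S T) (autFn φ) :=
        fn_centralizer_of_fix hD inf_le_right (hφf.mono hle) hφT
      obtain ⟨θ, hθ, hθe⟩ := hDf
      exact ⟨_, θ, ⟨d, hdV, hdC⟩, hθ, by rw [hθe]⟩
    have hdΦ : d ∈ fixedSubgroup p F E := by
      have h := CoreLayer.disp_mem_of_coprime (p := p) hS (R := V ⊓ fixedSubgroup p F E) hVS inf_le_left hφc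
        (fun r hr => ⟨autFn_mem φ hr.1, sc_apply hΦsc hφf hr.1 hr.2⟩)
        (fun v hv r hr => ⟨V.mul_mem (V.mul_mem hv hr.1) (V.inv_mem hv), sc_conj hΦsc (hVS hv) hr.2⟩)
        (q := g x) hgx ⟨V.mul_mem (V.inv_mem hdV) (autFn_mem φ hdV), hfoc⟩
      exact h.2
    obtain ⟨k, hk, hkg, -⟩ := hg.exists_inv
    have hm : (x : Ω)⁻¹ * autFn β x ∈ Y :=
      hPY (P.mul_mem (P.inv_mem x.2) (autFn_mem β x.2))
    rw [hdv] at hdΦ
    have h := sc_apply hΦsc hk (mem_img_of_mem hm) hdΦ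
    rwa [hkg _ hm, autFn_coe] at h
  -- then the centralizer of the core
  have hnQ : F.IsNormal F.core := core_normal
  obtain ⟨D₂, -, hD₂n⟩ := CoreLayer.exists_normal_centralizer hS hF hnQ
  have hKsc : F.StronglyClosed (centralizerIn S F.core) := hD₂n.1.2.2.2.1
  have dt₂ : Data F (innerFusionSystem F.core) p := ⟨hS, Comp.inner_normalIn hS hF hnQ⟩
  set W₂ := centralizerIn F.core X
  have hW₂ : W₂ ≤ centralizerIn S X := fun x hx => ⟨core_le_base hx.1, hx.2⟩
  have hW₂n : C.IsNormal W₂ := normal_iff_fn.2 ⟨hW₂, fun P f hf => by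
    obtain ⟨hP, -, g, hg, hge, hgX⟩ := (fn_centralizer hC).1 hf
    obtain ⟨h, hh, hhg, hhQ⟩ := (normal_iff_fn.1 hnQ).2 _ _ hg
    have hle : P ⊔ W₂ ⊔ X ≤ P ⊔ X ⊔ F.core := sup_le
      (sup_le (le_sup_left.trans le_sup_left) ((inf_le_left : W₂ ≤ F.core).trans le_sup_right))
      (le_sup_right.trans le_sup_left)
    have hhX : ∀ x ∈ X, h x = x := fun x hx => by rw [hhg x (Subgroup.mem_sup_right hx), hgX x hx]
    refine ⟨h, fn_centralizer_of_fix hC (sup_le hP hW₂) (hh.mono hle) hhX,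
      fun x hx => by rw [hhg x (Subgroup.mem_sup_left hx), hge x hx], ?_⟩
    haveI := finite_of_le_base (hW₂.trans centralizerIn_le)
    refine ((hh.mono hle).mono (le_sup_right.trans le_sup_left : W₂ ≤ P ⊔ W₂ ⊔ X)).img_eq_self fun w hw => ?_
    exact ⟨hhQ.le (mem_img_of_mem hw.1), ((hh.mono hle).map_centralizer le_sup_right
      ((img_congr (g := id) hhX).trans (img_id X)) (Subgroup.mem_sup_left (Subgroup.mem_sup_right hw)) (hW₂ hw)).2⟩⟩
  obtain ⟨hUW₂, hfix₂⟩ := CoreLayer.centralized_of_subnormal hCm.1 rfl inferInstance hS'p hCs hCm.2 hW₂n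
  have hK : U ≤ centralizerIn S F.core := by
    rw [← hhyp]
    refine hyperfocal_le_of_coprime fun P hP β hβ hco x => ?_
    obtain ⟨ψ, hψ, hψβ, hψW⟩ := hfix₂ P _ ((mem_autGroup_iff_fn hP).1 hβ)
    obtain ⟨-, -, f, hf, hfψ, hfX⟩ := (fn_centralizer hC).1 hψ
    obtain ⟨Y, g, V, φ, hPY, hg, hgV, -, -, -, -, -, hd⟩ := climb_coprime dt₂ hX (hP.trans hUS')
      (fun y hy w hw => (hUW₂ (hP hy)).2 w hw) hco
      ⟨f, hf, fun y hy => by rw [hfψ y (Subgroup.mem_sup_left hy), hψβ y hy],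
        fun w hw => by rw [hfψ w (Subgroup.mem_sup_right hw), hψW w hw], hfX⟩
    obtain ⟨hdv, hdC⟩ := hd x x.2
    obtain ⟨k, hk, hkg, -⟩ := hg.exists_inv
    have hm : (x : Ω)⁻¹ * autFn β x ∈ Y :=
      hPY (P.mul_mem (P.inv_mem x.2) (autFn_mem β x.2))
    rw [hdv] at hdC
    have h := sc_apply hKsc hk (mem_img_of_mem hm) hdC
    rwa [hkg _ hm, autFn_coe] at h
  -- the centralizer of the layer is constrained
  obtain ⟨D, hDn, hDT⟩ := Red.exists_centralizer_normal hS dt.nrm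
  have hΦS : fixedSubgroup p F E ≤ centralizerIn S T := fixedSubgroup_le p
  haveI := finite_of_le_base (hΦS.trans centralizerIn_le)
  have hDp : IsPGroup p ↥(fixedSubgroup p F E) := hS.to_le (hΦS.trans centralizerIn_le)
  have hDc : D.IsConstrained p := by
    rw [Comp.constrained_iff_no_component hDp hDn.1.1]
    rintro ⟨U₀, C₀, hsub, hq⟩
    have hU₀ := (CoreLayer.subnormal_le hsub).2
    have hU₀T : U₀ ≤ T := subsystem_le (hE.2.1 U₀ C₀ ⟨IsSubnormalIn.step hsub hDn, hq⟩)
    haveI := finite_of_le_base (hU₀T.trans dt.sc.1)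
    refine quasisimple_nonabelian (hS.to_le (hU₀T.trans dt.sc.1)) hq ⟨⟨fun a b => Subtype.ext ?_⟩⟩
    exact ((mem_centralizerIn.1 (hΦS (hU₀ b.2))).2 _ (hU₀T a.2))
  have hle := Comp.centralizer_core_le hS hDn.1 hDc
  have hUcore : U ≤ F.core := fun x hx => hle ⟨hΦ hx, (hK hx).2⟩
  refine quasisimple_nonabelian (hS.to_le hUS) hCm.2 ⟨⟨fun a b => Subtype.ext ?_⟩⟩
  exact (mem_centralizerIn.1 (hK b.2)).2 _ (hUcore a.2)

theorem normal_cast {V R R' : Subgroup Ω} {G : FusionSystem V} {D : FusionSystem R} {D' : FusionSystem R'}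
    (h : R = R') (he : ∀ P, D'.Hom P = D.Hom P) (hD : D.IsNormalIn G p) : D'.IsNormalIn G p := by
  subst h
  rwa [system_ext he]

/-- The layer of the normalizer system lies in the layer. -/
theorem layer_balance (hS : IsPGroup p S) (hF : F.IsSaturated p) (hX : F.IsFullyNormalized X)
    {N : FusionSystem (normalizerIn S X)} (hN : F.IsNormalizerSystem X N) {EN : FusionSystem U}
    (hEN : EN.IsLayerOf N p) (hE : E.IsLayerOf F p) : EN.IsSubsystemOf E := by
  classical
  have dt : Data F E p := ⟨hS, hE.1⟩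
  have hXc : F.IsFullyCentralized X := (fullyNormalized_good hS hF hX).2
  have hNS : normalizerIn S X ≤ S := normalizerIn_le
  haveI := finite_of_le_base hNS
  have hNp : IsPGroup p ↥(normalizerIn S X) := hS.to_le hNS
  have hNs : N.IsSaturated p := hEN.1.1.2.1
  have hNX : N.IsNormal X := normalizerSystem_normal hN hX.1
  obtain ⟨C, hC⟩ := exists_centralizerSystem F hX.1 (Q := X)
  obtain ⟨C₁, hC₁, hC₁n⟩ := CoreLayer.exists_normal_centralizer hNp hNs hNX
  have hbase : centralizerIn (normalizerIn S X) X = centralizerIn S X := le_antisymm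
    (fun x hx => ⟨hx.1.1, hx.2⟩) fun x hx => ⟨centralizerIn_le_normalizerIn hx, hx.2⟩
  have hfn : ∀ (P : Subgroup Ω) (f : Ω → Ω), Fn C P f ↔ Fn C₁ P f := fun P f => by
    rw [fn_centralizer hC, fn_centralizer hC₁]
    constructor
    · rintro ⟨h1, h2, g, hg, hge, hgX⟩
      refine ⟨fun x hx => hbase.ge (h1 hx), fun x hx => hbase.ge (h2 x hx), g, ?_, hge, hgX⟩
      have hle : P ⊔ X ≤ normalizerIn S X :=
        sup_le (h1.trans fun x hx => centralizerIn_le_normalizerIn hx) (le_normalizerIn hX.1)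
      refine (fn_normalizerSystem hN).2 ⟨hle, fun x hx => ?_, g, hg.mono (sup_le le_rfl le_sup_right),
        fun _ _ => rfl, (img_congr (g := id) hgX).trans (img_id X)⟩
      exact hg.map_normalizer le_sup_right ((img_congr (g := id) hgX).trans (img_id X)) hx (hle hx).2
    · rintro ⟨h1, h2, g, hg, hge, hgX⟩
      exact ⟨fun x hx => hbase.le (h1 hx), fun x hx => hbase.le (h2 x hx), g,
        hg.of_subsystem (normalizerSystem_sub hN), hge, hgX⟩
  have hCn : C.IsNormalIn N p := normal_cast hbase (fun P => Set.ext fun φ =>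
    ⟨fun h => mem_hom_iff.2 ((hfn _ _).1 (fn_ofHom h)), fun h => mem_hom_iff.2 ((hfn _ _).2 (fn_ofHom h))⟩) hC₁n
  have hS' : centralizerIn S X ≤ S := centralizerIn_le
  haveI := finite_of_le_base hS'
  have hS'p : IsPGroup p ↥(centralizerIn S X) := hS.to_le hS'
  have hCs : C.IsSaturated p := hCn.1.1
  obtain ⟨D, hD, hDE⟩ := exists_sub dt hXc hC
  obtain ⟨V, L, hL⟩ := CompT.exists_layer hS'p hCs
  have hLD : L.IsSubsystemOf D := hL.2.2 _ D hD fun U₀ Cm hCm => by
    rcases CompT.component_or_centralizes hS'p hCs hCm hD with h | ⟨h1, h2, -⟩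
    · exact (CoreLayer.subnormal_le h.1).1
    · exact (not_centralizing hS hF hE hXc hC hCm h1 h2).elim
  have hLN : L.IsNormalIn N p := CompT.layer_normal hNp hCn hL
  refine fun P φ hφ => hDE P (hLD P (hEN.2.2 _ L hLN (fun U₀ Cm hCm => ?_) P hφ))
  have hle := (CoreLayer.centralized_of_subnormal hCm.1 rfl inferInstance hNp hNs hCm.2 hNX).1
  exact hL.2.1 U₀ Cm (CompT.component_of_le hNp hCm hCn.1 (hle.trans hbase.le))

end CfsgLib.Fsys.EProd
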