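import Cfsg.Agent.Lib.FusionSystem.EProd.Automizer

/-! Products of a normal subsystem with overgroups of its base. -/

set_option autoImplicit false

namespace CfsgLib.Fsys.EProd

open Cfsg Cfsg.FusionSystem CfsgLib.Fsys.WNR CfsgLib.Fsys.Meet
open Cfsg.FusionSystem (centralizerIn normalizerIn)

universe u

variable {Ω : Type u} [Group Ω] {S T B B' : Subgroup Ω} {F : FusionSystem S} {E : FusionSystem T}
  {P Q : Subgroup Ω} {p : ℕ}

/-- A normal subsystem of a system over a finite `p`-group. -/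
structure Data (F : FusionSystem S) (E : FusionSystem T) (p : ℕ) : Prop where
  isp : IsPGroup p S
  nrm : E.IsNormalIn F p

theorem Data.sc (dt : Data F E p) : F.StronglyClosed T := dt.nrm.1.2.2.2.1

theorem Data.inv (dt : Data F E p) : E.IsInvariantIn F := dt.nrm.1.2.2

theorem Data.sat (dt : Data F E p) : F.IsSaturated p := dt.nrm.1.2.1

theorem Data.sub (dt : Data F E p) : E.IsSubsystemOf F := dt.nrm.1.2.2.1

/-- The subgroups meeting the base in a centric subgroup. -/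
def Cat (F : FusionSystem S) (T Q : Subgroup Ω) : Prop := Q ≤ S ∧ WCentric F T (Q ⊓ T)

/-- The automorphisms moving within cosets of the base and restricting into `E`. -/
def IsGam (F : FusionSystem S) (E : FusionSystem T) (Q : Subgroup Ω) (a : MulAut Q) : Prop :=
  a ∈ F.autGroup Q ∧ (∀ x ∈ Q, x⁻¹ * autFn a x ∈ T) ∧ Fn E (Q ⊓ T) (autFn a)

/-- The maps of `F` inside `B`. -/
def fullSub (F : FusionSystem S) (hB : B ≤ S) : FusionSystem B where
  Hom P := {φ | φ ∈ F.Hom P ∧ P ≤ B ∧ ∀ x : P, φ x ∈ B}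
  le_of_mem h := ⟨h.2.1, h.2.2⟩
  injective_of_mem h := F.injective_of_mem h.1
  conj_mem := fun hP hg => ⟨F.conj_mem (hP.trans hB) (hB hg), hP,
    fun x => B.mul_mem (B.mul_mem hg (hP x.2)) (B.inv_mem hg)⟩
  comp_mem := fun hφ hψ h => ⟨F.comp_mem hφ.1 hψ.1 h, hφ.2.1, fun _ => hψ.2.2 _⟩
  inv_mem := fun {P φ} hφ => by
    obtain ⟨ψ, hψ, he⟩ := F.inv_mem hφ.1
    refine ⟨ψ, ⟨hψ, ?_, ?_⟩, he⟩
    · rintro _ ⟨x, rfl⟩
      exact hφ.2.2 x
    · rintro ⟨_, x, rfl⟩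
      rw [he]
      exact hφ.2.1 x.2

theorem fn_fullSub {hB : B ≤ S} {f : Ω → Ω} :
    Fn (fullSub F hB) P f ↔ Fn F P f ∧ P ≤ B ∧ ∀ x ∈ P, f x ∈ B := by
  constructor
  · rintro ⟨φ, hφ, hf⟩
    exact ⟨⟨φ, hφ.1, hf⟩, hφ.2.1, fun x hx => hf ⟨x, hx⟩ ▸ hφ.2.2 ⟨x, hx⟩⟩
  · rintro ⟨⟨φ, hφ, hf⟩, hP, hm⟩
    exact ⟨φ, ⟨hφ, hP, fun x => (hf x).symm ▸ hm x x.2⟩, hf⟩

/-- The least system over `B` containing the coprime generators below `B`. -/
def gsys (F : FusionSystem S) (E : FusionSystem T) (p : ℕ) (hB : B ≤ S) : FusionSystem B :=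
  predSystem (fullSub F hB)
    (fun P f => ∀ M : FusionSystem B,
      (∀ Q, Q ≤ B → Cat F T Q → ∀ a : MulAut Q, IsGam F E Q a → Nat.Coprime (orderOf a) p →
        Fn M Q (autFn a)) → Fn M P f)
    (fun _ _ _ he _ h M hM => (h M hM).congr he) (fun _ hP _ hs _ _ => fn_conj hP hs)
    (fun _ _ _ _ _ _ hm h h' M hM => (h M hM).comp (h' M hM) hm)
    (fun P f g hf _ hgf h M hM => by
      obtain ⟨k, hk, hkf, -⟩ := (h M hM).exists_inv
      exact hk.congr fun y hy => by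
        obtain ⟨x, hx, rfl⟩ := hf.mem_img.1 hy
        rw [hkf x hx, hgf x hx])

theorem gen_mem {hB : B ≤ S} (hQB : Q ≤ B) (hQ : Cat F T Q) {a : MulAut Q} (ha : IsGam F E Q a)
    (hco : Nat.Coprime (orderOf a) p) : Fn (gsys F E p hB) Q (autFn a) :=
  fn_predSystem.2 ⟨fn_fullSub.2 ⟨(mem_autGroup_iff_fn hQ.1).1 ha.1, hQB, fun _ hx => hQB (autFn_mem a hx)⟩,
    fun _ hM => hM Q hQB hQ a ha hco⟩

theorem gsys_le {hB : B ≤ S} {M : FusionSystem B}
    (hM : ∀ Q, Q ≤ B → Cat F T Q → ∀ a : MulAut Q, IsGam F E Q a → Nat.Coprime (orderOf a) p →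
      Fn M Q (autFn a)) {f : Ω → Ω} (hf : Fn (gsys F E p hB) P f) : Fn M P f :=
  (fn_predSystem.1 hf).2 M hM

theorem gsys_sub {hB : B ≤ S} : (gsys F E p hB).IsSubsystemOf F := fun _ _ h => h.1.1

theorem gsys_congr {hB : B ≤ S} {hB' : B' ≤ S} (h : B = B') {f : Ω → Ω} (hf : Fn (gsys F E p hB) P f) :
    Fn (gsys F E p hB') P f := by
  subst h
  exact hf

/-- Centric intersection is invariant under conjugacy. -/
theorem Cat.conj (dt : Data F E p) (hQ : Cat F T Q) {f : Ω → Ω} (hf : Fn F Q f) : Cat F T (img f Q) :=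
  ⟨hf.img_le_base, by
    rw [img_inf_sc dt.sc hf]
    exact hQ.2.conj dt.sc (isConj_of_fn (hf.mono inf_le_left))⟩

variable [Finite S] [Fact p.Prime]

/-- The automorphisms moving within cosets of the base are transported along maps. -/
theorem IsGam.transport (dt : Data F E p) {α : Ω → Ω} (hα : Fn F Q α) {a : MulAut Q}
    (ha : IsGam F E Q a) : ∃ b : MulAut ↥(img α Q), IsGam F E (img α Q) b ∧ orderOf b = orderOf a ∧
      ∀ x ∈ Q, autFn b (α x) = α (autFn a x) := by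
  obtain ⟨e, he, hmap⟩ := exists_transport hα.le hα rfl
  have hval : ∀ x ∈ Q, autFn (MulAut.congr e a) (α x) = α (autFn a x) := fun x hx => by
    lift x to Q using hx
    rw [← he x, autFn_coe, show (MulAut.congr e a) (e x) = e (a x) by simp [MulAut.congr], he, autFn_coe]
  refine ⟨MulAut.congr e a, ⟨hmap ▸ ⟨a, ha.1, rfl⟩, fun y hy => ?_, ?_⟩, MulEquiv.orderOf_eq _ _, hval⟩
  · obtain ⟨x, hx, rfl⟩ := hα.mem_img.1 hy
    rw [hval x hx, ← hα.map_inv hx, ← hα.map_mul (Q.inv_mem hx) (autFn_mem a hx)]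
    exact sc_apply dt.sc hα (Q.mul_mem (Q.inv_mem hx) (autFn_mem a hx)) (ha.2.1 x hx)
  · obtain ⟨χ, hχ, hχe⟩ := Invariant.strong dt.inv inf_le_right (hα.mono inf_le_left) le_rfl ha.2.2
      fun x hx => ⟨autFn_mem a hx.1, ha.2.2.mem hx⟩
    rw [img_inf_sc dt.sc hα]
    refine hχ.congr fun y hy => ?_
    obtain ⟨x, hx, rfl⟩ := (hα.mono inf_le_left).mem_img.1 hy
    rw [hχe x hx, hval x hx.1]

/-- The products are carried onto one another by maps of `F`. -/
theorem gsys_transport (dt : Data F E p) {hB : B ≤ S} {hB' : B' ≤ S} {α : Ω → Ω} (hα : Fn F B α)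
    (hi : img α B = B') {f : Ω → Ω} (hf : Fn (gsys F E p hB) P f) :
    ∃ χ, Fn (gsys F E p hB') (img α P) χ ∧ ∀ x ∈ P, χ (α x) = α (f x) := by
  let M : FusionSystem B := predSystem (gsys F E p hB)
    (fun P f => ∃ χ, Fn (gsys F E p hB') (img α P) χ ∧ ∀ x ∈ P, χ (α x) = α (f x))
    (fun P f g he _ ⟨χ, hχ, hχe⟩ => ⟨χ, hχ, fun x hx => by rw [hχe x hx, he x hx]⟩)
    (fun P hP s hs => ⟨fun y => α s * y * (α s)⁻¹,
      fn_conj (hi ▸ img_mono hP) (hi ▸ mem_img_of_mem hs),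
      fun x hx => (hα.map_conj hs (hP hx)).symm⟩)
    (fun P R f g hf' _ hm ⟨χ, hχ, hχe⟩ ⟨χ', hχ', hχ'e⟩ => by
      refine ⟨χ' ∘ χ, hχ.comp hχ' fun y hy => ?_, fun x hx => ?_⟩
      · obtain ⟨x, hx, rfl⟩ := (hα.mono hf'.le).mem_img.1 hy
        rw [hχe x hx]
        exact mem_img_of_mem (hm x hx)
      · show χ' (χ (α x)) = α (g (f x))
        rw [hχe x hx, hχ'e _ (hm x hx)])
    (fun P f g hf' _ hgf ⟨χ, hχ, hχe⟩ => by
      obtain ⟨χ', hχ', hχ'χ, -⟩ := hχ.exists_inv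
      have hi' : img χ (img α P) = img α (img f P) := by
        rw [← (hα.mono hf'.le).img_comp, ← hf'.img_comp]
        exact img_congr fun x hx => hχe x hx
      rw [hi'] at hχ'
      refine ⟨χ', hχ', fun y hy => ?_⟩
      obtain ⟨x, hx, rfl⟩ := hf'.mem_img.1 hy
      rw [← hχe x hx, hχ'χ _ (mem_img_of_mem hx), hgf x hx])
  refine (fn_predSystem.1 (gsys_le (M := M) (fun Q hQB hQ a ha hco => ?_) hf)).2
  have hαQ := hα.mono hQB
  obtain ⟨b, hb, hbo, hbv⟩ := ha.transport dt hαQ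
  refine fn_predSystem.2 ⟨gen_mem hQB hQ ha hco, _, gen_mem (hi ▸ img_mono hQB) (hQ.conj dt hαQ) hb ?_, hbv⟩
  rwa [hbo]

theorem sup_le_base (dt : Data F E p) (hP : P ≤ S) : T ⊔ P ≤ S := sup_le dt.sc.1 hP

/-- A map of the product with the source, moving within cosets of the base and restricting into `E`. -/
structure GMap (dt : Data F E p) (P : Subgroup Ω) (d : Ω → Ω) : Prop where
  le : P ≤ S
  fn : Fn (gsys F E p (sup_le_base dt le)) P d
  disp : ∀ x ∈ P, x⁻¹ * d x ∈ T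
  res : Fn E (P ⊓ T) d

namespace GMap

variable {dt : Data F E p} {d e : Ω → Ω}

theorem fnF (hd : GMap dt P d) : Fn F P d := hd.fn.of_subsystem gsys_sub

theorem mono (hd : GMap dt P d) (hQ : Q ≤ P)
    (hG : Fn (gsys F E p (sup_le_base dt (hQ.trans hd.le))) Q d) : GMap dt Q d :=
  ⟨hQ.trans hd.le, hG, fun x hx => hd.disp x (hQ hx), hd.res.mono (inf_le_inf_right T hQ)⟩

theorem sup_img (hd : GMap dt P d) : T ⊔ img d P = T ⊔ P := by
  refine le_antisymm (sup_le le_sup_left (img_le fun x hx => ?_)) (sup_le le_sup_left fun x hx => ?_)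
  · rw [← mul_inv_cancel_left x (d x)]
    exact Subgroup.mul_mem _ (Subgroup.mem_sup_right hx) (Subgroup.mem_sup_left (hd.disp x hx))
  · rw [show x = d x * (x⁻¹ * d x)⁻¹ by group]
    exact Subgroup.mul_mem _ (Subgroup.mem_sup_right (mem_img_of_mem hx))
      (Subgroup.mem_sup_left (T.inv_mem (hd.disp x hx)))

theorem congr (hd : GMap dt P d) (he : ∀ x ∈ P, d x = e x) : GMap dt P e :=
  ⟨hd.le, hd.fn.congr he, fun x hx => he x hx ▸ hd.disp x hx, hd.res.congr fun x hx => he x hx.1⟩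

theorem of_id (dt : Data F E p) (hP : P ≤ S) : GMap dt P id :=
  ⟨hP, fn_id le_sup_right, fun x _ => by simp, fn_id inf_le_right⟩

theorem comp (hd : GMap dt P d) (he : GMap dt (img d P) e) : GMap dt P (e ∘ d) :=
  ⟨hd.le, hd.fn.comp (gsys_congr hd.sup_img he.fn) fun x hx => mem_img_of_mem hx,
    fun x hx => by
      rw [show x⁻¹ * (e ∘ d) x = (x⁻¹ * d x) * ((d x)⁻¹ * e (d x)) by simp only [Function.comp]; group]
      exact T.mul_mem (hd.disp x hx) (he.disp _ (mem_img_of_mem hx)),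
    hd.res.comp he.res fun x hx => ⟨mem_img_of_mem hx.1, hd.res.mem hx⟩⟩

theorem inv (hd : GMap dt P d) (hed : ∀ x ∈ P, e (d x) = x) : GMap dt (img d P) e := by
  obtain ⟨k, hk, hkd, -⟩ := hd.fn.exists_inv
  have hkF := hk.congr (g := e) fun y hy => by
    obtain ⟨x, hx, rfl⟩ := hd.fn.mem_img.1 hy
    rw [hkd x hx, hed x hx]
  refine ⟨hd.fnF.img_le_base, gsys_congr hd.sup_img.symm hkF, fun y hy => ?_, ?_⟩
  · obtain ⟨x, hx, rfl⟩ := hd.fn.mem_img.1 hy
    rw [hed x hx]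
    have := T.inv_mem (hd.disp x hx)
    rwa [mul_inv_rev, inv_inv] at this
  · obtain ⟨k', hk', hk'd, -⟩ := hd.res.exists_inv
    rw [img_inf_sc dt.sc hd.fnF]
    refine hk'.congr fun y hy => ?_
    obtain ⟨x, hx, rfl⟩ := hd.res.mem_img.1 hy
    rw [hk'd x hx, hed x hx.1]

/-- Transport along a map of `F` on the product with the source. -/
theorem transport (hd : GMap dt P d) {α : Ω → Ω} (hα : Fn F (T ⊔ P) α) :
    ∃ χ, GMap dt (img α P) χ ∧ ∀ x ∈ P, χ (α x) = α (d x) := by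
  have hi : img α (T ⊔ P) = T ⊔ img α P := by rw [hα.img_sup, sc_img dt.sc le_sup_left hα]
  obtain ⟨χ, hχ, hχe⟩ := gsys_transport (hB' := sup_le_base dt (hα.mono le_sup_right).img_le_base) dt hα hi hd.fn
  have hdm : ∀ x ∈ P, d x ∈ T ⊔ P := fun x hx => hd.fn.mem hx
  refine ⟨χ, ⟨(hα.mono le_sup_right).img_le_base, hχ, fun y hy => ?_, ?_⟩, hχe⟩
  · obtain ⟨x, hx, rfl⟩ := (hα.mono le_sup_right).mem_img.1 hy
    have hxm : x ∈ T ⊔ P := Subgroup.mem_sup_right hx
    rw [hχe x hx, ← hα.map_inv hxm, ← hα.map_mul (Subgroup.inv_mem _ hxm) (hdm x hx)]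
    exact sc_apply dt.sc hα (Subgroup.mul_mem _ (Subgroup.inv_mem _ hxm) (hdm x hx)) (hd.disp x hx)
  · obtain ⟨χ', hχ', hχ'e⟩ := Invariant.strong dt.inv le_rfl (hα.mono le_sup_left) inf_le_right hd.res
      fun x hx => hd.res.mem hx
    rw [img_inf_sc dt.sc (hα.mono le_sup_right)]
    refine hχ'.congr fun y hy => ?_
    obtain ⟨x, hx, rfl⟩ := (hα.mono (inf_le_right.trans le_sup_left : P ⊓ T ≤ T ⊔ P)).mem_img.1 hy
    rw [hχ'e x hx, hχe x hx.1]

end GMap

/-- A coprime generator restricts to the product with a subgroup. -/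
theorem gmap_gen (dt : Data F E p) (hQ : Cat F T Q) {a : MulAut Q} (ha : IsGam F E Q a)
    (hco : Nat.Coprime (orderOf a) p) (hPQ : P ≤ Q) : GMap dt P (autFn a) := by
  have hPS := hPQ.trans hQ.1
  set R := Q ⊓ (T ⊔ P)
  have hRQ : R ≤ Q := inf_le_left
  have hRT : R ⊓ T = Q ⊓ T :=
    le_antisymm (inf_le_inf_right T hRQ) (le_inf (le_inf inf_le_left (inf_le_right.trans le_sup_left)) inf_le_right)
  have hRc : Cat F T R := ⟨hRQ.trans hQ.1, hRT ▸ hQ.2⟩
  have hf := (mem_autGroup_iff_fn hQ.1).1 ha.1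
  haveI := finite_of_le_base hRc.1
  have hm : ∀ x ∈ R, autFn a x ∈ R := fun x hx => ⟨autFn_mem a hx.1, by
    rw [← mul_inv_cancel_left x (autFn a x)]
    exact Subgroup.mul_mem _ hx.2 (Subgroup.mem_sup_left (ha.2.1 x hx.1))⟩
  obtain ⟨b, hb, hbe⟩ := exists_aut_of_fn (hf.mono hRQ) ((hf.mono hRQ).img_eq_self hm)
  have hbv : ∀ x ∈ R, autFn b x = autFn a x := fun x hx => (autFn_coe b ⟨x, hx⟩).trans (hbe ⟨x, hx⟩)
  have hbg : IsGam F E R b := ⟨hb, fun x hx => by rw [hbv x hx]; exact ha.2.1 x hx.1,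
    (hRT.symm ▸ ha.2.2).congr fun x hx => (hbv x hx.1).symm⟩
  have hbc : Nat.Coprime (orderOf b) p := by
    refine Nat.Coprime.coprime_dvd_left (orderOf_dvd_of_pow_eq_one (mulAut_ext fun x hx => ?_)) hco
    have hpow : ∀ j : ℕ, ∀ x ∈ R, autFn (b ^ j) x = autFn (a ^ j) x := fun j => by
      induction j with
      | zero => intro x hx; rw [pow_zero, pow_zero, autFn_id hx, autFn_id (hRQ hx)]
      | succ j ih =>
        intro x hx
        rw [pow_succ, pow_succ, autFn_mul _ _ hx, autFn_mul _ _ (hRQ hx), ih _ (autFn_mem b hx), hbv x hx]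
    rw [hpow _ x hx, pow_orderOf_eq_one, autFn_id (hRQ hx), autFn_id hx]
  have hPR : P ≤ R := le_inf hPQ le_sup_right
  exact ⟨hPS, ((gen_mem (hB := sup_le_base dt hPS) inf_le_right hRc hbg hbc).mono hPR).congr
    fun x hx => hbv x (hPR hx), fun x hx => ha.2.1 x (hPQ hx), ha.2.2.mono (inf_le_inf_right T hPQ)⟩

/-- A map of a product is a map of the smaller product followed by a conjugation. -/
theorem split (dt : Data F E p) {hB : B ≤ S} (hTB : T ≤ B) {f : Ω → Ω} (hf : Fn (gsys F E p hB) P f) :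
    ∀ P' ≤ P, ∃ b ∈ B, ∃ d, GMap dt P' d ∧ ∀ x ∈ P', f x = b * d x * b⁻¹ := by
  let M : FusionSystem B := predSystem (gsys F E p hB)
    (fun P f => ∀ P' ≤ P, ∃ b ∈ B, ∃ d, GMap dt P' d ∧ ∀ x ∈ P', f x = b * d x * b⁻¹)
    (fun P f g he _ h P' hP' => by
      obtain ⟨b, hb, d, hd, hfd⟩ := h P' hP'
      exact ⟨b, hb, d, hd, fun x hx => by rw [← he x (hP' hx), hfd x hx]⟩)
    (fun P hP s hs P' hP' => ⟨s, hs, id, GMap.of_id dt ((hP'.trans hP).trans hB), fun _ _ => rfl⟩)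
    (fun P R f g hf hg hm h h' P' hP' => by
      obtain ⟨b, hb, d, hd, hfd⟩ := h P' hP'
      have hfP := hf.mono hP'
      obtain ⟨c, hc, e, he, hge⟩ := h' (img f P') (img_le fun x hx => hm x (hP' hx))
      have hfB : img f P' ≤ B := hfP.img_le_base
      obtain ⟨χ, hχ, hχe⟩ := he.transport (α := fun y => b⁻¹ * y * b⁻¹⁻¹)
        (fn_conj (sup_le_base dt (hfB.trans hB)) (S.inv_mem (hB hb)))
      have hi : img (fun y => b⁻¹ * y * b⁻¹⁻¹) (img f P') = img d P' := by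
        rw [← hfP.img_comp]
        exact img_congr fun x hx => by
          show b⁻¹ * f x * b⁻¹⁻¹ = d x
          rw [hfd x hx]; group
      rw [hi] at hχ
      refine ⟨c * b, B.mul_mem hc hb, χ ∘ d, hd.comp hχ, fun x hx => ?_⟩
      have h1 := hχe (f x) (mem_img_of_mem hx)
      rw [show b⁻¹ * f x * b⁻¹⁻¹ = d x by rw [hfd x hx]; group] at h1
      show g (f x) = c * b * χ (d x) * (c * b)⁻¹
      rw [h1, hge _ (mem_img_of_mem hx)]
      group)
    (fun P f g hf hg hgf h P' hP' => by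
      have hgP := hg.mono hP'
      have hP₀ : img g P' ≤ P := img_le fun y hy => by
        obtain ⟨x, hx, rfl⟩ := hf.mem_img.1 (hP' hy)
        rw [hgf x hx]
        exact hx
      obtain ⟨b, hb, d, hd, hfd⟩ := h _ hP₀
      have hfg : ∀ y ∈ P', f (g y) = y := fun y hy => by
        obtain ⟨x, hx, rfl⟩ := hf.mem_img.1 (hP' hy)
        rw [hgf x hx]
      obtain ⟨k, -, hkd, -⟩ := hd.fn.exists_inv
      obtain ⟨χ, hχ, hχe⟩ := (hd.inv hkd).transport (α := fun y => b * y * b⁻¹)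
        (fn_conj (sup_le_base dt hd.fnF.img_le_base) (hB hb))
      have hi : img (fun y => b * y * b⁻¹) (img d (img g P')) = P' := by
        rw [← hd.fnF.img_comp, ← hgP.img_comp]
        refine (img_congr (g := id) fun y hy => ?_).trans (img_id P')
        show b * d (g y) * b⁻¹ = y
        rw [← hfd _ (mem_img_of_mem hy), hfg y hy]
      rw [hi] at hχ
      refine ⟨b⁻¹, B.inv_mem hb, χ, hχ, fun y hy => ?_⟩
      have h1 := hχe _ (mem_img_of_mem (f := d) (mem_img_of_mem (f := g) hy))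
      rw [← hfd _ (mem_img_of_mem hy), hfg y hy, hkd _ (mem_img_of_mem hy)] at h1
      rw [h1]
      group)
  refine (fn_predSystem.1 (gsys_le (M := M) (fun Q hQB hQ a ha hco => ?_) hf)).2
  exact fn_predSystem.2 ⟨gen_mem hQB hQ ha hco, fun P' hP' => ⟨1, B.one_mem, autFn a,
    gmap_gen dt hQ ha hco hP', fun x _ => by group⟩⟩

/-- A coprime automorphism in a product lies in the smaller product. -/
theorem gmap_of_coprime (dt : Data F E p) {hB : B ≤ S} (hTB : T ≤ B) {a : MulAut P}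
    (ha : Fn (gsys F E p hB) P (autFn a)) (hco : Nat.Coprime (orderOf a) p) : GMap dt P (autFn a) := by
  obtain ⟨b, hb, d, hd, had⟩ := split dt hTB ha P le_rfl
  have hPS := ha.le.trans hB
  have hpow : ∀ j : ℕ, ∃ dj, GMap dt P dj ∧ ∀ x ∈ P, autFn (a ^ j) x = b ^ j * dj x * (b ^ j)⁻¹ := by
    intro j
    induction j with
    | zero => exact ⟨id, GMap.of_id dt hPS, fun x hx => by rw [pow_zero, autFn_id hx]; simp⟩
    | succ j ih =>
      obtain ⟨dj, hdj, haj⟩ := ih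
      obtain ⟨χ, hχ, hχe⟩ := hd.transport (α := fun y => (b ^ j)⁻¹ * y * (b ^ j)⁻¹⁻¹)
        (fn_conj (sup_le_base dt hPS) (S.inv_mem (S.pow_mem (hB hb) j)))
      have hi : img (fun y => (b ^ j)⁻¹ * y * (b ^ j)⁻¹⁻¹) P = img dj P := by
        conv_lhs => rw [← img_autFn (a ^ j)]
        rw [← (Fn.img_comp ((mem_autGroup_iff_fn hPS).1 (pow_mem
          ((mem_autGroup_iff_fn hPS).2 (ha.of_subsystem gsys_sub)) j)))]
        exact img_congr fun x hx => by
          show (b ^ j)⁻¹ * autFn (a ^ j) x * (b ^ j)⁻¹⁻¹ = dj x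
          rw [haj x hx]; group
      rw [hi] at hχ
      refine ⟨χ ∘ dj, hdj.comp hχ, fun x hx => ?_⟩
      have hax := autFn_mem (a ^ j) hx
      have h1 := hχe _ hax
      rw [show (b ^ j)⁻¹ * autFn (a ^ j) x * (b ^ j)⁻¹⁻¹ = dj x by rw [haj x hx]; group] at h1
      show _ = b ^ (j + 1) * χ (dj x) * (b ^ (j + 1))⁻¹
      rw [pow_succ' a, autFn_mul _ _ hx, had _ hax, h1, pow_succ' b]
      group
  obtain ⟨k, hk⟩ := dt.isp ⟨b, hB hb⟩
  have hk' : b ^ p ^ k = 1 := congrArg Subtype.val hk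
  obtain ⟨c, hc0, hc1⟩ := Nat.chineseRemainder (hco.pow_right k) 1 0
  obtain ⟨m, rfl⟩ := Nat.modEq_zero_iff_dvd.1 hc1
  obtain ⟨dc, hdc, hac⟩ := hpow (p ^ k * m)
  refine hdc.congr fun x hx => ?_
  have h1 := hac x hx
  rw [pow_eq_self (pow_orderOf_eq_one a) hc0, pow_mul, hk', one_pow] at h1
  rw [h1]
  group

/-- A coprime automorphism in a product at a subgroup with centric intersection is a generator. -/
theorem isGam_of_coprime (dt : Data F E p) {hB : B ≤ S} (hTB : T ≤ B) {a : MulAut P}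
    (ha : Fn (gsys F E p hB) P (autFn a)) (hco : Nat.Coprime (orderOf a) p) : IsGam F E P a :=
  have h := gmap_of_coprime dt hTB ha hco
  ⟨(mem_autGroup_iff_fn (ha.le.trans hB)).2 (ha.of_subsystem gsys_sub), h.disp, h.res⟩

end CfsgLib.Fsys.EProd
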