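import Cfsg.Agent.Lib.FusionSystem.EProd.Saturated
import Cfsg.Agent.Lib.FusionSystem.PPowerExistence
import Cfsg.Agent.Lib.FusionSystem.WeaklyNormalResidual
import Cfsg.Agent.Lib.FusionSystem.Subsystems
import Cfsg.Agent.Lib.FusionSystem.Meet.Main
import Cfsg.Agent.Lib.FusionSystem.CoreDisplacement
import Cfsg.Agent.Lib.FusionSystem.TateFusion

/-! A normal subsystem of a centralizer system inside a normal subsystem of the whole. -/

set_option autoImplicit false

namespace CfsgLib.Fsys.EProd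

open Cfsg Cfsg.FusionSystem CfsgLib.Fsys.WNR CfsgLib.Fsys.Meet
open Cfsg.FusionSystem (centralizerIn normalizerIn)
open scoped Pointwise

universe u

variable {Ω : Type u} [Group Ω] {S T X : Subgroup Ω} [Finite S] {F : FusionSystem S} {E : FusionSystem T}
  {P Q : Subgroup Ω} {p : ℕ} [Fact p.Prime]

/-- The automorphisms in the product with their source are transported by every map. -/
theorem gmap_transport (dt : Data F E p) {a : MulAut Q} (ha : GMap dt Q (autFn a)) {f : Ω → Ω} (hf : Fn F Q f)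
    {R : Subgroup Ω} (hi : img f Q = R) :
    ∃ b : MulAut R, GMap dt R (autFn b) ∧ ∀ x ∈ Q, autFn b (f x) = f (autFn a x) := by
  subst hi
  obtain ⟨d, hd, α, hα, hfd⟩ := dec dt hf
  obtain ⟨e, he, hed, hei⟩ := hd.fn.exists_inv
  have hinv := hd.inv hed
  have hc1 : GMap dt (img d Q) (autFn a ∘ e) := hinv.comp (hei.symm ▸ ha)
  have hc1i : img (autFn a ∘ e) (img d Q) = Q := by rw [hinv.fn.img_comp, hei, img_autFn]
  have hc : GMap dt (img d Q) (d ∘ (autFn a ∘ e)) := hc1.comp (hc1i.symm ▸ hd)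
  obtain ⟨χ, hχ, hχe⟩ := hc.transport (hd.sup_img.symm ▸ hα)
  have hαd : img α (img d Q) = img f Q := by
    rw [← hd.fnF.img_comp]
    exact img_congr fun x hx => (hfd x hx).symm
  rw [hαd] at hχ
  have hval : ∀ x ∈ Q, χ (f x) = f (autFn a x) := fun x hx => by
    rw [hfd x hx, hχe _ (mem_img_of_mem hx), hfd _ (autFn_mem a hx)]
    show α (d (autFn a (e (d x)))) = _
    rw [hed x hx]
  haveI := finite_of_le_base hχ.le
  obtain ⟨b, -, hb⟩ := exists_aut_of_fn hχ.fnF (hχ.fnF.img_eq_self fun y hy => by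
    obtain ⟨x, hx, rfl⟩ := hf.mem_img.1 hy
    rw [hval x hx]
    exact mem_img_of_mem (autFn_mem a hx))
  have hbv : ∀ y ∈ img f Q, χ y = autFn b y := fun y hy => ((autFn_coe b ⟨y, hy⟩).trans (hb _)).symm
  exact ⟨b, hχ.congr hbv, fun x hx => by rw [← hbv _ (mem_img_of_mem hx), hval x hx]⟩

/-- A coprime automorphism fixing `X` extends to one of coprime order. -/
theorem exists_coprime_ext {G : FusionSystem S} (hQ : Q ≤ S) (hPQ : P ≤ Q) {g : Ω → Ω} (hg : Fn G Q g)
    (hgQ : ∀ x ∈ Q, g x ∈ Q) {a : MulAut P} (hga : ∀ x ∈ P, g x = autFn a x) (hco : Nat.Coprime (orderOf a) p) :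
    ∃ B : MulAut Q, Fn G Q (autFn B) ∧ (∀ x ∈ P, autFn B x = autFn a x) ∧ Nat.Coprime (orderOf B) p ∧
      ∀ x ∈ Q, g x = x → autFn B x = x := by
  haveI := finite_of_le_base hQ
  haveI : Finite (MulAut Q) := Finite.of_injective (fun f : MulAut Q => (f : Q → Q)) DFunLike.coe_injective
  obtain ⟨B, hB, hBe⟩ := exists_aut_of_fn hg (hg.img_eq_self hgQ)
  have hBv : ∀ x ∈ Q, autFn B x = g x := fun x hx => (autFn_coe B ⟨x, hx⟩).trans (hBe _)
  obtain ⟨q, hq, hqc⟩ := CoreLayer.exists_coprime_pow (p := p) hQ hPQ (β := B) (a := a)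
    (fun x hx => (hBv x (hPQ hx)).trans (hga x hx)) hco
  refine ⟨B ^ q, (mem_autGroup_iff_fn hQ).1 (pow_mem hB q), hq, hqc, fun x hx he => ?_⟩
  have : ∀ j : ℕ, autFn (B ^ j) x = x := fun j => by
    induction j with
    | zero => rw [pow_zero, autFn_id hx]
    | succ j ih => rw [pow_succ, autFn_mul _ _ hx, hBv x hx, he, ih]
  exact this q

theorem GMap.inv_aut {dt : Data F E p} {a : MulAut P} (ha : GMap dt P (autFn a)) : GMap dt P (autFn a⁻¹) := by
  have h := ha.inv (e := autFn a⁻¹) fun x hx => autFn_inv_apply a hx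
  rwa [img_autFn] at h

theorem centralizer_inf (dt : Data F E p) : centralizerIn T X ≤ centralizerIn S X := fun _ h => ⟨dt.sc.1 h.1, h.2⟩

/-- A centralizer system has a normal subsystem over the centralizer in the base lying in the normal subsystem. -/
theorem exists_sub (dt : Data F E p) (hX : F.IsFullyCentralized X)
    {C : FusionSystem (centralizerIn S X)} (hC : F.IsCentralizerSystem X C) :
    ∃ D : FusionSystem (centralizerIn T X), D.IsNormalIn C p ∧ D.IsSubsystemOf E := by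
  classical
  have hT := dt.sc
  set W := centralizerIn T X
  have hS'S : (centralizerIn S X) ≤ S := centralizerIn_le
  haveI := finite_of_le_base hS'S
  have hS'p : IsPGroup p (centralizerIn S X) := dt.isp.to_le hS'S
  have hWS' : W ≤ (centralizerIn S X) := centralizer_inf dt
  haveI := finite_of_le_base hWS'
  have hWp : IsPGroup p W := hS'p.to_le hWS'
  have hCs : C.IsSaturated p := centralizerSystem_saturated dt.isp dt.sat hX hC
  set G := gsys F E p (le_refl S)
  have hGs : G.IsSaturated p := gsys_saturated dt hT.1 le_rfl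
  have hXG : G.IsFullyCentralized X := ⟨hX.1, fun R hR => hX.2 R (by
    obtain ⟨f, hf, hfi⟩ := isConj_iff.1 hR
    exact isConj_iff.2 ⟨f, hf.of_subsystem gsys_sub, hfi⟩)⟩
  obtain ⟨Kc, hKc⟩ := exists_centralizerSystem G hX.1 (Q := X)
  have hKs : Kc.IsSaturated p := centralizerSystem_saturated dt.isp hGs hXG hKc
  have hKC : Kc.IsSubsystemOf C := fun P φ hφ => by
    obtain ⟨h1, h2, g, hg, hge, hgX⟩ := (fn_centralizer hKc).1 (fn_ofHom hφ)
    exact mem_hom_iff.2 ((fn_centralizer hC).2 ⟨h1, h2, g, hg.of_subsystem gsys_sub, hge, hgX⟩)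
  have hKG : ∀ {R : Subgroup Ω} {B : MulAut ↥(R ⊔ X)}, R ≤ (centralizerIn S X) → GMap dt (R ⊔ X) (autFn B) →
      (∀ x ∈ X, autFn B x = x) → Fn Kc R (autFn B) := fun hR hB hBX =>
    fn_centralizer_of_fix hKc hR (gsys_mono (sup_le_base dt hB.le) hB.fn) hBX
  have hcop : ∀ {R : Subgroup Ω}, R ≤ (centralizerIn S X) → ∀ a ∈ Kc.autGroup R, Nat.Coprime (orderOf a) p →
      ∃ B : MulAut ↥(R ⊔ X), GMap dt (R ⊔ X) (autFn B) ∧ (∀ x ∈ R, autFn B x = autFn a x) ∧
        ∀ x ∈ X, autFn B x = x := by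
    intro R hR a ha hco
    obtain ⟨-, -, g, hg, hge, hgX⟩ := (fn_centralizer hKc).1 ((mem_autGroup_iff_fn hR).1 ha)
    have hgi : img g (R ⊔ X) = R ⊔ X := by
      rw [hg.img_sup, img_congr (f := g) (g := autFn a) hge, img_autFn, img_congr (f := g) (g := id) hgX, img_id]
    obtain ⟨B, hB, hBa, hBc, hBfix⟩ := exists_coprime_ext hg.le le_sup_left hg
      (fun x hx => hgi.le (mem_img_of_mem hx)) hge hco
    exact ⟨B, gmap_of_coprime dt hT.1 hB hBc, hBa,
      fun x hx => hBfix x (Subgroup.mem_sup_right hx) (hgX x hx)⟩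
  -- the part of `p`-power index over `W`
  have hhyp : Kc.hyperfocalSubgroup p ≤ W := hyperfocal_le_of_coprime fun R hR a ha hco x => by
    obtain ⟨B, hB, hBa, -⟩ := hcop hR a ha hco
    refine ⟨?_, ((centralizerIn S X).mul_mem ((centralizerIn S X).inv_mem (hR x.2)) (hR (a x).2)).2⟩
    rw [← autFn_coe, ← hBa x x.2]
    exact hB.disp _ (Subgroup.mem_sup_left x.2)
  obtain ⟨K, hK, hKi⟩ := exists_pPowerIndex hS'p hKs hWS' hhyp
  have hWn : ∀ s ∈ (centralizerIn S X), ∀ x ∈ W, s * x * s⁻¹ ∈ W := fun s hs x hx =>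
    ⟨sc_conj hT hs.1 hx.1, ((centralizerIn S X).mul_mem ((centralizerIn S X).mul_mem hs (hWS' hx)) ((centralizerIn S X).inv_mem hs)).2⟩
  have hKn := pPowerIndex_normal hS'p hKs hWn hK hKi
  have hKsubC : K.IsSubsystemOf C := fun P φ hφ => hKC P (hKi.1 P hφ)
  have hKE : K.IsSubsystemOf E := by
    have hle : K ≤ fullSub E (inf_le_left : W ≤ T) := le_of_pResidual hWp hK hKi.1 fun R hR => by
      rw [Subgroup.map_le_iff_le_comap]
      refine (Subgroup.closure_le _).2 fun b hb => ?_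
      have hb' : Nat.Coprime (orderOf (b : MulAut R)) p := by rw [Subgroup.orderOf_coe]; exact hb
      obtain ⟨B, hB, hBa, -⟩ := hcop (hR.trans hWS') _ b.2 hb'
      refine (mem_autGroup_iff_fn hR).2 (fn_fullSub.2 ⟨?_, hR, fun x hx => hR (autFn_mem _ hx)⟩)
      exact (hB.res.mono (le_inf le_sup_left (hR.trans inf_le_left))).congr hBa
    exact fun P φ hφ => (hle P hφ).1
  have hWsc : C.StronglyClosed W := stronglyClosed_iff_fn.2 ⟨hWS', fun R f hf x hx hxW => by
    obtain ⟨-, h2, g, hg, hge, -⟩ := (fn_centralizer hC).1 hf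
    refine ⟨?_, (h2 x hx).2⟩
    rw [← hge x hx]
    exact sc_apply hT hg (Subgroup.mem_sup_left hx) hxW.1⟩
  -- equivariance
  have htr : ∀ {P : Subgroup Ω} {g : Ω → Ω} {α : MulAut W}, Fn K P g → α ∈ C.autGroup W →
      ∃ χ, Fn K (img (autFn α) P) χ ∧ ∀ x ∈ P, χ (autFn α x) = autFn α (g x) := by
    intro P g α hg hα
    have hαf := (mem_autGroup_iff_fn hWS').1 hα
    let M : FusionSystem W := predSystem K
      (fun P g => ∃ χ, Fn K (img (autFn α) P) χ ∧ ∀ x ∈ P, χ (autFn α x) = autFn α (g x))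
      (fun P f g he _ ⟨χ, hχ, hχe⟩ => ⟨χ, hχ, fun x hx => by rw [hχe x hx, he x hx]⟩)
      (fun P hP s hs => ⟨fun y => autFn α s * y * (autFn α s)⁻¹,
        fn_conj (img_le fun x hx => autFn_mem α (hP hx)) (autFn_mem α hs),
        fun x hx => (hαf.map_conj hs (hP hx)).symm⟩)
      (fun P R f g hf _ hm ⟨χ, hχ, hχe⟩ ⟨χ', hχ', hχ'e⟩ => by
        refine ⟨χ' ∘ χ, hχ.comp hχ' fun y hy => ?_, fun x hx => ?_⟩
        · obtain ⟨x, hx, rfl⟩ := (hαf.mono hf.le).mem_img.1 hy
          rw [hχe x hx]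
          exact mem_img_of_mem (hm x hx)
        · show χ' (χ (autFn α x)) = autFn α (g (f x))
          rw [hχe x hx, hχ'e _ (hm x hx)])
      (fun P f g hf _ hgf ⟨χ, hχ, hχe⟩ => by
        obtain ⟨χ', hχ', hχ'χ, -⟩ := hχ.exists_inv
        have hi' : img χ (img (autFn α) P) = img (autFn α) (img f P) := by
          rw [← (hαf.mono hf.le).img_comp, ← hf.img_comp]
          exact img_congr fun x hx => hχe x hx
        rw [hi'] at hχ'
        refine ⟨χ', hχ', fun y hy => ?_⟩
        obtain ⟨x, hx, rfl⟩ := hf.mem_img.1 hy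
        rw [← hχe x hx, hχ'χ _ (mem_img_of_mem hx), hgf x hx])
    refine (fn_predSystem.1 (fn_of_le (le_of_pResidual (E := K) (D := M) hWp hK hKi.1 fun R hR => ?_) hg)).2
    rw [Subgroup.map_le_iff_le_comap]
    refine (Subgroup.closure_le _).2 fun b hb => ?_
    have hb' : Nat.Coprime (orderOf (b : MulAut R)) p := by rw [Subgroup.orderOf_coe]; exact hb
    refine (mem_autGroup_iff_fn hR).2 (fn_predSystem.2
      ⟨(mem_autGroup_iff_fn hR).1 (mem_of_coprime hKi hR b.2 hb'), ?_⟩)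
    obtain ⟨B, hB, hBa, hBX⟩ := hcop (hR.trans hWS') _ b.2 hb'
    obtain ⟨-, -, h, hh, hhα, hhX⟩ := (fn_centralizer hC).1 hαf
    have hhQ := hh.mono (sup_le_sup_right hR X)
    have hhi : img h (R ⊔ X) = img (autFn α) R ⊔ X := by
      rw [hhQ.img_sup, img_congr (f := h) (g := autFn α) fun x hx => hhα x (hR hx),
        img_congr (f := h) (g := id) hhX, img_id]
    obtain ⟨B', hB', hB'e⟩ := gmap_transport dt hB hhQ hhi
    have hαR := hαf.mono hR
    obtain ⟨e, he, -⟩ := exists_transport hαR.le hαR rfl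
    have hαRW : img (autFn α) R ≤ W := img_le fun x hx => autFn_mem α (hR hx)
    have hval : ∀ x ∈ R, autFn (MulAut.congr e (b : MulAut R)) (autFn α x) = autFn α (autFn (b : MulAut R) x) :=
      fun x hx => by
        lift x to R using hx
        rw [← he x, autFn_coe, show (MulAut.congr e (b : MulAut R)) (e x) = e ((b : MulAut R) x) by
          simp [MulAut.congr], he, autFn_coe (b : MulAut R)]
    have hB'fix : ∀ x ∈ X, autFn B' x = x := fun x hx => by
      have h1 := hB'e x (Subgroup.mem_sup_right hx)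
      rwa [hhX x hx, hBX x hx, hhX x hx] at h1
    have hK' : MulAut.congr e (b : MulAut R) ∈ K.autGroup (img (autFn α) R) := by
      refine mem_of_coprime hKi hαRW ((mem_autGroup_iff_fn (hαRW.trans hWS')).2
        ((hKG (hαRW.trans hWS') hB' hB'fix).congr fun y hy => ?_)) (by rwa [MulEquiv.orderOf_eq])
      obtain ⟨x, hx, rfl⟩ := hαR.mem_img.1 hy
      rw [hval x hx, ← hBa x hx, ← hhα x (hR hx), ← hhα _ (hR (hBa x hx ▸ autFn_mem _ hx))]
      exact hB'e x (Subgroup.mem_sup_left hx)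
    exact ⟨_, (mem_autGroup_iff_fn hαRW).1 hK', hval⟩
  -- decomposition
  let Dc : Subgroup Ω → (Ω → Ω) → Prop := fun P f =>
    ∃ α ∈ C.autGroup W, ∃ e, Fn K P e ∧ ∀ x ∈ P, f x = autFn α (e x)
  have dmono : ∀ {P P' : Subgroup Ω} {f : Ω → Ω}, P' ≤ P → Dc P f → Dc P' f := fun h ⟨α, hα, e, he, hfe⟩ =>
    ⟨α, hα, e, he.mono h, fun x hx => hfe x (h hx)⟩
  have dcomp : ∀ {P R : Subgroup Ω} {f g : Ω → Ω}, Dc P f → Dc R g → (∀ x ∈ P, f x ∈ R) → Dc P (g ∘ f) := by
    intro P R f g ⟨α, hα, e, he, hfe⟩ ⟨β, hβ, e', he', hge⟩ hm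
    obtain ⟨χ, hχ, hχe⟩ := htr he' (inv_mem hα)
    have hRW : R ≤ W := he'.le
    have hex : ∀ x ∈ P, autFn α⁻¹ (f x) = e x := fun x hx => by
      rw [hfe x hx, autFn_inv_apply α (he.mem hx)]
    refine ⟨β * α, mul_mem hβ hα, χ ∘ e, he.comp hχ fun x hx => ?_, fun x hx => ?_⟩
    · rw [← hex x hx]
      exact mem_img_of_mem (hm x hx)
    · have h1 := hχe _ (hm x hx)
      rw [hex x hx] at h1
      show g (f x) = autFn (β * α) (χ (e x))
      have he'm := he'.mem (hm x hx)
      rw [hge _ (hm x hx), h1, autFn_mul _ _ (autFn_mem _ he'm), autFn_apply_inv α he'm]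
  have dinv : ∀ {P : Subgroup Ω} {f g : Ω → Ω}, Dc P f → (∀ x ∈ P, g (f x) = x) → Dc (img f P) g := by
    intro P f g ⟨α, hα, e, he, hfe⟩ hgf
    obtain ⟨k, hk, hke, -⟩ := he.exists_inv
    obtain ⟨χ, hχ, hχe⟩ := htr hk hα
    have hαf := (mem_autGroup_iff_fn hWS').1 hα
    have hi : img (autFn α) (img e P) = img f P := by
      rw [← he.img_comp]
      exact img_congr fun x hx => (hfe x hx).symm
    rw [hi] at hχ
    refine ⟨α⁻¹, inv_mem hα, χ, hχ, fun y hy => ?_⟩
    obtain ⟨x₀, hx₀, hx₀y⟩ := (hαf.mono he.img_le_base).mem_img.1 (hi.ge hy)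
    obtain ⟨x, hx, rfl⟩ := he.mem_img.1 hx₀
    rw [← hx₀y, hχe _ hx₀, hke x hx, autFn_inv_apply α (he.le hx), ← hfe x hx, hgf x hx]
  have hdec : ∀ (n : ℕ) (P : Subgroup Ω), Nat.card W + 1 - Nat.card P = n → P ≤ W →
      ∀ f, Fn C P f → Dc P f := by
    intro n
    induction n using Nat.strong_induction_on with
    | _ n ih =>
    intro P hn hP f hf
    have hup : ∀ R : Subgroup Ω, R ≤ W → Nat.card P < Nat.card R → ∀ g, Fn C R g → Dc R g := fun R hR hlt g hg => by
      have := Subgroup.card_le_of_le hR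
      exact ih _ (by omega) R rfl hR g hg
    haveI := finite_of_le_base hP
    rcases eq_or_lt_of_le hP with rfl | hlt
    · obtain ⟨a, ha, hae⟩ := exists_aut_of_fn hf (sc_img hWsc le_rfl hf)
      exact ⟨a, ha, id, fn_id le_rfl, fun x hx => ((autFn_coe a ⟨x, hx⟩).trans (hae _)).symm⟩
    have hbigN : ∀ R : Subgroup Ω, R < W → Nat.card R < Nat.card (normalizerIn W R) := fun R hR =>
      haveI := finite_of_le_base (normalizerIn_le : normalizerIn W R ≤ W)
      Set.Finite.card_lt_card (Set.toFinite (normalizerIn W R : Set Ω)) (lt_normalizerIn hWp hR)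
    obtain ⟨P₁, hPP₁, hP₁n⟩ := exists_fullyNormalized (F := C) (hP.trans hWS')
    have hgood := (fullyNormalized_good hS'p hCs hP₁n).1
    have hrec := fullyNormalized_receptive hS'p hCs hP₁n
    have hmove : ∀ {R : Subgroup Ω}, R ≤ W → R ≠ W → C.IsConj R P₁ → Nat.card R = Nat.card P →
        ∃ g, Fn C R g ∧ img g R = P₁ ∧ Dc R g := by
      intro R hR hne hconj hcard
      obtain ⟨g, hg, -, hgi⟩ := exists_normalizer_map hS'p hgood hrec hconj
      have hle : normalizerIn W R ≤ normalizerIn (centralizerIn S X) R := inf_le_inf hWS' le_rfl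
      exact ⟨g, hg.mono (le_normalizerIn (hR.trans hWS')), hgi, dmono (le_normalizerIn hR)
        (hup _ normalizerIn_le (hcard ▸ hbigN R (lt_of_le_of_ne hR hne)) _ (hg.mono hle))⟩
    set Q := img f P
    have hQW : Q ≤ W := img_le fun x hx => sc_apply hWsc hf hx (hP hx)
    have hcQ : Nat.card Q = Nat.card P := hf.card_img
    have hne : ∀ R : Subgroup Ω, Nat.card R = Nat.card P → R ≠ W := fun R hR e => by
      have := Set.Finite.card_lt_card (Set.toFinite (W : Set Ω)) hlt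
      subst e
      exact absurd hR.symm (ne_of_lt this)
    obtain ⟨g, hg, hgi, hgd⟩ := hmove hP (hne P rfl) hPP₁ rfl
    obtain ⟨g₂, hg₂, hg₂i, hg₂d⟩ := hmove hQW (hne Q hcQ) (isConj_trans (isConj_symm (isConj_of_fn hf)) hPP₁) hcQ
    obtain ⟨g', hg', hg'g, hg'i⟩ := hg.exists_inv
    rw [hgi] at hg' hg'i
    have hm1 : ∀ y ∈ P₁, g' y ∈ P := fun y hy => hg'i.le (mem_img_of_mem hy)
    have hcomp := (hg'.comp hf hm1).comp hg₂ fun y hy => mem_img_of_mem (hm1 y hy)
    have hci : img (g₂ ∘ (f ∘ g')) P₁ = P₁ := by rw [(hg'.comp hf hm1).img_comp, hg'.img_comp, hg'i, hg₂i]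
    obtain ⟨a, ha, hae⟩ := exists_aut_of_fn hcomp hci
    have hP₁W : P₁ ≤ W := hgi ▸ img_le fun x hx => sc_apply hWsc hg hx (hP hx)
    -- the automorphism decomposes
    have had : Dc P₁ (autFn a) := by
      haveI := finite_of_le_base hP₁W
      haveI : Finite (MulAut P₁) := Finite.of_injective (fun f : MulAut P₁ => (f : P₁ → P₁)) DFunLike.coe_injective
      have hP₁S' := hP₁W.trans hWS'
      have hQ₁ : P₁ ⊔ X ≤ S := sup_le (hP₁S'.trans hS'S) hX.1
      haveI := finite_of_le_base hQ₁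
      set A := C.autGroup P₁
      let M : Subgroup A :=
        { carrier := {b | ∃ B : MulAut ↥(P₁ ⊔ X), GMap dt (P₁ ⊔ X) (autFn B) ∧ (∀ x ∈ X, autFn B x = x) ∧
            ∀ x ∈ P₁, autFn B x = autFn (b : MulAut P₁) x}
          one_mem' := ⟨1, (GMap.of_id dt hQ₁).congr fun x hx => (autFn_id hx).symm,
            fun x hx => autFn_id (Subgroup.mem_sup_right hx),
            fun x hx => by rw [Subgroup.coe_one, autFn_id hx, autFn_id (Subgroup.mem_sup_left hx)]⟩
          mul_mem' := fun {b c} ⟨B, hB, hBX, hBb⟩ ⟨B', hB', hB'X, hB'c⟩ => ⟨B * B',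
            (hB'.comp ((img_autFn B').symm ▸ hB)).congr fun x hx => (autFn_mul B B' hx).symm,
            fun x hx => by rw [autFn_mul _ _ (Subgroup.mem_sup_right hx), hB'X x hx, hBX x hx],
            fun x hx => by
              rw [Subgroup.coe_mul, autFn_mul _ _ hx, autFn_mul _ _ (Subgroup.mem_sup_left hx), hB'c x hx,
                hBb _ (autFn_mem _ hx)]⟩
          inv_mem' := fun {b} ⟨B, hB, hBX, hBb⟩ => ⟨B⁻¹, hB.inv_aut,
            fun x hx => by
              conv_lhs => rw [← hBX x hx]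
              exact autFn_inv_apply B (Subgroup.mem_sup_right hx),
            fun x hx => by
              rw [Subgroup.coe_inv]
              have h1 := hBb _ (autFn_mem (b : MulAut P₁)⁻¹ hx)
              rw [autFn_apply_inv (b : MulAut P₁) hx] at h1
              conv_lhs => rw [← h1]
              exact autFn_inv_apply B (Subgroup.mem_sup_left (autFn_mem _ hx))⟩ }
      haveI hMn : M.Normal := ⟨fun b ⟨B, hB, hBX, hBb⟩ c => by
        obtain ⟨-, -, h, hh, hhc, hhX⟩ := (fn_centralizer hC).1 ((mem_autGroup_iff_fn hP₁S').1 c.2)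
        have hhi : img h (P₁ ⊔ X) = P₁ ⊔ X := by
          rw [hh.img_sup, img_congr (f := h) (g := autFn (c : MulAut P₁)) hhc, img_autFn,
            img_congr (f := h) (g := id) hhX, img_id]
        obtain ⟨B', hB', hB'e⟩ := gmap_transport dt hB hh hhi
        refine ⟨B', hB', fun x hx => ?_, fun x hx => ?_⟩
        · have h1 := hB'e x (Subgroup.mem_sup_right hx)
          rwa [hhX x hx, hBX x hx, hhX x hx] at h1
        · have hy := autFn_mem (c : MulAut P₁)⁻¹ hx
          have h1 := hB'e _ (Subgroup.mem_sup_left hy)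
          rw [hhc _ hy, autFn_apply_inv _ hx, hBb _ hy, hhc _ (autFn_mem _ hy)] at h1
          rw [Subgroup.coe_mul, Subgroup.coe_mul, Subgroup.coe_inv, autFn_mul _ _ hx, autFn_mul _ _ hy]
          exact h1⟩
      obtain ⟨-, Syl, hSyl⟩ := (fullyNormalized_good hS'p hCs hP₁n).1
      have hiM : ¬ p ∣ ((Syl : Subgroup A) ⊓ M).relIndex M :=
        CfsgLib.Fusion.Basic.not_dvd_relIndex_of_normal Syl M
      let PM : Sylow p M := CfsgLib.Fusion.Basic.sylowSubgroupOf (inf_le_right : (Syl : Subgroup A) ⊓ M ≤ M)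
        (Syl.2.to_le inf_le_left) hiM
      have hmap : (PM : Subgroup M).map M.subtype = (Syl : Subgroup A) ⊓ M :=
        CfsgLib.Fusion.Basic.map_sylowSubgroupOf _ _ hiM
      have hmem : (⟨a, ha⟩ : A) ∈
          ((Subgroup.normalizer (((PM : Subgroup M).map M.subtype : Subgroup A) : Set A) ⊔ M : Subgroup A) : Set A) := by
        rw [Sylow.normalizer_sup_eq_top]
        exact Subgroup.mem_top _
      rw [Subgroup.mul_normal] at hmem
      obtain ⟨n, hn, m, hm, hnm⟩ := hmem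
      rw [hmap] at hn
      have hmd : Dc P₁ (autFn (m : MulAut P₁)) := by
        obtain ⟨B, hB, hBX, hBm⟩ := hm
        have hmK : Fn Kc P₁ (autFn (m : MulAut P₁)) := (hKG hP₁S' hB hBX).congr hBm
        obtain ⟨φ, hφ, hφm⟩ := id hmK
        obtain ⟨β, hβ, φ₀, hφ₀, hφe⟩ := hKn.1.2.2.2.2.2 P₁ hP₁W φ hφ
        have hW0 : ∀ x : P₁, φ₀ x ∈ W := fun x => (K.le_of_mem hφ₀).2 x
        refine ⟨β, autGroup_mono' hKC W hβ, _, fn_ofHom hφ₀, fun x hx => ?_⟩
        rw [← hφm ⟨x, hx⟩, hφe ⟨x, hx⟩ (hW0 _), ofHom_apply φ₀ hx, ← autFn_coe β]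
      have hnd : Dc P₁ (autFn (n : MulAut P₁)) := by
        obtain ⟨N, k, hk, hPN, hN, hke⟩ :=
          receptive_extend hrec ((mem_autGroup_iff_fn hP₁S').1 n.2) (img_autFn _)
        have hle : normalizerIn W P₁ ≤ N := fun w hw => by
          have hwS := hWS' hw.1
          have hwA : conjAut P₁ hw.2 ∈ A := autInducedBy_le_autGroup hP₁S' (conjAut_mem_autInducedBy hw.2 hwS)
          have hwM : (⟨_, hwA⟩ : A) ∈ M := by
            have hwT : w ∈ T := hw.1.1
            have hwQ : ∀ x ∈ P₁ ⊔ X, w * x * w⁻¹ ∈ P₁ ⊔ X := by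
              have h1 : P₁ ⊔ X ≤ (P₁ ⊔ X).comap (MulAut.conj w).toMonoidHom := by
                refine sup_le (fun x hx => Subgroup.mem_sup_left ((mem_normalizer_iff'.1 hw.2).1 x hx))
                  fun x hx => Subgroup.mem_sup_right ?_
                show w * x * w⁻¹ ∈ X
                rwa [← (mem_centralizerIn.1 hw.1).2 x hx, mul_inv_cancel_right]
              exact fun x hx => h1 hx
            have hwn : w ∈ Subgroup.normalizer ((P₁ ⊔ X : Subgroup Ω) : Set Ω) := mem_normalizer_of_map_le hwQ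
            have hv : ∀ x ∈ P₁ ⊔ X, autFn (conjAut (P₁ ⊔ X) hwn) x = w * x * w⁻¹ := fun x hx =>
              (autFn_coe _ ⟨x, hx⟩).trans (conjAut_coe _ _)
            refine ⟨conjAut (P₁ ⊔ X) hwn, ⟨hQ₁, (fn_conj le_sup_right (Subgroup.mem_sup_left hwT)).congr
              fun x hx => (hv x hx).symm, fun x hx => ?_, (fn_conj inf_le_right hwT).congr
              fun x hx => (hv x hx.1).symm⟩, fun x hx => ?_, fun x hx => ?_⟩
            · rw [hv x hx, show x⁻¹ * (w * x * w⁻¹) = x⁻¹ * w * x⁻¹⁻¹ * w⁻¹ by group]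
              exact T.mul_mem (sc_conj hT (S.inv_mem (hQ₁ hx)) hwT) (T.inv_mem hwT)
            · rw [hv x (Subgroup.mem_sup_right hx), ← (mem_centralizerIn.1 hw.1).2 x hx, mul_inv_cancel_right]
            · rw [hv x (Subgroup.mem_sup_left hx), autFn_coe _ ⟨x, hx⟩, conjAut_coe]
          have hcm : (⟨_, hwA⟩ : A) ∈ (Syl : Subgroup A) ⊓ M :=
            ⟨by rw [hSyl]; exact conjAut_mem_autInducedBy hw.2 hwS, hwM⟩
          have h1 := ((Subgroup.mem_normalizer_iff.1 hn _).1 hcm).1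
          rw [hSyl] at h1
          obtain ⟨s, hs, hse⟩ := mem_autInducedBy.1
            (show (n : MulAut P₁) * conjAut P₁ hw.2 * (n : MulAut P₁)⁻¹ ∈ autInducedBy (centralizerIn S X) P₁ from h1)
          refine (hN w).2 ⟨hwS, hw.2, s, hs, fun x hx => ?_⟩
          lift x to P₁ using hx
          have h := hse ((n : MulAut P₁) x)
          simp only [MulAut.mul_apply, MulAut.inv_apply_self] at h
          rw [← conjAut_coe hw.2 x, autFn_coe, autFn_coe]
          exact h
        obtain ⟨α, hα, e, he, hke'⟩ := dmono (le_normalizerIn hP₁W)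
          (hup _ normalizerIn_le ((isConj_card hPP₁).symm ▸ hbigN P₁ (lt_of_le_of_ne hP₁W
            (hne P₁ (isConj_card hPP₁)))) _ (hk.mono hle))
        exact ⟨α, hα, e, he, fun x hx => by rw [← hke x hx, hke' x hx]⟩
      obtain ⟨α, hα, e, he, hfe⟩ := dcomp hmd hnd fun x hx => autFn_mem _ hx
      refine ⟨α, hα, e, he, fun x hx => ?_⟩
      rw [← hfe x hx, show a = (n : MulAut P₁) * (m : MulAut P₁) from (congrArg Subtype.val hnm).symm,
        autFn_mul _ _ hx]
      rfl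
    obtain ⟨g₂', hg₂', hg₂'g, -⟩ := hg₂.exists_inv
    have hg2 := dinv hg₂d hg₂'g
    rw [hg₂i] at hg2
    obtain ⟨α, hα, e, he, hfe⟩ := dcomp hgd (dcomp had hg2 fun x hx => autFn_mem a hx)
      fun x hx => hgi.le (mem_img_of_mem hx)
    refine ⟨α, hα, e, he, fun x hx => ?_⟩
    have hy : g x ∈ P₁ := hgi.le (mem_img_of_mem hx)
    rw [← hfe x hx]
    show f x = g₂' (autFn a (g x))
    rw [autFn_coe a ⟨_, hy⟩, hae]
    show _ = g₂' (g₂ (f (g' (g x))))
    rw [hg'g x hx, hg₂'g _ (mem_img_of_mem hx)]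
  have hKw : K.IsWeaklyNormalIn C p :=
    ⟨hK, hCs, invariant_of_fn hKsubC hWsc htr fun hP hf => hdec _ _ rfl hP _ hf⟩
  obtain ⟨D, hD⟩ := exists_pPrimeResidual hWp hK
  exact ⟨D, residual_normal hS'p hKw hD, fun P φ hφ => hKE P (hD.2.1.1 P hφ)⟩

end CfsgLib.Fsys.EProd
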