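import Cfsg.Agent.Lib.FusionSystem.EProd.Basic

/-! Every map decomposes through the product of a normal subsystem with its source. -/

set_option autoImplicit false

namespace CfsgLib.Fsys.EProd

open Cfsg Cfsg.FusionSystem CfsgLib.Fsys.WNR CfsgLib.Fsys.Meet
open Cfsg.FusionSystem (centralizerIn normalizerIn)
open scoped Pointwise

universe u

variable {Ω : Type u} [Group Ω] {S T B : Subgroup Ω} [Finite S] {F : FusionSystem S} {E : FusionSystem T}
  {P Q : Subgroup Ω} {p : ℕ} [Fact p.Prime]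

omit [Finite S] [Fact p.Prime] in
theorem mem_sup_base (dt : Data F E p) (hP : P ≤ S) {x : Ω} (hx : x ∈ T ⊔ P) : ∃ t ∈ T, ∃ u ∈ P, x = t * u := by
  have hn : P ≤ Subgroup.normalizer (T : Set Ω) := fun u hu => mem_normalizer_iff'.2
    ⟨fun y hy => sc_conj dt.sc (hP hu) hy, fun y hy => by simpa using sc_conj dt.sc (S.inv_mem (hP hu)) hy⟩
  have hm : x ∈ ((T : Set Ω) * (P : Set Ω)) := by
    rw [← Subgroup.coe_mul_of_right_le_normalizer_left T P hn]
    exact hx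
  obtain ⟨t, ht, u, hu, rfl⟩ := hm
  exact ⟨t, ht, u, hu, rfl⟩

/-- A map is a map of the product of its source followed by a map on the product. -/
def Dec (dt : Data F E p) (P : Subgroup Ω) (f : Ω → Ω) : Prop :=
  ∃ d, GMap dt P d ∧ ∃ α, Fn F (T ⊔ P) α ∧ ∀ x ∈ P, f x = α (d x)

variable {dt : Data F E p} {f g : Ω → Ω}

theorem Dec.congr (h : Dec dt P f) (he : ∀ x ∈ P, f x = g x) : Dec dt P g := by
  obtain ⟨d, hd, α, hα, hfd⟩ := h
  exact ⟨d, hd, α, hα, fun x hx => by rw [← he x hx, hfd x hx]⟩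

theorem dec_sub (h : Fn F (T ⊔ P) f) : Dec dt P f :=
  ⟨id, GMap.of_id dt (le_sup_right.trans h.le), f, h, fun _ _ => rfl⟩

theorem dec_gmap (hd : GMap dt P f) : Dec dt P f :=
  ⟨f, hd, id, fn_id (sup_le_base dt hd.le), fun _ _ => rfl⟩

theorem Dec.mono (h : Dec dt P f) (hQ : Q ≤ P) : Dec dt Q f := by
  obtain ⟨d, hd, α, hα, hfd⟩ := h
  obtain ⟨b, hb, e, he, hde⟩ := split dt le_sup_left hd.fn Q hQ
  have hle : T ⊔ Q ≤ T ⊔ P := sup_le_sup_left hQ T
  refine ⟨e, he, α ∘ fun y => b * y * b⁻¹,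
    (fn_conj (sup_le_base dt (hQ.trans hd.le)) (sup_le_base dt hd.le hb)).comp hα fun x hx => ?_, fun x hx => ?_⟩
  · exact Subgroup.mul_mem _ (Subgroup.mul_mem _ hb (hle hx)) (Subgroup.inv_mem _ hb)
  · rw [hfd x (hQ hx), hde x hx]
    rfl

theorem Dec.fn (h : Dec dt P f) : Fn F P f := by
  obtain ⟨d, hd, α, hα, hfd⟩ := h
  exact (hd.fnF.comp hα fun x hx => hd.fn.mem hx).congr fun x hx => (hfd x hx).symm

theorem sup_img_alpha {d α : Ω → Ω} (hd : GMap dt P d) (hα : Fn F (T ⊔ P) α) (hfd : ∀ x ∈ P, f x = α (d x)) :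
    img α (T ⊔ P) = T ⊔ img f P := by
  rw [← hd.sup_img] at hα
  rw [← hd.sup_img, hα.img_sup, sc_img dt.sc le_sup_left hα, ← hd.fnF.img_comp]
  exact congrArg (T ⊔ ·) (img_congr fun x hx => (hfd x hx).symm)

theorem Dec.comp (h : Dec dt P f) (h' : Dec dt (img f P) g) : Dec dt P (g ∘ f) := by
  obtain ⟨d, hd, α, hα, hfd⟩ := h
  obtain ⟨d', hd', α', hα', hgd⟩ := h'
  have hαi := sup_img_alpha hd hα hfd
  obtain ⟨k, hk, hkα, hki⟩ := hα.exists_inv
  rw [hαi] at hk hki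
  obtain ⟨χ, hχ, hχe⟩ := hd'.transport hk
  have hfP : img k (img f P) = img d P := by
    rw [← hd.fnF.img_comp.symm.trans (show img (α ∘ d) P = img f P from img_congr fun x hx => (hfd x hx).symm),
      ← (hα.mono (hd.fn.img_le_base)).img_comp]
    exact (img_congr (g := id) fun y hy => hkα y (hd.fn.img_le_base hy)).trans (img_id _)
  rw [hfP] at hχ
  have hm : ∀ x ∈ T ⊔ P, α x ∈ T ⊔ img f P := fun x hx => hαi.le (mem_img_of_mem hx)
  refine ⟨χ ∘ d, hd.comp hχ, α' ∘ α, hα.comp hα' hm, fun x hx => ?_⟩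
  have hfx : f x ∈ img f P := mem_img_of_mem hx
  have h1 := hχe _ hfx
  have h2 : k (f x) = d x := by rw [hfd x hx, hkα _ (hd.fn.mem hx)]
  rw [h2] at h1
  show g (f x) = α' (α (χ (d x)))
  rw [hgd _ hfx, h1]
  obtain ⟨z, hz, hze⟩ := hα.mem_img.1 (hαi.ge (hd'.fn.mem hfx))
  rw [← hze, hkα z hz]

theorem Dec.inv (h : Dec dt P f) (hgf : ∀ x ∈ P, g (f x) = x) : Dec dt (img f P) g := by
  obtain ⟨d, hd, α, hα, hfd⟩ := h
  have hαi := sup_img_alpha hd hα hfd
  obtain ⟨e, he, hed, -⟩ := hd.fn.exists_inv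
  obtain ⟨χ, hχ, hχe⟩ := (hd.inv hed).transport (hd.sup_img.symm ▸ hα)
  have hfP : img α (img d P) = img f P := by
    rw [← hd.fnF.img_comp]
    exact img_congr fun x hx => (hfd x hx).symm
  rw [hfP] at hχ
  obtain ⟨k, hk, hkα, -⟩ := hα.exists_inv
  rw [hαi] at hk
  refine ⟨χ, hχ, k, hk, fun y hy => ?_⟩
  obtain ⟨x, hx, hxy⟩ := hd.fn.mem_img.1 (show k y ∈ img d P by
    obtain ⟨z, hz, rfl⟩ := ((hd.sup_img.symm ▸ hα).mono le_sup_right).mem_img.1 (hfP.ge hy)
    rwa [hkα z (hd.fn.img_le_base hz)])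
  have hy' : y = f x := by
    obtain ⟨z, hz, rfl⟩ := ((hd.sup_img.symm ▸ hα).mono le_sup_right).mem_img.1 (hfP.ge hy)
    rw [hkα z (hd.fn.img_le_base hz)] at hxy
    rw [hfd x hx, hxy]
  subst hy'
  rw [hgf x hx, hfd x hx, hχe _ (mem_img_of_mem hx), hed x hx, hkα x (Subgroup.mem_sup_right hx)]

/-- A stabilizing conjugation outside a subgroup with small centralizer and non-centric intersection. -/
theorem exists_stab_not_centric (dt : Data F E p) (hP : P ≤ S) (hCP : centralizerIn S P ≤ P)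
    (hPc : F.IsFullyCentralized P) (hc : ¬ WCentric F T (P ⊓ T)) :
    ∃ σ ∈ F.autGroup P, (∀ y ∈ P ⊓ T, autFn σ y = y) ∧ (∀ x ∈ P, x⁻¹ * autFn σ x ∈ P ⊓ T) ∧
      σ ∉ Inn P := by
  have hT := dt.sc
  haveI := finite_of_le_base hP
  set Y := P ⊓ T
  have hYS : Y ≤ S := inf_le_left.trans hP
  simp only [WCentric, not_and, not_forall] at hc
  obtain ⟨R, hR, hRc⟩ := hc inf_le_right
  obtain ⟨c, hcR, hcR'⟩ := SetLike.not_le_iff_exists.1 hRc
  obtain ⟨Z, hYZ, hZ⟩ := exists_fullyNormalized (F := F) hYS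
  have hgood := (fullyNormalized_good dt.isp dt.sat hZ).1
  have hrec := fullyNormalized_receptive dt.isp dt.sat hZ
  obtain ⟨φ, hφ, -, hφi⟩ := exists_normalizer_map dt.isp hgood hrec hYZ
  obtain ⟨ρ, hρ, -, hρi⟩ := exists_normalizer_map dt.isp hgood hrec (isConj_trans (isConj_symm hR) hYZ)
  have hRS := isConj_le_right hR
  have hcS : c ∈ centralizerIn S R := ⟨hT.1 hcR.1, hcR.2⟩
  have hcN := centralizerIn_le_normalizerIn hcS
  have hcZ : ρ c ∈ centralizerIn T Z := ⟨sc_apply hT hρ hcN hcR.1,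
    (hρ.map_centralizer (le_normalizerIn hRS) hρi hcN hcS).2⟩
  have hcZ' : ρ c ∉ Z := fun h => hcR' <| by
    obtain ⟨y, hy, hye⟩ := (hρ.mono (le_normalizerIn hRS)).mem_img.1 (hρi.ge h)
    rwa [← hρ.inj (le_normalizerIn hRS hy) hcN hye]
  have hPN : P ≤ normalizerIn S Y := fun x hx => ⟨hP hx, mem_normalizer_iff'.2
    ⟨fun y hy => ⟨P.mul_mem (P.mul_mem hx hy.1) (P.inv_mem hx), sc_conj hT (hP hx) hy.2⟩,
      fun y hy => ⟨P.mul_mem (P.mul_mem (P.inv_mem hx) hy.1) hx, by simpa using sc_conj hT (S.inv_mem (hP hx)) hy.2⟩⟩⟩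
  have hφP := hφ.mono hPN
  set P' := img φ P
  have hP'S := hφP.img_le_base
  haveI := finite_of_le_base hP'S
  have hP'Z : P' ⊓ T = Z := by rw [img_inf_sc hT hφP]; exact hφi
  have hP'N : P' ≤ normalizerIn S Z := img_le fun x hx =>
    hφ.map_normalizer (le_normalizerIn hYS) hφi (hPN hx) (hPN hx).2
  set M := P' ⊔ centralizerIn T Z
  have hMS : M ≤ S := sup_le hP'S (inf_le_left.trans hT.1)
  have hlt : P' < M := lt_of_le_of_ne le_sup_left fun e =>
    hcZ' (hP'Z.le ⟨e.ge (Subgroup.mem_sup_right hcZ), hcZ.1⟩)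
  obtain ⟨m, hmM, hm, hmP⟩ := exists_mem_normalizer_not_mem dt.isp hMS hlt
  have hCn : P' ≤ Subgroup.normalizer (centralizerIn T Z : Set Ω) := by
    intro x hx
    haveI : Finite ↥(centralizerIn T Z) := finite_of_le_base ((inf_le_left : centralizerIn T Z ≤ T).trans hT.1)
    have hxN := hP'N hx
    refine mem_normalizer_of_map_le fun y hy => ⟨sc_conj hT hxN.1 hy.1, fun z hz => ?_⟩
    have h1 := (mem_centralizerIn.1 hy).2 _ ((mem_normalizer_iff'.1 hxN.2).2 z hz)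
    calc z * (x * y * x⁻¹) = x * ((x⁻¹ * z * x) * y) * x⁻¹ := by group
      _ = x * (y * (x⁻¹ * z * x)) * x⁻¹ := by rw [h1]
      _ = _ := by group
  have hmm : m ∈ ((P' : Set Ω) * (centralizerIn T Z : Set Ω)) := by
    rw [← Subgroup.coe_mul_of_left_le_normalizer_right _ _ hCn]
    exact hmM
  obtain ⟨u, hu, n, hn, hun⟩ := hmm
  dsimp only at hun
  have hnP : n ∉ P' := fun h => hmP (hun ▸ P'.mul_mem hu h)
  have hnN : n ∈ Subgroup.normalizer (P' : Set Ω) := by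
    rw [show n = u⁻¹ * m by rw [← hun]; group]
    exact Subgroup.mul_mem _ (Subgroup.inv_mem _ (Subgroup.le_normalizer hu)) hm.2
  obtain ⟨k, hk, hkφ, hki⟩ := hφP.exists_inv
  obtain ⟨e, he, hmap⟩ := exists_transport hP'S hk hki
  have hσ : MulAut.congr e (conjAut P' hnN) ∈ F.autGroup P :=
    hmap ▸ ⟨_, autInducedBy_le_autGroup hP'S (conjAut_mem_autInducedBy hnN (hT.1 hn.1)), rfl⟩
  have hval : ∀ z ∈ P', autFn (MulAut.congr e (conjAut P' hnN)) (k z) = k (n * z * n⁻¹) := fun z hz => by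
    lift z to P' using hz
    rw [← he z, autFn_coe, show (MulAut.congr e (conjAut P' hnN)) (e z) = e (conjAut P' hnN z) by
      simp [MulAut.congr], he, conjAut_coe]
  refine ⟨_, hσ, fun y hy => ?_, fun x hx => ?_, fun ⟨v, hv⟩ => ?_⟩
  · have hz : φ y ∈ Z := hφi.le (mem_img_of_mem hy)
    have h1 := hval _ (hP'Z.ge hz).1
    rw [show n * φ y * n⁻¹ = φ y by rw [← (mem_centralizerIn.1 hn).2 _ hz]; group, hkφ y hy.1] at h1
    exact h1
  · have hz : φ x ∈ P' := mem_img_of_mem hx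
    have hnz : n * φ x * n⁻¹ ∈ P' := (mem_normalizer_iff'.1 hnN).1 _ hz
    have hd : (φ x)⁻¹ * (n * φ x * n⁻¹) ∈ P' ⊓ T := by
      refine ⟨P'.mul_mem (P'.inv_mem hz) hnz, ?_⟩
      rw [show (φ x)⁻¹ * (n * φ x * n⁻¹) = ((φ x)⁻¹ * n * (φ x)⁻¹⁻¹) * n⁻¹ by group]
      exact T.mul_mem (sc_conj hT (S.inv_mem (hP'S hz)) hn.1) (T.inv_mem hn.1)
    have h1 := hval _ hz
    rw [hkφ x hx] at h1
    have e2 : k ((φ x)⁻¹ * (n * φ x * n⁻¹)) = x⁻¹ * k (n * φ x * n⁻¹) := by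
      rw [hk.map_mul (P'.inv_mem hz) hnz, hk.map_inv hz, hkφ x hx]
    rw [h1, ← e2]
    exact ⟨hki.le (mem_img_of_mem hd.1), sc_apply hT hk hd.1 hd.2⟩
  · obtain ⟨w, hw⟩ : ∃ w ∈ P', k w = (v : Ω) := hk.mem_img.1 (hki.ge v.2)
    refine hnP ?_
    have hcen : n * w⁻¹ ∈ centralizerIn S P' := mem_centralizerIn.2
      ⟨S.mul_mem (hT.1 hn.1) (S.inv_mem (hP'S hw.1)), fun z hz => by
        have hz' : w⁻¹ * z * w ∈ P' := P'.mul_mem (P'.mul_mem (P'.inv_mem hw.1) hz) hw.1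
        have hkz : k (w⁻¹ * z * w) ∈ P := hki.le (mem_img_of_mem hz')
        have h1 := hval _ hz'
        rw [← hv, autFn_coe _ ⟨_, hkz⟩] at h1
        change (v : Ω) * k (w⁻¹ * z * w) * (v : Ω)⁻¹ = _ at h1
        rw [← hw.2, ← hk.map_conj hw.1 hz'] at h1
        have h2 := hk.inj (P'.mul_mem (P'.mul_mem hw.1 hz') (P'.inv_mem hw.1))
          ((mem_normalizer_iff'.1 hnN).1 _ hz') h1
        calc z * (n * w⁻¹) = (w * (w⁻¹ * z * w) * w⁻¹) * (n * w⁻¹) := by group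
          _ = (n * (w⁻¹ * z * w) * n⁻¹) * (n * w⁻¹) := by rw [h2]
          _ = _ := by group⟩
    have hC : centralizerIn S P' ≤ P' := by
      intro c hc
      have hle : img k (P' ⊓ centralizerIn S P') = P ⊓ centralizerIn S P := by
        refine le_antisymm (img_le fun x hx => ⟨hki.le (mem_img_of_mem hx.1), hk.map_centralizer le_rfl hki hx.1 hx.2⟩)
          fun x hx => ?_
        rw [← hkφ x hx.1]
        exact mem_img_of_mem ⟨mem_img_of_mem hx.1, hφP.map_centralizer le_rfl rfl hx.1 hx.2⟩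
      have h1 : Nat.card (centralizerIn S P') ≤ Nat.card ↥(P' ⊓ centralizerIn S P') := by
        rw [← (hk.mono inf_le_left).card_img, hle, inf_eq_right.2 hCP]
        exact hPc.2 _ (isConj_of_fn hφP)
      exact (eq_of_le_of_card centralizerIn_le inf_le_right h1).ge hc |>.1
    have := P'.mul_mem (hC hcen) hw.1
    rwa [inv_mul_cancel_right] at this

/-- An automorphism fixing a subgroup and moving within its cosets has `p`-power order. -/
theorem stab_isPElement (dt : Data F E p) (hP : P ≤ S) {σ : MulAut P} (hfix : ∀ y ∈ P ⊓ T, autFn σ y = y)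
    (hd : ∀ x ∈ P, x⁻¹ * autFn σ x ∈ P ⊓ T) : ∃ K : ℕ, σ ^ p ^ K = 1 := by
  haveI := finite_of_le_base hP
  haveI : Finite ↥(P ⊓ T) := finite_of_le_base (inf_le_left.trans hP)
  obtain ⟨K, hK⟩ := IsPGroup.iff_card.1 (dt.isp.to_le ((inf_le_left : P ⊓ T ≤ P).trans hP))
  exact ⟨K, hK ▸ pow_card_eq_one_of_fix inf_le_left hfix hd⟩

/-- At a fully normalized subgroup such an automorphism is a conjugation. -/
theorem stab_mem_autInducedBy (dt : Data F E p) (hP : F.IsFullyNormalized P) {σ : MulAut P}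
    (hσ : σ ∈ F.autGroup P) (hfix : ∀ y ∈ P ⊓ T, autFn σ y = y)
    (hd : ∀ x ∈ P, x⁻¹ * autFn σ x ∈ P ⊓ T) : σ ∈ autInducedBy S P := by
  haveI := finite_of_le_base hP.1
  have hA := (fullyNormalized_good dt.isp dt.sat hP).1
  let St : Subgroup (MulAut P) :=
    { carrier := {b | b ∈ F.autGroup P ∧ (∀ y ∈ P ⊓ T, autFn b y = y) ∧ ∀ x ∈ P, x⁻¹ * autFn b x ∈ P ⊓ T}
      one_mem' := ⟨one_mem _, fun y hy => autFn_id hy.1, fun x hx => by rw [autFn_id hx, inv_mul_cancel]; exact one_mem _⟩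
      mul_mem' := fun {b c} hb hc => ⟨mul_mem hb.1 hc.1,
        fun y hy => by rw [autFn_mul _ _ hy.1, hc.2.1 y hy, hb.2.1 y hy],
        fun x hx => by
          rw [autFn_mul _ _ hx, show x⁻¹ * autFn b (autFn c x) =
            (x⁻¹ * autFn c x) * ((autFn c x)⁻¹ * autFn b (autFn c x)) by group]
          exact mul_mem (hc.2.2 x hx) (hb.2.2 _ (autFn_mem c hx))⟩
      inv_mem' := fun {b} hb => ⟨inv_mem hb.1,
        fun y hy => by conv_lhs => rw [← hb.2.1 y hy, autFn_inv_apply b hy.1]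
        , fun x hx => by
          have h := inv_mem (hb.2.2 _ (autFn_mem b⁻¹ hx))
          rw [autFn_apply_inv b hx] at h
          simpa using h⟩ }
  obtain ⟨γ, hγ, hγT⟩ := exists_conj_into dt.isp hA (T := St) (fun b hb => hb.1) (fun b => by
    obtain ⟨K, hK⟩ := stab_isPElement dt hP.1 b.2.2.1 b.2.2.2
    exact ⟨K, Subtype.ext (by rw [SubmonoidClass.coe_pow]; exact hK)⟩)
  have hγi := (mem_autGroup_iff_fn hP.1).1 (inv_mem hγ)
  have hmem : γ⁻¹ * σ * γ⁻¹⁻¹ ∈ St := by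
    refine ⟨mul_mem (mul_mem (inv_mem hγ) hσ) (inv_mem (inv_mem hγ)), fun y hy => ?_, fun x hx => ?_⟩
    · have hz : autFn γ y ∈ P ⊓ T :=
        ⟨autFn_mem γ hy.1, sc_apply dt.sc ((mem_autGroup_iff_fn hP.1).1 hγ) hy.1 hy.2⟩
      rw [inv_inv, autFn_mul _ _ hy.1, autFn_mul _ _ hz.1, hfix _ hz, autFn_inv_apply γ hy.1]
    · have hz := autFn_mem γ hx
      have hdz := hd _ hz
      rw [inv_inv, autFn_mul _ _ hx, autFn_mul _ _ hz, ← mul_inv_cancel_left (autFn γ x) (autFn σ (autFn γ x)),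
        hγi.map_mul hz hdz.1, autFn_inv_apply γ hx, inv_mul_cancel_left]
      exact ⟨autFn_mem _ hdz.1, sc_apply dt.sc hγi hdz.1 hdz.2⟩
  have := hγT _ hmem
  simpa [mul_assoc] using this

/-- Every map decomposes. -/
theorem dec (dt : Data F E p) (hf : Fn F P f) : Dec dt P f := by
  classical
  have hT := dt.sc
  let D : FusionSystem S := predSystem F (fun P f => Dec dt P f)
    (fun _ _ _ he _ h => h.congr he)
    (fun P hP s hs => dec_sub (fn_conj (sup_le_base dt hP) hs))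
    (fun P R f g hf _ hm h h' => h.comp (h'.mono (img_le hm)))
    (fun P f g _ _ hgf h => h.inv hgf)
  suffices hle : F ≤ D from (fn_predSystem.1 (fn_of_le hle hf)).2
  refine le_of_automizers dt.isp dt.sat D (fun a ha => ?_) fun P hPS hPn hbig => ?_
  · have hf := (mem_autGroup_iff_fn le_rfl).1 ha
    exact (mem_autGroup_iff_fn le_rfl).2
      (fn_predSystem.2 ⟨hf, dec_sub (by rwa [sup_eq_right.2 hT.1])⟩)
  haveI := finite_of_le_base hPn.1
  haveI : Finite (MulAut P) := Finite.of_injective (fun f : MulAut P => (f : P → P)) DFunLike.coe_injective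
  obtain ⟨hA, hfc⟩ := fullyNormalized_good dt.isp dt.sat hPn
  have hrec := fullyCentralized_receptive dt.isp dt.sat hfc
  have hext : ∀ a : MulAut P, a ∈ F.autGroup P →
      (∃ m, m ∉ P ∧ InExt S P (autFn a) m) → a ∈ D.autGroup P := by
    intro a ha ⟨m, hmP, hm⟩
    obtain ⟨N, g, hg, hPN, hN, hge⟩ := receptive_extend hrec ((mem_autGroup_iff_fn hPn.1).1 ha) (img_autFn a)
    have hlt : P < N := lt_of_le_of_ne hPN fun e => hmP (e.ge ((hN m).2 hm))
    haveI := finite_of_le_base hg.le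
    have hD := (hbig N g (Set.Finite.card_lt_card (Set.toFinite (N : Set Ω)) hlt) hg).mono hPN
    exact (mem_autGroup_iff_fn hPn.1).2 (hD.congr hge)
  by_cases hTP : T ≤ P
  · intro a ha
    have hf := (mem_autGroup_iff_fn hPn.1).1 ha
    exact (mem_autGroup_iff_fn hPn.1).2 (fn_predSystem.2 ⟨hf, dec_sub (by rwa [sup_eq_right.2 hTP])⟩)
  by_cases hCP : centralizerIn S P ≤ P
  swap
  · obtain ⟨m, hm, hmP⟩ := SetLike.not_le_iff_exists.1 hCP
    exact fun a ha => hext a ha ⟨m, hmP, inExt_of_commute hm⟩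
  by_cases hc : WCentric F T (P ⊓ T)
  swap
  · obtain ⟨σ, hσ, hfix, hd, hσI⟩ := exists_stab_not_centric dt hPn.1 hCP hfc hc
    obtain ⟨m, hm, hmσ⟩ := mem_autInducedBy.1 (stab_mem_autInducedBy dt hPn hσ hfix hd)
    have hmN : m ∈ Subgroup.normalizer (P : Set Ω) := mem_normalizer_of_autEq hmσ
    have hmP : m ∉ P := fun h => hσI ⟨⟨m, h⟩, MulEquiv.ext fun x => Subtype.ext (hmσ x).symm⟩
    intro a ha
    have haf := (mem_autGroup_iff_fn hPn.1).1 ha
    have hconj : a * σ * a⁻¹ ∈ autInducedBy S P := by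
      refine stab_mem_autInducedBy dt hPn (mul_mem (mul_mem ha hσ) (inv_mem ha)) (fun y hy => ?_) fun x hx => ?_
      · have hz : autFn a⁻¹ y ∈ P ⊓ T := ⟨autFn_mem _ hy.1,
          sc_apply hT ((mem_autGroup_iff_fn hPn.1).1 (inv_mem ha)) hy.1 hy.2⟩
        rw [autFn_mul _ _ hy.1, autFn_mul _ _ hz.1, hfix _ hz, autFn_apply_inv a hy.1]
      · have hz := autFn_mem a⁻¹ hx
        have hdz := hd _ hz
        rw [autFn_mul _ _ hx, autFn_mul _ _ hz, ← mul_inv_cancel_left (autFn a⁻¹ x) (autFn σ (autFn a⁻¹ x)),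
          haf.map_mul hz hdz.1, autFn_apply_inv a hx, inv_mul_cancel_left]
        exact ⟨autFn_mem _ hdz.1, sc_apply hT haf hdz.1 hdz.2⟩
    obtain ⟨s, hs, hse⟩ := mem_autInducedBy.1 hconj
    refine hext a ha ⟨m, hmP, hm, hmN, s, hs, fun x hx => ?_⟩
    have h1 := hse ⟨autFn a x, autFn_mem a hx⟩
    rw [← autFn_coe, autFn_mul _ _ (autFn_mem a hx), autFn_mul _ _ (autFn_mem _ (autFn_mem a hx)),
      autFn_inv_apply a hx, autFn_coe σ ⟨x, hx⟩, hmσ] at h1
    exact h1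
  -- centric intersection
  set A := F.autGroup P
  let K : Subgroup (MulAut P) :=
    { carrier := {a | IsGam F E P a}
      one_mem' := ⟨one_mem _, fun x hx => by rw [autFn_id hx, inv_mul_cancel]; exact one_mem _,
        (fn_id inf_le_right).congr fun x hx => (autFn_id hx.1).symm⟩
      mul_mem' := fun {a b} ha hb => ⟨mul_mem ha.1 hb.1, fun x hx => by
          rw [autFn_mul _ _ hx, show x⁻¹ * autFn a (autFn b x) =
            (x⁻¹ * autFn b x) * ((autFn b x)⁻¹ * autFn a (autFn b x)) by group]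
          exact mul_mem (hb.2.1 x hx) (ha.2.1 _ (autFn_mem b hx)),
        (hb.2.2.comp ha.2.2 fun x hx => ⟨autFn_mem b hx.1, hb.2.2.mem hx⟩).congr
          fun x hx => (autFn_mul a b hx.1).symm⟩
      inv_mem' := fun {a} ha => ⟨inv_mem ha.1, fun x hx => by
          have h := inv_mem (ha.2.1 _ (autFn_mem a⁻¹ hx))
          rw [autFn_apply_inv a hx] at h
          simpa using h, by
          obtain ⟨k, hk, hka, -⟩ := ha.2.2.exists_inv
          haveI : Finite T := finite_of_le_base hT.1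
          rw [ha.2.2.img_eq_self fun x hx => ⟨autFn_mem a hx.1, ha.2.2.mem hx⟩] at hk
          refine hk.congr fun y hy => ?_
          have hy' : y ∈ img (autFn a) (P ⊓ T) := by
            rwa [ha.2.2.img_eq_self fun x hx => ⟨autFn_mem a hx.1, ha.2.2.mem hx⟩]
          obtain ⟨x, hx, rfl⟩ := ha.2.2.mem_img.1 hy'
          rw [hka x hx, autFn_inv_apply a hx.1]⟩ }
  have hKn : ∀ b ∈ A, ∀ k ∈ K, b * k * b⁻¹ ∈ K := by
    intro b hb k hk
    obtain ⟨c, hc, -, hcv⟩ := IsGam.transport dt ((mem_autGroup_iff_fn hPn.1).1 hb) hk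
    refine ⟨mul_mem (mul_mem hb hk.1) (inv_mem hb), fun x hx => ?_, ?_⟩
    · obtain ⟨y, hy, rfl⟩ := ((mem_autGroup_iff_fn hPn.1).1 hb).mem_img.1 ((img_autFn b).ge hx)
      rw [autFn_mul _ _ (autFn_mem b hy), autFn_inv_apply b hy, autFn_mul _ _ hy, ← hcv y hy]
      exact hc.2.1 _ (mem_img_of_mem hy)
    · refine (hc.2.2.mono (inf_le_inf_right T (img_autFn b).ge)).congr fun x hx => ?_
      obtain ⟨y, hy, rfl⟩ := ((mem_autGroup_iff_fn hPn.1).1 hb).mem_img.1 ((img_autFn b).ge hx.1)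
      rw [autFn_mul _ _ (autFn_mem b hy), autFn_inv_apply b hy, autFn_mul _ _ hy, ← hcv y hy]
  have hKA : K ≤ A := fun a ha => ha.1
  haveI : (K.subgroupOf A).Normal := ⟨fun k hk b => hKn b b.2 k hk⟩
  obtain ⟨-, Syl, hSyl⟩ := hA
  let KA := K.subgroupOf A
  have hi : ¬ p ∣ ((Syl : Subgroup A) ⊓ KA).relIndex KA :=
    CfsgLib.Fusion.Basic.not_dvd_relIndex_of_normal Syl KA
  let PK : Sylow p KA := CfsgLib.Fusion.Basic.sylowSubgroupOf (inf_le_right : (Syl : Subgroup A) ⊓ KA ≤ KA)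
    (Syl.2.to_le inf_le_left) hi
  have hmap : (PK : Subgroup KA).map KA.subtype = (Syl : Subgroup A) ⊓ KA :=
    CfsgLib.Fusion.Basic.map_sylowSubgroupOf _ _ hi
  have hKD : ∀ k : KA, ((k : A) : MulAut P) ∈ D.autGroup P := by
    intro k
    obtain ⟨o, ho, r, hr, e⟩ := CfsgLib.Fusion.Basic.exists_eq_pResidual_mul PK k
    rw [e, Subgroup.coe_mul, Subgroup.coe_mul]
    refine mul_mem ?_ ?_
    · clear e
      induction ho using Subgroup.closure_induction with
      | mem b hb =>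
        have hb' : IsGam F E P ((b : A) : MulAut P) := b.2
        refine (mem_autGroup_iff_fn hPn.1).2 (fn_predSystem.2 ⟨(mem_autGroup_iff_fn hPn.1).1 hb'.1,
          dec_gmap (gmap_gen dt ⟨hPn.1, hc⟩ hb' (by rw [Subgroup.orderOf_coe, Subgroup.orderOf_coe]; exact hb) le_rfl)⟩)
      | one => exact one_mem _
      | mul x y _ _ hx hy => exact mul_mem hx hy
      | inv x _ hx => exact inv_mem hx
    · have hr' := hmap.le ⟨r, hr, rfl⟩
      have hr'' : ((r : A) : MulAut P) ∈ autInducedBy S P := by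
        have := hr'.1
        rw [hSyl] at this
        exact this
      exact autInducedBy_le_autGroup hPn.1 hr''
  intro a ha
  have hmem : (⟨a, ha⟩ : A) ∈
      ((Subgroup.normalizer (((PK : Subgroup KA).map KA.subtype : Subgroup A) : Set A) ⊔ KA : Subgroup A) : Set A) := by
    rw [Sylow.normalizer_sup_eq_top]
    exact Subgroup.mem_top _
  rw [Subgroup.mul_normal] at hmem
  obtain ⟨n, hn, k, hk, hnk⟩ := hmem
  rw [show a = (n : MulAut P) * (k : MulAut P) from (congrArg Subtype.val hnk).symm]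
  refine mul_mem ?_ (hKD ⟨k, hk⟩)
  rw [hmap] at hn
  have hlt : P < T ⊔ P := lt_of_le_of_ne le_sup_right fun e => hTP (e.ge.trans' le_sup_left)
  obtain ⟨m, hmM, hm, hmP⟩ := exists_mem_normalizer_not_mem dt.isp (sup_le_base dt hPn.1) hlt
  obtain ⟨t, ht, u, hu, rfl⟩ := mem_sup_base dt hPn.1 hmM
  have htN : t ∈ Subgroup.normalizer (P : Set Ω) := by
    have h := Subgroup.mul_mem _ hm.2 (Subgroup.inv_mem _ (Subgroup.le_normalizer hu))
    rwa [mul_inv_cancel_right] at h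
  have htS := hT.1 ht
  have htA : conjAut P htN ∈ A := autInducedBy_le_autGroup hPn.1 (conjAut_mem_autInducedBy htN htS)
  have htK : conjAut P htN ∈ K := by
    refine ⟨htA, fun x hx => ?_, ?_⟩
    · rw [autFn_coe _ ⟨x, hx⟩, conjAut_coe]
      show x⁻¹ * (t * x * t⁻¹) ∈ T
      rw [show x⁻¹ * (t * x * t⁻¹) = x⁻¹ * t * x⁻¹⁻¹ * t⁻¹ by group]
      exact T.mul_mem (sc_conj hT (S.inv_mem (hPn.1 hx)) ht) (T.inv_mem ht)
    · exact (fn_conj inf_le_right ht).congr fun x hx => ((autFn_coe _ ⟨x, hx.1⟩).trans (conjAut_coe _ _)).symm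
  have hcm : (⟨conjAut P htN, htA⟩ : A) ∈ (Syl : Subgroup A) ⊓ KA :=
    ⟨by rw [hSyl]; exact conjAut_mem_autInducedBy htN htS, htK⟩
  have h1 := ((Subgroup.mem_normalizer_iff.1 hn _).1 hcm).1
  rw [hSyl] at h1
  obtain ⟨s, hs, hse⟩ := mem_autInducedBy.1
    (show (n : MulAut P) * conjAut P htN * (n : MulAut P)⁻¹ ∈ autInducedBy S P from h1)
  refine hext _ n.2 ⟨t, fun h => hmP (P.mul_mem h hu), htS, htN, s, hs, fun x hx => ?_⟩
  lift x to P using hx
  have h := hse ((n : MulAut P) x)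
  simp only [MulAut.mul_apply, MulAut.inv_apply_self] at h
  rw [← conjAut_coe htN x, autFn_coe, autFn_coe]
  exact h

end CfsgLib.Fsys.EProd
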