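import Cfsg.Agent.Lib.FusionSystem.EProd.Realize
import Cfsg.Agent.Lib.FusionSystem.Criterion

/-! The group of coprime generators, and the layers of a product by the order of the subgroups. -/

set_option autoImplicit false

namespace CfsgLib.Fsys.EProd

open Cfsg Cfsg.FusionSystem CfsgLib.Fsys.WNR CfsgLib.Fsys.Meet
open Cfsg.FusionSystem (centralizerIn normalizerIn)

universe u

variable {Ω : Type u} [Group Ω] {S T B B' R : Subgroup Ω} {F : FusionSystem S} {E : FusionSystem T}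
  {P Q X : Subgroup Ω} {p : ℕ}

theorem gsys_mono {hB : B ≤ S} {hB' : B' ≤ S} (h : B ≤ B') {f : Ω → Ω} (hf : Fn (gsys F E p hB) P f) :
    Fn (gsys F E p hB') P f := by
  let M : FusionSystem B := predSystem (gsys F E p hB) (fun P f => Fn (gsys F E p hB') P f)
    (fun _ _ _ he _ hg => hg.congr he) (fun _ hP _ hs => fn_conj (hP.trans h) (h hs))
    (fun _ _ _ _ _ _ hm h₁ h₂ => h₁.comp h₂ hm)
    (fun P f g _ _ hgf h₁ => by
      obtain ⟨k, hk, hkf, -⟩ := h₁.exists_inv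
      exact hk.congr fun y hy => by
        obtain ⟨x, hx, rfl⟩ := h₁.mem_img.1 hy
        rw [hkf x hx, hgf x hx])
  exact (fn_predSystem.1 (gsys_le (M := M) (fun Q hQ hc a ha hco =>
    fn_predSystem.2 ⟨gen_mem hQ hc ha hco, gen_mem (hQ.trans h) hc ha hco⟩) hf)).2

/-- The group generated by the coprime generators at a subgroup. -/
def oGrp (F : FusionSystem S) (E : FusionSystem T) (p : ℕ) (Q : Subgroup Ω) : Subgroup (MulAut Q) :=
  Subgroup.closure {a | IsGam F E Q a ∧ Nat.Coprime (orderOf a) p}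

theorem oGrp_le_autGroup : oGrp F E p Q ≤ F.autGroup Q :=
  (Subgroup.closure_le _).2 fun _ ha => ha.1.1

theorem oGrp_le_gsys {hB : B ≤ S} (hQ : Cat F T Q) (hQB : Q ≤ B) :
    oGrp F E p Q ≤ (gsys F E p hB).autGroup Q :=
  (Subgroup.closure_le _).2 fun _ ha => (mem_autGroup_iff_fn hQB).2 (gen_mem hQB hQ ha.1 ha.2)

variable [Finite S] [Fact p.Prime]

theorem oGrp_congr (dt : Data F E p) {α : Ω → Ω} (hα : Fn F P α) (hi : img α P = Q) (e : P ≃* Q)
    (he : ∀ x : P, ((e x : Q) : Ω) = α x) : (oGrp F E p P).map (MulAut.congr e).toMonoidHom ≤ oGrp F E p Q := by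
  subst hi
  rw [oGrp, MonoidHom.map_closure]
  refine Subgroup.closure_mono ?_
  rintro _ ⟨a, ⟨ha, hco⟩, rfl⟩
  obtain ⟨b, hb, hbo, hbv⟩ := ha.transport dt hα
  rw [show (MulAut.congr e).toMonoidHom a = b from MulEquiv.ext fun y => Subtype.ext (by
    obtain ⟨x, rfl⟩ := e.surjective y
    rw [← autFn_coe b (e x), he, hbv x x.2, autFn_coe,
      show (MulAut.congr e).toMonoidHom a (e x) = e (a x) by simp [MulAut.congr], he])]
  exact ⟨hb, hbo ▸ hco⟩

theorem oGrp_transport (dt : Data F E p) {α : Ω → Ω} (hα : Fn F P α) (hi : img α P = Q) {k : MulAut P}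
    (hk : k ∈ oGrp F E p P) : ∃ k' ∈ oGrp F E p Q, ∀ x ∈ P, autFn k' (α x) = α (autFn k x) := by
  obtain ⟨e, he, -⟩ := exists_transport hα.le hα hi
  refine ⟨MulAut.congr e k, oGrp_congr dt hα hi e he ⟨k, hk, rfl⟩, fun x hx => ?_⟩
  lift x to P using hx
  rw [← he x, autFn_coe, show (MulAut.congr e k) (e x) = e (k x) by simp [MulAut.congr], he, autFn_coe]

theorem oGrp_conj (dt : Data F E p) (hP : P ≤ S) {b k : MulAut P} (hb : b ∈ F.autGroup P)
    (hk : k ∈ oGrp F E p P) : b * k * b⁻¹ ∈ oGrp F E p P := by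
  obtain ⟨k', hk', hke⟩ := oGrp_transport dt ((mem_autGroup_iff_fn hP).1 hb) (img_autFn b) hk
  rwa [show b * k * b⁻¹ = k' from mulAut_ext fun x hx => by
    rw [autFn_mul _ _ hx, autFn_mul _ _ (autFn_mem _ hx), ← hke _ (autFn_mem _ hx), autFn_apply_inv b hx]]

theorem coprime_mem_oGrp (dt : Data F E p) {hB : B ≤ S} (hTB : T ≤ B) (hPB : P ≤ B) {a : MulAut P}
    (ha : a ∈ (gsys F E p hB).autGroup P) (hco : Nat.Coprime (orderOf a) p) : a ∈ oGrp F E p P :=
  Subgroup.subset_closure ⟨isGam_of_coprime dt hTB ((mem_autGroup_iff_fn hPB).1 ha) hco, hco⟩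

theorem pow_mem_oGrp (dt : Data F E p) {hB : B ≤ S} (hTB : T ≤ B) (hPB : P ≤ B) {a : MulAut P}
    (ha : a ∈ (gsys F E p hB).autGroup P) : ∃ n : ℕ, a ^ p ^ n ∈ oGrp F E p P := by
  haveI := finite_of_le_base (hPB.trans hB)
  haveI : Finite (MulAut P) := Finite.of_injective (fun f : MulAut P => (f : P → P)) DFunLike.coe_injective
  obtain ⟨n, hn⟩ := CfsgLib.Fusion.Basic.exists_pow_coprime (p := p) a
  exact ⟨n, coprime_mem_oGrp dt hTB hPB (pow_mem ha _) hn⟩

section Layers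

variable (dt : Data F E p) (hR : R ≤ S)

/-- The part of the product generated above the order `r`. -/
def uSys (_dt : Data F E p) (hR : R ≤ S) (r : ℕ) : FusionSystem R :=
  predSystem (gsys F E p hR)
    (fun P f => ∀ M : FusionSystem R,
      (∀ Q, Q ≤ R → Cat F T Q → r < Nat.card Q → ∀ a : MulAut Q, IsGam F E Q a → Nat.Coprime (orderOf a) p →
        Fn M Q (autFn a)) → Fn M P f)
    (fun _ _ _ he _ h M hM => (h M hM).congr he) (fun _ hP _ hs _ _ => fn_conj hP hs)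
    (fun _ _ _ _ _ _ hm h h' M hM => (h M hM).comp (h' M hM) hm)
    (fun P f g hf _ hgf h M hM => by
      obtain ⟨k, hk, hkf, -⟩ := (h M hM).exists_inv
      exact hk.congr fun y hy => by
        obtain ⟨x, hx, rfl⟩ := hf.mem_img.1 hy
        rw [hkf x hx, hgf x hx])

theorem uSys_sub (r : ℕ) : (uSys dt hR r).IsSubsystemOf (gsys F E p hR) := fun _ _ h => h.1

theorem uSys_subF (r : ℕ) : (uSys dt hR r).IsSubsystemOf F := fun _ _ h => gsys_sub _ (uSys_sub dt hR r _ h)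

theorem gen_mem_uSys {r : ℕ} (hQR : Q ≤ R) (hQ : Cat F T Q) (hr : r < Nat.card Q) {a : MulAut Q}
    (ha : IsGam F E Q a) (hco : Nat.Coprime (orderOf a) p) : Fn (uSys dt hR r) Q (autFn a) :=
  fn_predSystem.2 ⟨gen_mem hQR hQ ha hco, fun _ hM => hM Q hQR hQ hr a ha hco⟩

theorem uSys_le {r : ℕ} {M : FusionSystem R}
    (hM : ∀ Q, Q ≤ R → Cat F T Q → r < Nat.card Q → ∀ a : MulAut Q, IsGam F E Q a → Nat.Coprime (orderOf a) p →
      Fn M Q (autFn a)) {f : Ω → Ω} (hf : Fn (uSys dt hR r) P f) : Fn M P f :=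
  (fn_predSystem.1 hf).2 M hM

/-- The family generating the layer. -/
theorem uSys_gen (r : ℕ) (M : FusionSystem R)
    (hM : ∀ Q ∈ {Q | (Q ≤ R ∧ Cat F T Q) ∧ r < Nat.card Q}, (uSys dt hR r).Hom Q ⊆ M.Hom Q) :
    uSys dt hR r ≤ M := fun P φ hφ => by
  refine mem_hom_iff.2 (uSys_le dt hR (fun Q hQR hQ hr a ha hco => ?_) (fn_ofHom hφ))
  obtain ⟨ψ, hψ, hψe⟩ := gen_mem_uSys dt hR hQR hQ hr ha hco
  exact ⟨ψ, hM Q ⟨⟨hQR, hQ⟩, hr⟩ hψ, hψe⟩

theorem gsys_gen (M : FusionSystem R)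
    (hM : ∀ Q ∈ {Q | Q ≤ R ∧ Cat F T Q}, (gsys F E p hR).Hom Q ⊆ M.Hom Q) : gsys F E p hR ≤ M := fun P φ hφ => by
  refine mem_hom_iff.2 (gsys_le (fun Q hQR hQ a ha hco => ?_) (fn_ofHom hφ))
  obtain ⟨ψ, hψ, hψe⟩ := gen_mem (hB := hR) hQR hQ ha hco
  exact ⟨ψ, hM Q ⟨hQR, hQ⟩ hψ, hψe⟩

/-- Above the order `r` the layer is the whole product. -/
theorem fn_uSys {r : ℕ} {f : Ω → Ω} (hf : Fn (gsys F E p hR) P f) (hr : r < Nat.card P) :
    Fn (uSys dt hR r) P f := by
  haveI := finite_of_le_base hR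
  let M : FusionSystem R := predSystem (gsys F E p hR) (fun P f => r < Nat.card P → Fn (uSys dt hR r) P f)
    (fun _ _ _ he _ h hr => (h hr).congr he) (fun _ hP _ hs _ => fn_conj hP hs)
    (fun P Z f g hf hg hm h h' hr => by
      haveI := finite_of_le_base (hg.le.trans hR)
      exact (h hr).comp (h' (hr.trans_le (hf.card_img.ge.trans (Subgroup.card_le_of_le (img_le hm))))) hm)
    (fun P f g hf _ hgf h hr => by
      obtain ⟨k, hk, hkf, -⟩ := (h (hf.card_img ▸ hr)).exists_inv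
      exact hk.congr fun y hy => by
        obtain ⟨x, hx, rfl⟩ := hf.mem_img.1 hy
        rw [hkf x hx, hgf x hx])
  exact (fn_predSystem.1 (gsys_le (M := M) (fun Q hQR hQ a ha hco =>
    fn_predSystem.2 ⟨gen_mem hQR hQ ha hco, fun hr => gen_mem_uSys dt hR hQR hQ hr ha hco⟩) hf)).2 hr

theorem uSys_good {r : ℕ} (hP : P ≤ R) (hr : r < Nat.card P) (h : Criterion.Good (gsys F E p hR) p P) :
    Criterion.Good (uSys dt hR r) p P := by
  haveI := finite_of_le_base hR
  obtain ⟨Q, hQ, hA, hrec⟩ := h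
  have hrQ : r < Nat.card Q := (isConj_card hQ).symm ▸ hr
  obtain ⟨f, hf, hfi⟩ := isConj_iff.1 hQ
  refine ⟨Q, isConj_iff.2 ⟨f, fn_uSys dt hR hf hr, hfi⟩, ?_, receptive_of_extend hrec.1 fun P g hg hgi => ?_⟩
  · have e : (uSys dt hR r).autGroup Q = (gsys F E p hR).autGroup Q :=
      le_antisymm (autGroup_mono' (uSys_sub dt hR r) Q) fun _ ha =>
        (mem_autGroup_iff_fn hA.1).2 (fn_uSys dt hR ((mem_autGroup_iff_fn hA.1).1 ha) hrQ)
    unfold FusionSystem.IsFullyAutomized at hA ⊢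
    rwa [e]
  · obtain ⟨N, k, hk, hPN, hN, hke⟩ := receptive_extend hrec (hg.of_subsystem (uSys_sub dt hR r)) hgi
    refine ⟨k, fun N' hN' => ?_, hke⟩
    have hle : N' ⊔ P ≤ N := sup_le (fun x hx => (hN x).2 (hN' x hx)) hPN
    haveI := finite_of_le_base ((hle.trans hk.le).trans hR)
    refine (fn_uSys dt hR (hk.mono hle) ?_).mono le_sup_left
    calc r < Nat.card Q := hrQ
      _ = Nat.card P := hgi ▸ hg.card_img
      _ ≤ _ := Subgroup.card_le_of_le le_sup_right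

/-- Below a subgroup, a map of the product is a map of the layer composed with generators. -/
theorem dec_level {r : ℕ} {f : Ω → Ω} (hf : Fn (gsys F E p hR) P f) (hXP : X ≤ P) (hX : Cat F T X)
    (hr : Nat.card X = r) :
    ∃ k ∈ oGrp F E p X, ∃ b, Fn (uSys dt hR r) X b ∧ ∀ x ∈ X, f x = b (autFn k x) := by
  haveI := finite_of_le_base hR
  let C : Subgroup Ω → (Ω → Ω) → Prop := fun P f => ∀ X ≤ P, Cat F T X → Nat.card X = r →
    ∃ k ∈ oGrp F E p X, ∃ b, Fn (uSys dt hR r) X b ∧ ∀ x ∈ X, f x = b (autFn k x)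
  let M : FusionSystem R := predSystem (gsys F E p hR) C
    (fun P f g he _ h X hX hXc hr => by
      obtain ⟨k, hk, b, hb, hfb⟩ := h X hX hXc hr
      exact ⟨k, hk, b, hb, fun x hx => by rw [← he x (hX hx), hfb x hx]⟩)
    (fun P hP s hs X hX hXc _ => ⟨1, one_mem _, _, fn_conj (hX.trans hP) hs, fun x hx => by rw [autFn_id hx]⟩)
    (fun P Z f g hf hg hm h h' X hX hXc hr => by
      obtain ⟨k, hk, b, hb, hfb⟩ := h X hX hXc hr
      have hi : img f X = img b X := by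
        rw [img_congr (f := f) (g := b ∘ autFn k) fun x hx => hfb x hx,
          ((mem_autGroup_iff_fn hXc.1).1 (oGrp_le_autGroup hk)).img_comp, img_autFn]
      have hbF := hb.of_subsystem (uSys_subF dt hR r)
      obtain ⟨k', hk', b', hb', hgb⟩ := h' (img b X) (hi ▸ img_le fun x hx => hm x (hX hx)) (hXc.conj dt hbF)
        (hbF.card_img.trans hr)
      obtain ⟨c, hc, hcb, hci⟩ := hb.exists_inv
      obtain ⟨k'', hk'', hke⟩ := oGrp_transport dt (hc.of_subsystem (uSys_subF dt hR r)) hci hk'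
      refine ⟨k'' * k, mul_mem hk'' hk, b' ∘ b, hb.comp hb' fun x hx => mem_img_of_mem hx, fun x hx => ?_⟩
      have hkx : autFn k x ∈ X := autFn_mem k hx
      have hbx : b (autFn k x) ∈ img b X := mem_img_of_mem hkx
      have e1 := hke _ hbx
      rw [hcb _ hkx] at e1
      obtain ⟨z, hz, hze⟩ := hb.mem_img.1 (autFn_mem k' hbx)
      rw [← hze, hcb z hz] at e1
      show g (f x) = b' (b (autFn (k'' * k) x))
      rw [hfb x hx, hgb _ hbx, autFn_mul _ _ hx, e1, hze])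
    (fun P f g hf hg hgf h X hX hXc hr => by
      have hgX := hg.mono hX
      have hX₀P : img g X ≤ P := img_le fun y hy => by
        obtain ⟨x, hx, rfl⟩ := hf.mem_img.1 (hX hy)
        rw [hgf x hx]
        exact hx
      obtain ⟨k, hk, b, hb, hfb⟩ :=
        h _ hX₀P (hXc.conj dt (hgX.of_subsystem gsys_sub)) (hgX.card_img.trans hr)
      have hfg : ∀ y ∈ X, f (g y) = y := fun y hy => by
        obtain ⟨x, hx, rfl⟩ := hf.mem_img.1 (hX hy)
        rw [hgf x hx]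
      have hbF := hb.of_subsystem (uSys_subF dt hR r)
      have hbi : img b (img g X) = X := by
        refine eq_of_le_of_card hXc.1 (img_le fun z hz => ?_) (by rw [hb.card_img, hgX.card_img])
        rw [show b z = f (autFn k⁻¹ z) by rw [hfb _ (autFn_mem _ hz), autFn_apply_inv k hz]]
        obtain ⟨y, hy, hyz⟩ := hgX.mem_img.1 (autFn_mem k⁻¹ hz)
        rw [← hyz, hfg y hy]
        exact hy
      obtain ⟨c, hc, hcb, hci⟩ := hb.exists_inv
      rw [hbi] at hc hci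
      obtain ⟨k', hk', hke⟩ := oGrp_transport dt hbF hbi (inv_mem hk)
      refine ⟨k', hk', c, hc, fun y hy => ?_⟩
      obtain ⟨z, hz, rfl⟩ := hb.mem_img.1 (hbi.ge hy)
      obtain ⟨y₀, hy₀, hy₀e⟩ := hgX.mem_img.1 (autFn_mem k⁻¹ hz)
      have h1 : b z = y₀ := by
        rw [show b z = f (autFn k⁻¹ z) by rw [hfb _ (autFn_mem _ hz), autFn_apply_inv k hz], ← hy₀e, hfg y₀ hy₀]
      rw [hke z hz, hcb _ (autFn_mem _ hz), h1, hy₀e])
  refine (fn_predSystem.1 (gsys_le (M := M) (fun Y hYR hY a ha hco => ?_) hf)).2 X hXP hX hr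
  refine fn_predSystem.2 ⟨gen_mem hYR hY ha hco, fun X hX hXc hr => ?_⟩
  haveI := finite_of_le_base hY.1
  rcases (Subgroup.card_le_of_le hX).eq_or_lt with hc | hc
  · obtain rfl : X = Y := eq_of_le_of_card hY.1 hX hc.ge
    exact ⟨a, Subgroup.subset_closure ⟨ha, hco⟩, id, fn_id hYR, fun _ _ => rfl⟩
  · exact ⟨1, one_mem _, autFn a, (gen_mem_uSys dt hR hYR hY (hr ▸ hc) ha hco).mono hX,
      fun x hx => by rw [autFn_id hx]⟩

end Layers

end CfsgLib.Fsys.EProd
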