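import Cfsg.Agent.Lib.FusionSystem.EProd.Decomp

/-! The fusion of the local group lies in the product. -/

set_option autoImplicit false

namespace CfsgLib.Fsys.EProd

open Cfsg Cfsg.FusionSystem CfsgLib.Fsys.WNR CfsgLib.Fsys.Meet
open Cfsg.FusionSystem (centralizerIn normalizerIn)
open CfsgLib.Fusion.Alperin (Chain Tame chain_of_conj)
open scoped Pointwise

universe u

variable {Ω : Type u} [Group Ω] {S T Z X : Subgroup Ω} [Finite S] {F : FusionSystem S} {E : FusionSystem T}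
  {p : ℕ} [Fact p.Prime] {L : Type u} [Group L] (dt : Data F E p) (hZ : WCentric F T Z)
  (lg : LocalGroup p F Z L)

/-- The normal subgroup of the local group carrying the fusion of the normal subsystem. -/
abbrev nSub : Subgroup L := mSub (setup dt.isp dt.nrm) (le_inf hZ.1 hZ.1) lg

omit [Fact p.Prime] in
theorem wcentric' (h : WCentric F T Z) : WCentric F (T ⊓ T) Z := by rwa [inf_idem]

omit [Fact p.Prime] in
theorem mem_wRange {x : L} : x ∈ wRange (T ⊓ T) lg ↔ ∃ w : normalizerIn S Z, (w : Ω) ∈ T ∧ lg.emb w = x := by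
  constructor
  · rintro ⟨w, hw, rfl⟩
    exact ⟨w, hw.1, rfl⟩
  · rintro ⟨w, hw, rfl⟩
    exact Subgroup.mem_map_of_mem lg.emb (show w ∈ (T ⊓ T).subgroupOf (normalizerIn S Z) from ⟨hw, hw⟩)

theorem emb_mem_nSub {w : normalizerIn S Z} (hw : (w : Ω) ∈ T) : lg.emb w ∈ nSub dt hZ lg :=
  Subgroup.mem_sup_right ((mem_wRange lg).2 ⟨w, hw, rfl⟩)

theorem nSub_normal : (nSub dt hZ lg).Normal := mSub_normal (setup dt.isp dt.nrm) (le_inf hZ.1 hZ.1) lg

/-- An element of the normal subgroup in the image of the base lies in `T`. -/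
theorem nSub_range (hZn : F.IsFullyNormalized Z) {w : normalizerIn S Z} (hw : lg.emb w ∈ nSub dt hZ lg) :
    (w : Ω) ∈ T := by
  obtain ⟨v, hv, hvw⟩ := (mem_wRange lg).1
    (mSub_inf_range (setup dt.isp dt.nrm) (le_inf hZ.1 hZ.1) lg hZn ⟨hw, w, rfl⟩)
  exact lg.inj hvw ▸ hv

/-- The kernel on `Z` of the normal subgroup is the image of the centre of `Z`. -/
theorem nSub_ker (hZn : F.IsFullyNormalized Z) {x : L} (hx : x ∈ nSub dt hZ lg)
    (hfix : ∀ y ∈ Z, autFn (lg.act x) y = y) :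
    ∃ v : normalizerIn S Z, (v : Ω) ∈ Z ∧ (∀ y ∈ Z, (v : Ω) * y = y * (v : Ω)) ∧ lg.emb v = x := by
  haveI := lg.fin
  have hZS : Z ≤ S := hZn.1
  haveI := finite_of_le_base hZS
  have st := setup dt.isp dt.nrm
  obtain ⟨RS, hRS⟩ := lg.syl
  set M := nSub dt hZ lg
  set res := resY lg (base_le st (le_inf hZ.1 hZ.1))
  haveI := nSub_normal dt hZ lg
  have hKp : IsPGroup p ↥(M ⊓ res.ker) := by
    intro z
    obtain ⟨j, hj⟩ := CfsgLib.Fusion.Basic.exists_pow_coprime (p := p) (z : L)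
    refine ⟨j, Subtype.ext ?_⟩
    obtain ⟨hzM, hzk⟩ := (M ⊓ res.ker).pow_mem z.2 (p ^ j)
    have hzX := mSub_le st (le_inf hZ.1 hZ.1) lg hzM
    set z' := (z : L) ^ p ^ j
    show z' = 1
    have hfix : ∀ y ∈ Z, autFn (lg.act z') y = y := fun y hy => by
      rw [← resY_apply lg (base_le st (le_inf hZ.1 hZ.1)) z' hy, show res z' = 1 from hzk, autFn_id hy]
    have hmv : ∀ x ∈ Z ⊔ centralizerIn S Z, x⁻¹ * autFn (lg.act z') x ∈ Z := by
      intro x hx
      obtain ⟨y, hy, c, hcc, rfl⟩ := mem_sup_of_commute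
        (fun a ha b hb => (mem_centralizerIn.1 hb).2 a ha) hx
      have hd : c⁻¹ * autFn (lg.act z') c ∈ Z := hZ.2 Z (isConj_refl hZS) <| mem_centralizerIn.2
        ⟨(hzX.1 c hcc).1, fun y' hy' => by
          have e1 : Commute y' c := (mem_centralizerIn.1 hcc).2 y' hy'
          have e2 : Commute y' (autFn (lg.act z') c) := (mem_centralizerIn.1 (lg.act_C hZS z' hcc)).2 y' hy'
          exact (e1.inv_right.mul_right e2).eq⟩
      rw [(lg.fn_act hZS z').map_mul (Subgroup.mem_sup_left hy) (Subgroup.mem_sup_right hcc), hfix y hy,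
        show (y * c)⁻¹ * (y * autFn (lg.act z') c) = c⁻¹ * autFn (lg.act z') c by group]
      exact hd
    have hpc := pow_card_eq_one_of_fix le_sup_left hfix hmv
    obtain ⟨K, hK⟩ := IsPGroup.iff_card.1 (dt.isp.to_le hZS)
    rw [hK] at hpc
    have hact : lg.act z' = 1 := orderOf_eq_one_iff.1 (Nat.eq_one_of_dvd_coprimes (hj.pow_right K)
      (orderOf_map_dvd lg.act z') (orderOf_dvd_of_pow_eq_one hpc))
    obtain ⟨v, -, hv⟩ := lg.act_ker z' hact
    obtain ⟨i, hi⟩ := dt.isp.to_le normalizerIn_le v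
    refine orderOf_eq_one_iff.1 (Nat.eq_one_of_dvd_coprimes (hj.pow_right i) dvd_rfl (orderOf_dvd_of_pow_eq_one ?_))
    rw [hv, ← map_pow, hi, map_one]
  have hxk : x ∈ res.ker := mulAut_ext fun y hy => by
    rw [resY_apply lg _ x hy, hfix y hy, autFn_id hy]
  obtain ⟨v, hvx⟩ : x ∈ lg.emb.range := (hKp.le_sylow_of_normal RS).trans hRS.le ⟨hx, hxk⟩
  have hvc : ∀ y ∈ Z, (v : Ω) * y = y * (v : Ω) := fun y hy => by
    have h1 := lg.act_emb v y (Subgroup.mem_sup_left hy)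
    rw [hvx, hfix y hy] at h1
    conv_rhs => rw [h1]
    group
  exact ⟨v, hZ.2 Z (isConj_refl hZS) (mem_centralizerIn.2
    ⟨nSub_range dt hZ lg hZn (hvx ▸ hx), fun y hy => (hvc y hy).symm⟩), hvc, hvx⟩

include hZ in
set_option maxHeartbeats 800000 in
/-- Conjugation by an element of the normal subgroup, where defined, lies in the product. -/
theorem nSub_fusion (hZn : F.IsFullyNormalized Z) {m : L} (hm : m ∈ nSub dt hZ lg) (hZX : Z ≤ X)
    (hXN : X ≤ normalizerIn S Z) (hd : Defd lg m X) {hB : T ⊔ X ≤ S} :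
    Fn (gsys F E p hB) X (cj lg.emb m) := by
  classical
  haveI := lg.fin
  have hZS : Z ≤ S := hZn.1
  haveI := finite_of_le_base hZS
  haveI := finite_of_le_base (normalizerIn_le (S := S) (P := Z))
  have st := setup dt.isp dt.nrm
  have hT := dt.sc
  set M := nSub dt hZ lg with hM
  haveI hMn : M.Normal := nSub_normal dt hZ lg
  have hZ' := wcentric' hZ
  set R₁ := normalizerIn S Z ⊓ (T ⊔ X) with hR₁
  set RE := (R₁.subgroupOf (normalizerIn S Z)).map lg.emb with hRE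
  have hRE' : ∀ {w : normalizerIn S Z}, lg.emb w ∈ RE ↔ (w : Ω) ∈ R₁ := by
    intro w
    constructor
    · rintro ⟨v, hv, hvw⟩
      exact lg.inj hvw ▸ hv
    · exact fun h => Subgroup.mem_map_of_mem lg.emb (show w ∈ R₁.subgroupOf _ from h)
  set H := M ⊔ RE with hHdef
  have hHmem : ∀ a ∈ H, ∃ b ∈ M, ∃ e ∈ RE, a = b * e := fun a ha => by
    have h1 : a ∈ ((M ⊔ RE : Subgroup L) : Set L) := ha
    rw [Subgroup.normal_mul] at h1
    obtain ⟨b, hb, e, he, rfl⟩ := h1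
    exact ⟨b, hb, e, he, rfl⟩
  have hREp : IsPGroup p RE := ((dt.isp.to_le normalizerIn_le).to_subgroup _).map _
  -- the Sylow subgroup of `H`
  have hREH : RE ≤ H := le_sup_right
  obtain ⟨PH, hPH⟩ : ∃ PH : Sylow p H, ∀ a : H, a ∈ (PH : Subgroup H) ↔ (a : L) ∈ RE := by
    obtain ⟨PH, hPH⟩ := (hREp.comap_of_injective H.subtype H.subtype_injective).exists_le_sylow
    refine ⟨PH, fun a => ⟨fun ha => ?_, fun ha => hPH ha⟩⟩
    obtain ⟨b, hb, e, he, hab⟩ := hHmem a a.2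
    have hbP : (⟨b, Subgroup.mem_sup_left hb⟩ : H) ∈ (PH : Subgroup H) := by
      have : (⟨b, Subgroup.mem_sup_left hb⟩ : H) = a * (⟨e, hREH he⟩ : H)⁻¹ := Subtype.ext (by
        show b = (a : L) * e⁻¹
        rw [hab, mul_inv_cancel_right])
      rw [this]
      exact Subgroup.mul_mem _ ha (Subgroup.inv_mem _ (hPH he))
    have hQp : IsPGroup p (((PH : Subgroup H).map H.subtype ⊓ M : Subgroup L)) :=
      (PH.2.map H.subtype).to_le inf_le_left
    let PM : Sylow p M := CfsgLib.Fusion.Basic.sylowSubgroupOf (le_sup_right : wRange (T ⊓ T) lg ≤ M)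
      (((dt.isp.to_le normalizerIn_le).to_subgroup _).map _)
      (mSub_sylow st (le_inf hZ.1 hZ.1) lg hZn)
    have hle : (PM : Subgroup M) ≤ ((PH : Subgroup H).map H.subtype ⊓ M).subgroupOf M := by
      intro w hw
      simp only [PM, CfsgLib.Fusion.Basic.coe_sylowSubgroupOf, Subgroup.mem_subgroupOf] at hw
      obtain ⟨v, hv, hvw'⟩ := (mem_wRange lg).1 hw
      have hvw : lg.emb v = (w : L) := hvw'
      have hvR : lg.emb v ∈ RE := hRE'.2 ⟨v.2, Subgroup.mem_sup_left hv⟩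
      have hwR : (w : L) ∈ RE := hvw ▸ hvR
      exact ⟨⟨⟨(w : L), hREH hwR⟩, hPH hwR, rfl⟩, w.2⟩
    have heq := PM.3 (hQp.comap_of_injective M.subtype M.subtype_injective) hle
    have hbw : (⟨b, hb⟩ : M) ∈ (PM : Subgroup M) := by
      rw [← heq]
      exact ⟨⟨_, hbP, rfl⟩, hb⟩
    simp only [PM, CfsgLib.Fusion.Basic.coe_sylowSubgroupOf, Subgroup.mem_subgroupOf] at hbw
    obtain ⟨v, hv, hvb'⟩ := (mem_wRange lg).1 hbw
    have hvb : lg.emb v = b := hvb'
    rw [hab]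
    exact RE.mul_mem (hvb ▸ hRE'.2 ⟨v.2, Subgroup.mem_sup_left hv⟩) he
  -- coprime elements lie in `M`
  have hcoM : ∀ a ∈ H, Nat.Coprime (orderOf a) p → a ∈ M := by
    intro a ha hco
    obtain ⟨b, hb, e, he, rfl⟩ := hHmem a ha
    obtain ⟨k, hk⟩ := hREp ⟨e, he⟩
    have hk' : e ^ p ^ k = 1 := congrArg Subtype.val hk
    have hπ : QuotientGroup.mk' M (b * e) = QuotientGroup.mk' M e := by
      rw [map_mul, show QuotientGroup.mk' M b = 1 from (QuotientGroup.eq_one_iff _).2 hb, one_mul]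
    have h1 : QuotientGroup.mk' M (b * e) = 1 := orderOf_eq_one_iff.1 (Nat.eq_one_of_dvd_coprimes
      (hco.pow_right k) (orderOf_map_dvd _ _) (orderOf_dvd_of_pow_eq_one (by
        rw [hπ, ← map_pow, hk', map_one])))
    exact (QuotientGroup.eq_one_iff _).1 h1
  have hXB : X ≤ T ⊔ X := le_sup_right
  have hR₁B : R₁ ≤ T ⊔ X := inf_le_right
  have hZN : Z ≤ normalizerIn S Z := le_normalizerIn hZS
  let ZH : Subgroup H := ((Z.subgroupOf (normalizerIn S Z)).map lg.emb).subgroupOf H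
  haveI hZHn : ZH.Normal := ⟨fun a ha b => by
    obtain ⟨y, hy, hya⟩ := ha
    obtain ⟨hval, hyN, z, hz⟩ := lg.rel (b : L) (y : Ω) (Subgroup.mem_sup_left hy)
    rw [cj_eq lg.inj hyN hz] at hval
    refine ⟨z, show (z : Ω) ∈ Z from hval ▸ lg.act_Y _ _ hy, ?_⟩
    rw [hz, show (⟨(y : Ω), hyN⟩ : normalizerIn S Z) = y from rfl, hya]
    rfl⟩
  have hZHp : IsPGroup p ZH :=
    ((((dt.isp.to_le normalizerIn_le).to_subgroup _).map _).comap_of_injective _ (Subgroup.subtype_injective H))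
  have key : ∀ (A : Set H) (g : H), Chain PH A g → ∀ P : Subgroup Ω, Z ≤ P → P ≤ R₁ →
      (∀ x ∈ P, ∃ (hx : x ∈ normalizerIn S Z) (h : lg.emb ⟨x, hx⟩ ∈ H), (⟨lg.emb ⟨x, hx⟩, h⟩ : H) ∈ A) →
      Fn (gsys F E p hB) P (cj lg.emb ((g⁻¹ : H) : L)) := by
    intro A g hc
    induction hc with
    | nil A hA =>
      intro P hZP hPR hPA
      rw [inv_one]
      exact (fn_id (hPR.trans hR₁B)).congr fun x hx => (cj_one (hPA x hx).1).symm
    | cons A Q x g ht hx hA _ ih =>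
      intro P hZP hPR hPA
      set Dd : Subgroup H := (PH : Subgroup H) ⊓ (Q : Subgroup H) with hDd
      let RD : Subgroup Ω := ((Dd.map H.subtype).comap lg.emb).map (normalizerIn S Z).subtype
      have hmemD : ∀ {w : Ω}, w ∈ RD ↔
          ∃ (hw : w ∈ normalizerIn S Z) (h : lg.emb ⟨w, hw⟩ ∈ H), (⟨lg.emb ⟨w, hw⟩, h⟩ : H) ∈ Dd := by
        intro w
        constructor
        · rintro ⟨v, ⟨d, hd, hdv⟩, rfl⟩
          have hdv' : (d : L) = lg.emb v := hdv
          exact ⟨v.2, hdv' ▸ d.2, (Subtype.ext hdv' : d = ⟨lg.emb v, hdv' ▸ d.2⟩) ▸ hd⟩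
        · rintro ⟨hw, h, hd⟩
          exact ⟨⟨w, hw⟩, ⟨_, hd, rfl⟩, rfl⟩
      have hRDR : RD ≤ R₁ := fun w hw => by
        obtain ⟨hwN, h, hd⟩ := hmemD.1 hw
        exact hRE'.1 ((hPH _).1 hd.1)
      have hRDB : RD ≤ T ⊔ X := hRDR.trans hR₁B
      have hRDN : RD ≤ normalizerIn S Z := fun w hw => (hmemD.1 hw).1
      have hRDS : RD ≤ S := hRDN.trans normalizerIn_le
      haveI := finite_of_le_base hRDS
      have hZRD : Z ≤ RD := fun y hy => hmemD.2 <| by
        have h : lg.emb ⟨y, hZN hy⟩ ∈ H := Subgroup.mem_sup_left (emb_mem_nSub dt hZ lg (hZ.1 hy))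
        have hmem : (⟨lg.emb ⟨y, hZN hy⟩, h⟩ : H) ∈ ZH :=
          Subgroup.mem_map_of_mem lg.emb (show (⟨y, hZN hy⟩ : normalizerIn S Z) ∈ _ from hy)
        exact ⟨hZN hy, h, hZHp.le_sylow_of_normal PH hmem, hZHp.le_sylow_of_normal Q hmem⟩
      have hCat : Cat F T RD := ⟨hRDS, hZ.mono (le_inf hZRD hZ.1) inf_le_right⟩
      set K : Subgroup H := Subgroup.normalizer (Dd : Set H) with hKdef
      have hKd : ∀ a ∈ K, Defd lg (a : L) RD ∧ ∀ w ∈ RD, cj lg.emb (a : L) w ∈ RD := by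
        intro a ha
        have h1 : ∀ w ∈ RD, ∃ (hw : w ∈ normalizerIn S Z) (v : normalizerIn S Z),
            lg.emb v = (a : L) * lg.emb ⟨w, hw⟩ * (a : L)⁻¹ ∧ (v : Ω) ∈ RD := fun w hw => by
          obtain ⟨hwN, h, hd⟩ := hmemD.1 hw
          have h2 := (Subgroup.mem_normalizer_iff.1 ha _).1 hd
          obtain ⟨v, -, hve⟩ := (hPH _).1 h2.1
          have hve' : lg.emb v = (a : L) * lg.emb ⟨w, hwN⟩ * (a : L)⁻¹ := hve
          have hvH : lg.emb v ∈ H := hve' ▸ (a * ⟨_, h⟩ * a⁻¹ : H).2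
          exact ⟨hwN, v, hve', hmemD.2 ⟨v.2, hvH, (Subtype.ext hve : (⟨lg.emb v, hvH⟩ : H) = _) ▸ h2⟩⟩
        refine ⟨fun w hw => let ⟨hwN, v, hv, _⟩ := h1 w hw; ⟨hwN, v, hv⟩, fun w hw => ?_⟩
        obtain ⟨hwN, v, hv, hvD⟩ := h1 w hw
        rwa [cj_eq lg.inj hwN hv]
      let good : Subgroup K :=
        { carrier := {a | Fn (gsys F E p hB) RD (cj lg.emb ((a : H) : L))}
          one_mem' := (fn_id hRDB).congr fun w hw => (cj_one (hRDN hw)).symm
          mul_mem' := fun {a b} ha hb =>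
            (fn_cj_mul (hKd _ b.2).1 (hKd _ a.2).1 (hKd _ b.2).2 hb ha).1
          inv_mem' := fun {a} ha => by
            have hpow : ∀ j : ℕ, Fn (gsys F E p hB) RD (cj lg.emb (((a ^ j : K) : H) : L)) := fun j => by
              induction j with
              | zero =>
                rw [pow_zero]
                exact (fn_id hRDB).congr fun w hw => (cj_one (hRDN hw)).symm
              | succ j ih =>
                rw [pow_succ]
                exact (fn_cj_mul (hKd _ a.2).1 (hKd _ (a ^ j).2).1 (hKd _ a.2).2 ha ih).1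
            have e : a⁻¹ = a ^ (orderOf a - 1) := inv_eq_of_mul_eq_one_right <| by
              rw [← pow_succ', Nat.sub_add_cancel (orderOf_pos a), pow_orderOf_eq_one]
            show Fn (gsys F E p hB) RD (cj lg.emb (((a⁻¹ : K) : H) : L))
            rw [e]
            exact hpow _ }
      have hres : pResidual p K ≤ good := (Subgroup.closure_le _).2 fun a ha => by
        obtain ⟨hda, hma⟩ := hKd _ a.2
        have hf := lg.realize _ RD hRDN hda
        obtain ⟨ν, hνA, hνe⟩ := exists_aut_of_fn hf (hf.img_eq_self hma)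
        have hco : Nat.Coprime (orderOf ((a : H) : L)) p := by
          rwa [Subgroup.orderOf_coe, Subgroup.orderOf_coe]
        have haM := hcoM _ (a : H).2 hco
        have hνv : ∀ w ∈ RD, autFn ν w = cj lg.emb ((a : H) : L) w := fun w hw =>
          (autFn_coe ν ⟨w, hw⟩).trans (hνe ⟨w, hw⟩)
        have hνg : IsGam F E RD ν := by
          refine ⟨hνA, fun w hw => ?_, ?_⟩
          · obtain ⟨hwN, v, hv⟩ := hda w hw
            rw [hνv w hw, cj_eq lg.inj hwN hv]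
            refine nSub_range dt hZ lg hZn (w := (⟨w, hwN⟩ : normalizerIn S Z)⁻¹ * v) ?_
            rw [map_mul, map_inv, hv,
              show (lg.emb ⟨w, hwN⟩)⁻¹ * (((a : H) : L) * lg.emb ⟨w, hwN⟩ * ((a : H) : L)⁻¹) =
                ((lg.emb ⟨w, hwN⟩)⁻¹ * ((a : H) : L) * (lg.emb ⟨w, hwN⟩)⁻¹⁻¹) * ((a : H) : L)⁻¹ by group]
            exact M.mul_mem (hMn.conj_mem _ haM _) (M.inv_mem haM)
          · have hRT : RD ⊓ T ≤ T ⊓ T := le_inf inf_le_right inf_le_right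
            have h1 := mSub_fusion st lg hZ' hZn haM (le_inf hZRD hZ.1) hRT fun w hw => hda w hw.1
            exact (h1.of_subsystem (meetSys_sub_left st)).congr fun w hw => (hνv w hw.1).symm
        have hνc : Nat.Coprime (orderOf ν) p := coprime_of_cj lg.inj (fun w hw => by
          obtain ⟨hwN, v, hv⟩ := hda w hw
          exact ⟨hwN, v, hv, by rw [hνv w hw, cj_eq lg.inj hwN hv]⟩) hco
        exact (gen_mem hRDB hCat hνg hνc).congr fun w hw => hνv w hw
      have hi : ¬ p ∣ ((PH : Subgroup H) ⊓ K).relIndex K := ht.1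
      have hfx : Fn (gsys F E p hB) RD (cj lg.emb ((x⁻¹ : H) : L)) := by
        let PK : Sylow p K := CfsgLib.Fusion.Basic.sylowSubgroupOf (inf_le_right : (PH : Subgroup H) ⊓ K ≤ K)
          (PH.2.to_le inf_le_left) hi
        obtain ⟨o, ho, u, hu, hou⟩ :=
          CfsgLib.Fusion.Basic.exists_eq_pResidual_mul PK (⟨x⁻¹, Subgroup.inv_mem _ hx⟩ : K)
        have hu' : u ∈ good := by
          rw [CfsgLib.Fusion.Basic.coe_sylowSubgroupOf, Subgroup.mem_subgroupOf] at hu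
          obtain ⟨w, hw, hwu⟩ := (hPH _).1 hu.1
          show Fn (gsys F E p hB) RD (cj lg.emb ((u : H) : L))
          rw [← hwu]
          exact fn_cj_conj hRDB hRDN (hR₁B hw)
        have := good.mul_mem (hres ho) hu'
        rw [← hou] at this
        exact this
      obtain ⟨hxd, hxm⟩ := hKd x⁻¹ (Subgroup.inv_mem _ hx)
      have hPD : P ≤ RD := fun w hw => by
        obtain ⟨hwN, h, ha⟩ := hPA w hw
        exact hmemD.2 ⟨hwN, h, hA ha⟩
      have hP1 := hfx.mono hPD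
      set P1 := img (cj lg.emb ((x⁻¹ : H) : L)) P with hP1def
      have hZ1 : Z ≤ P1 := by
        refine (lg.img_act hZS ((x⁻¹ : H) : L)).ge.trans ((img_congr fun y hy => ?_).le.trans (img_mono hZP))
        exact ((lg.rel _ y (Subgroup.mem_sup_left hy)).1).symm
      have hP1R : P1 ≤ R₁ := img_le fun w hw => hRDR (hxm w (hPD hw))
      have hA1 : ∀ v ∈ P1, ∃ (hv : v ∈ normalizerIn S Z) (h : lg.emb ⟨v, hv⟩ ∈ H),
          (⟨lg.emb ⟨v, hv⟩, h⟩ : H) ∈ (fun a => x⁻¹ * a * x) '' A := by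
        intro v hv
        obtain ⟨w, hw, rfl⟩ := hP1.mem_img.1 hv
        obtain ⟨hwN, h, ha⟩ := hPA w hw
        obtain ⟨hwN', y, hy⟩ := hxd w (hPD hw)
        have e := cj_eq lg.inj hwN' hy
        have e2 : lg.emb y = ((x⁻¹ * ⟨_, h⟩ * x : H) : L) := by
          rw [hy]
          simp [mul_assoc]
        have hyN : cj lg.emb ((x⁻¹ : H) : L) w ∈ normalizerIn S Z := by rw [e]; exact y.2
        refine ⟨hyN, ?_, ⟨_, ha, Subtype.ext ?_⟩⟩
        · rw [show (⟨_, hyN⟩ : normalizerIn S Z) = y from Subtype.ext e, e2]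
          exact (x⁻¹ * ⟨_, h⟩ * x : H).2
        · show ((x⁻¹ * ⟨_, h⟩ * x : H) : L) = lg.emb _
          rw [← e2]
          exact congrArg lg.emb (Subtype.ext e.symm)
      have hih := ih P1 hZ1 hP1R hA1
      have hd1 : Defd lg ((g⁻¹ : H) : L) P1 := fun v hv => by
        obtain ⟨hvN, h, hmem⟩ := hA1 v hv
        have h1 := (Chain.image_subset (by assumption : Chain PH ((fun a => x⁻¹ * a * x) '' A) g))
          (Set.mem_image_of_mem (fun a => g⁻¹ * a * g) hmem)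
        obtain ⟨u, -, hu⟩ := (hPH _).1 h1
        exact ⟨hvN, u, hu.trans (by simp [mul_assoc])⟩
      have hmul := (fn_cj_mul (fun w hw => hxd w (hPD hw)) hd1 (fun w hw => mem_img_of_mem hw) hP1 hih).1
      rwa [show ((g⁻¹ : H) : L) * ((x⁻¹ : H) : L) = (((x * g)⁻¹ : H) : L) by simp] at hmul
  let A : Set H := {a | ∃ x ∈ X, ∃ hx : x ∈ normalizerIn S Z, lg.emb ⟨x, hx⟩ = (a : L)}
  have hXR : X ≤ R₁ := le_inf hXN hXB
  have hA : A ⊆ (PH : Set H) := by
    rintro a ⟨x, hx, hxN, hxa⟩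
    exact (hPH a).2 (hxa ▸ hRE'.2 (hXR hx))
  set m' : H := ⟨m, Subgroup.mem_sup_left hm⟩
  have hAg : (fun a => (m'⁻¹)⁻¹ * a * m'⁻¹) '' A ⊆ (PH : Set H) := by
    rintro _ ⟨a, ⟨x, hx, hxN, hxa⟩, rfl⟩
    obtain ⟨_, y, hy⟩ := hd x hx
    refine (hPH _).2 ?_
    have hval : (((m'⁻¹)⁻¹ * a * m'⁻¹ : H) : L) = lg.emb y := by
      rw [hy, hxa]
      simp [m']
    rw [hval, hRE']
    have hxy : ((⟨x, hxN⟩ : normalizerIn S Z)⁻¹ * y : normalizerIn S Z).1 ∈ T := by
      refine nSub_range dt hZ lg hZn ?_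
      rw [map_mul, map_inv, hy, show (lg.emb ⟨x, hxN⟩)⁻¹ * (m * lg.emb ⟨x, hxN⟩ * m⁻¹) =
        ((lg.emb ⟨x, hxN⟩)⁻¹ * m * (lg.emb ⟨x, hxN⟩)⁻¹⁻¹) * m⁻¹ by group]
      exact M.mul_mem (hMn.conj_mem _ hm _) (M.inv_mem hm)
    refine ⟨y.2, ?_⟩
    have hxy' : x⁻¹ * (y : Ω) ∈ T := hxy
    rw [show (y : Ω) = x * (x⁻¹ * (y : Ω)) by group]
    exact Subgroup.mul_mem _ (hXB hx) (Subgroup.mem_sup_left hxy')
  have h := key A _ (chain_of_conj PH A _ hA hAg) X hZX hXR fun x hx =>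
    ⟨hXN hx, hREH (hRE'.2 (hXR hx)), x, hx, hXN hx, rfl⟩
  rwa [inv_inv] at h

end CfsgLib.Fsys.EProd
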