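import Cfsg.Agent.Lib.FusionSystem.EProd.Saturated
import Cfsg.Agent.Lib.FusionSystem.PPowerExistence
import Cfsg.Agent.Lib.FusionSystem.NormalMisc
import Cfsg.Agent.Lib.FusionSystem.CoreDisplacement
import Cfsg.Agent.Lib.FusionSystem.TateFusion
import Cfsg.Agent.Lib.FusionSystem.Hyperfocal

/-! The product of a normal subsystem with an overgroup of its base: residual and uniqueness. -/

set_option autoImplicit false

namespace CfsgLib.Fsys.EProd

open Cfsg Cfsg.FusionSystem CfsgLib.Fsys.WNR CfsgLib.Fsys.Meet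
open Cfsg.FusionSystem (centralizerIn normalizerIn)
open scoped Pointwise

universe u

variable {Ω : Type u} [Group Ω] {R H : Subgroup Ω} [Finite R] {G : FusionSystem R} {P : Subgroup Ω}
  {p : ℕ} [Fact p.Prime]

theorem disp_mem_hyperfocal (hP : P ≤ R) {a : MulAut P} (ha : a ∈ G.autGroup P)
    (hco : Nat.Coprime (orderOf a) p) {x : Ω} (hx : x ∈ P) : x⁻¹ * autFn a x ∈ G.hyperfocalSubgroup p := by
  refine Subgroup.subset_closure ⟨P, ⟨a, ha⟩, ⟨x, hx⟩, hP, Subgroup.subset_closure ?_, by rw [autFn_coe a ⟨x, hx⟩]⟩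
  show Nat.Coprime (orderOf (⟨a, ha⟩ : G.autGroup P)) p
  rwa [← Subgroup.orderOf_coe]

/-- A coprime automorphism restricts to one of coprime order. -/
theorem exists_restrict {Y : Subgroup Ω} (hP : P ≤ R) (hYP : Y ≤ P) {a : MulAut P} (ha : a ∈ G.autGroup P)
    (hco : Nat.Coprime (orderOf a) p) (hinv : ∀ y ∈ Y, autFn a y ∈ Y) :
    ∃ b ∈ G.autGroup Y, Nat.Coprime (orderOf b) p ∧ ∀ y ∈ Y, autFn b y = autFn a y := by
  haveI := finite_of_le_base (hYP.trans hP)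
  have hf := ((mem_autGroup_iff_fn hP).1 ha).mono hYP
  obtain ⟨b, hb, hbe⟩ := exists_aut_of_fn hf (hf.img_eq_self hinv)
  have hbv : ∀ y ∈ Y, autFn b y = autFn a y := fun y hy => (autFn_coe b ⟨y, hy⟩).trans (hbe _)
  refine ⟨b, hb, Nat.Coprime.coprime_dvd_left (orderOf_dvd_of_pow_eq_one (mulAut_ext fun x hx => ?_)) hco, hbv⟩
  have hpow : ∀ j : ℕ, ∀ x ∈ Y, autFn (b ^ j) x = autFn (a ^ j) x := fun j => by
    induction j with
    | zero => intro x hx; rw [pow_zero, pow_zero, autFn_id hx, autFn_id (hYP hx)]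
    | succ j ih =>
      intro x hx
      rw [pow_succ, pow_succ, autFn_mul _ _ hx, autFn_mul _ _ (hYP hx), ih _ (autFn_mem b hx), hbv x hx]
  rw [hpow _ x hx, pow_orderOf_eq_one, autFn_id (hYP hx), autFn_id hx]

omit [Finite R] [Fact p.Prime] in
theorem residual_le {B : Subgroup (MulAut P)}
    (h : ∀ a ∈ G.autGroup P, Nat.Coprime (orderOf a) p → a ∈ B) :
    (pResidual p (G.autGroup P)).map (G.autGroup P).subtype ≤ B := by
  rw [Subgroup.map_le_iff_le_comap]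
  refine (Subgroup.closure_le _).2 fun a ha => h _ a.2 ?_
  show Nat.Coprime (orderOf (a : MulAut P)) p
  rw [Subgroup.orderOf_coe]
  exact ha

/-- Maps on subgroups of the base of a `p`-power index subsystem. -/
theorem low_maps (hRp : IsPGroup p R) (hG : G.IsSaturated p) {G₁ : FusionSystem H} (hn : G₁.IsNormalIn G p)
    (hi : G₁.HasPPowerIndexIn G p) {M : FusionSystem R}
    (hM : ∀ (Q : Subgroup Ω) (g : Ω → Ω), Fn G₁ Q g → Fn M Q g)
    {f : Ω → Ω} (hP : P ≤ H) (hf : Fn G P f) : Fn M P f := by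
  have hH : H ≤ R := hn.1.2.2.2.1.1
  haveI := finite_of_le_base hH
  obtain ⟨β, hβ, e, he, hfe⟩ := Invariant.frattini hn.1.2.2 hP hf
  have hHn : G.IsFullyNormalized H := ⟨hH, fun W hW => by
    obtain ⟨g, hg, hgi⟩ := isConj_iff.1 hW
    rw [← hgi, sc_img hn.1.2.2.2.1 le_rfl hg]⟩
  obtain ⟨o, ho, γ, hγ, rfl⟩ := exists_residual_decomp hRp hG (fullyNormalized_good hRp hG hHn).1 hβ
  have ho' : (o : MulAut H) ∈ G₁.autGroup H := hi.2.2 H le_rfl ⟨o, ho, rfl⟩
  have hoM := hM H _ ((mem_autGroup_iff_fn le_rfl).1 ho')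
  obtain ⟨s, hs, hse⟩ := mem_autInducedBy.1 hγ
  have hγM : Fn M H (autFn γ) :=
    (fn_conj hH hs).congr fun x hx => ((autFn_coe γ ⟨x, hx⟩).trans (hse _)).symm
  refine (((hM P e he).comp hγM fun x hx => he.mem hx).comp hoM fun x hx => autFn_mem γ (he.mem hx)).congr
    fun x hx => ?_
  rw [hfe x hx, autFn_mul _ _ (he.mem hx)]
  rfl

/-- A system is contained in another once the core automorphisms are. -/
theorem le_of_residual (hRp : IsPGroup p R) (hG : G.IsSaturated p) {G₁ : FusionSystem H} (dt : Data G G₁ p)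
    (M : FusionSystem R)
    (hdisp : ∀ Q ≤ R, ∀ a ∈ G.autGroup Q, Nat.Coprime (orderOf a) p → ∀ x ∈ Q, x⁻¹ * autFn a x ∈ H)
    (hcore : ∀ Q ≤ R, G.IsFullyNormalized Q → G.IsFullyCentralized (Q ⊓ H) → centralizerIn R (Q ⊓ H) ≤ Q →
      ∀ a ∈ G.autGroup Q, Nat.Coprime (orderOf a) p → Fn M Q (autFn a)) : G ≤ M := by
  classical
  have hH := dt.sc
  have hres : ∀ Q ≤ R, G.IsFullyAutomized p Q →
      (∀ a ∈ G.autGroup Q, Nat.Coprime (orderOf a) p → Fn M Q (autFn a)) → G.autGroup Q ≤ M.autGroup Q := by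
    intro Q hQ hA h a ha
    obtain ⟨β, hβ, γ, hγ, rfl⟩ := exists_residual_decomp hRp hG hA ha
    exact mul_mem (residual_le (fun b hb hc => (mem_autGroup_iff_fn hQ).2 (h b hb hc)) ⟨β, hβ, rfl⟩)
      (autInducedBy_le_autGroup hQ hγ)
  have hHn : ∀ Q : Subgroup Ω, R ⊓ H = Q → G.IsFullyCentralized Q := fun Q hQ => by
    subst hQ
    refine ⟨inf_le_left, fun W hW => ?_⟩
    obtain ⟨g, hg, hgi⟩ := isConj_iff.1 hW
    rw [inf_eq_right.2 hH.1] at hg hgi ⊢
    rw [← hgi, sc_img hH le_rfl hg]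
  refine le_of_automizers hRp hG M ?_ fun P hPR hPn hbig => ?_
  · refine hres R le_rfl (fullyAutomized_top hG) (hcore R le_rfl ⟨le_rfl, fun W hW => ?_⟩ (hHn _ rfl) inf_le_left)
    rw [eq_of_le_of_card le_rfl (isConj_le_right hW) (isConj_card hW).ge]
  refine hres P hPR.le (fullyNormalized_good hRp hG hPn).1 fun a ha hco => ?_
  haveI := finite_of_le_base hPR.le
  have hY : P ⊓ H ≤ R := inf_le_left.trans hPR.le
  obtain ⟨Z, hYZ, hZ⟩ := exists_fullyNormalized (F := G) hY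
  obtain ⟨φ, hφ, -, hφi⟩ := exists_normalizer_map hRp (fullyNormalized_good hRp hG hZ).1
    (fullyNormalized_receptive hRp hG hZ) hYZ
  have hφN := hφ.mono (normalizer_le_inf dt hPR.le)
  have hφP := hφ.mono (le_normalizer_inf dt hPR.le)
  set P' := img φ P
  have hP' : P' ≤ R := hφP.img_le_base
  haveI := finite_of_le_base hP'
  have hP'n : G.IsFullyNormalized P' := ⟨hP', fun X hX =>
    (hPn.2 X (isConj_trans (isConj_of_fn hφP) hX)).trans (card_le_of_map_le normalizerIn_le hφN fun n hn =>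
      hφ.map_normalizer (le_normalizer_inf dt hPR.le) rfl (normalizer_le_inf dt hPR.le hn) hn.2)⟩
  have hP'Z : P' ⊓ H = Z := by rw [img_inf_sc hH hφP, hφi]
  have hlt : Nat.card P < Nat.card (normalizerIn R P) :=
    haveI := finite_of_le_base (normalizerIn_le : normalizerIn R P ≤ R)
    Set.Finite.card_lt_card (Set.toFinite (normalizerIn R P : Set Ω)) (lt_normalizerIn hRp hPR)
  have hφM : Fn M P φ := (hbig _ _ hlt hφN).mono (le_normalizerIn hPR.le)
  obtain ⟨e, he, hmap⟩ := exists_transport hPR.le hφP rfl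
  set a' := MulAut.congr e a
  have ha' : a' ∈ G.autGroup P' := hmap ▸ ⟨a, ha, rfl⟩
  have hco' : Nat.Coprime (orderOf a') p := by rwa [show a' = MulAut.congr e a from rfl, MulEquiv.orderOf_eq]
  have hv : ∀ x ∈ P, autFn a' (φ x) = φ (autFn a x) := fun x hx => by
    lift x to P using hx
    rw [← he x, autFn_coe, show a' (e x) = e (a x) by simp [a', MulAut.congr], he, autFn_coe]
  suffices hM' : Fn M P' (autFn a') by
    obtain ⟨k, hk, hkφ, -⟩ := hφM.exists_inv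
    refine ((hφM.comp hM' fun x hx => mem_img_of_mem hx).comp hk fun x hx => autFn_mem a' (mem_img_of_mem hx)).congr
      fun x hx => ?_
    show k (autFn a' (φ x)) = _
    rw [hv x hx, hkφ _ (autFn_mem a hx)]
  by_cases hC : centralizerIn R (P' ⊓ H) ≤ P'
  · exact hcore P' hP' hP'n (hP'Z ▸ (fullyNormalized_good hRp hG hZ).2) hC a' ha' hco'
  have ha'f := (mem_autGroup_iff_fn hP').1 ha'
  have ha'i := (mem_autGroup_iff_fn hP').1 (inv_mem ha')
  set C := centralizerIn R (P' ⊓ H)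
  have hCn : P' ≤ Subgroup.normalizer (C : Set Ω) := fun u hu => by
    haveI := finite_of_le_base (centralizerIn_le : C ≤ R)
    refine mem_normalizer_of_map_le fun y hy => mem_centralizerIn.2
      ⟨R.mul_mem (R.mul_mem (hP' hu) (centralizerIn_le hy)) (R.inv_mem (hP' hu)), fun z hz => ?_⟩
    have hz' : u⁻¹ * z * u ∈ P' ⊓ H := ⟨P'.mul_mem (P'.mul_mem (P'.inv_mem hu) hz.1) hu,
      by simpa using sc_conj hH (R.inv_mem (hP' hu)) hz.2⟩
    have h1 := (mem_centralizerIn.1 hy).2 _ hz'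
    calc z * (u * y * u⁻¹) = u * (u⁻¹ * z * u * y) * u⁻¹ := by group
      _ = u * (y * (u⁻¹ * z * u)) * u⁻¹ := by rw [h1]
      _ = _ := by group
  obtain ⟨m, hmM, hm, hmP⟩ := exists_mem_normalizer_not_mem hRp (sup_le hP' (centralizerIn_le : C ≤ R))
    (lt_of_le_of_ne le_sup_left fun e => hC (e.ge.trans' le_sup_right) : P' < P' ⊔ C)
  have hmm : m ∈ ((P' : Set Ω) * (C : Set Ω)) := by
    rw [← Subgroup.coe_mul_of_left_le_normalizer_right _ _ hCn]
    exact hmM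
  obtain ⟨u, hu, n, hn, hun⟩ := hmm
  dsimp only at hun
  have hnP : n ∉ P' := fun h => hmP (hun ▸ P'.mul_mem hu h)
  have hnN : n ∈ Subgroup.normalizer (P' : Set Ω) := by
    rw [show n = u⁻¹ * m by rw [← hun]; group]
    exact Subgroup.mul_mem _ (Subgroup.inv_mem _ (Subgroup.le_normalizer hu)) hm.2
  have hnR : n ∈ R := centralizerIn_le hn
  have hnc : ∀ y ∈ P' ⊓ H, n * y * n⁻¹ = y := fun y hy => by
    rw [← (mem_centralizerIn.1 (hn : n ∈ C)).2 y hy, mul_inv_cancel_right]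
  set τ := conjAut P' hnN
  have hτv : ∀ y ∈ P', autFn τ y = n * y * n⁻¹ := fun y hy => (autFn_coe τ ⟨y, hy⟩).trans (conjAut_coe _ _)
  have hτA : τ ∈ G.autGroup P' := autInducedBy_le_autGroup hP' (conjAut_mem_autInducedBy hnN hnR)
  set σ := a' * τ * a'⁻¹ * τ⁻¹
  have hσA : σ ∈ G.autGroup P' := mul_mem (mul_mem (mul_mem ha' hτA) (inv_mem ha')) (inv_mem hτA)
  have hσv : ∀ y ∈ P', autFn σ y = autFn a' (autFn τ (autFn a'⁻¹ (autFn τ⁻¹ y))) := fun y hy => by
    have h1 := autFn_mem τ⁻¹ hy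
    rw [autFn_mul _ _ hy, autFn_mul _ _ h1, autFn_mul _ _ (autFn_mem _ h1)]
  have hτfix : ∀ y ∈ P' ⊓ H, autFn τ⁻¹ y = y := fun y hy => by
    have h1 := autFn_inv_apply τ hy.1
    rwa [hτv y hy.1, hnc y hy] at h1
  have hfix : ∀ y ∈ P' ⊓ H, autFn σ y = y := fun y hy => by
    have hz : autFn a'⁻¹ y ∈ P' ⊓ H := ⟨autFn_mem _ hy.1, sc_apply hH ha'i hy.1 hy.2⟩
    rw [hσv y hy.1, hτfix y hy, hτv _ hz.1, hnc _ hz, autFn_apply_inv a' hy.1]
  have hd : ∀ y ∈ P', y⁻¹ * autFn σ y ∈ P' ⊓ H := fun y hy => by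
    refine ⟨P'.mul_mem (P'.inv_mem hy) (autFn_mem σ hy), ?_⟩
    have hu' := autFn_mem τ⁻¹ hy
    have hτu : n * autFn τ⁻¹ y * n⁻¹ = y := by rw [← hτv _ hu', autFn_apply_inv τ hy]
    set z := autFn a'⁻¹ (autFn τ⁻¹ y)
    set h₁ := (autFn τ⁻¹ y)⁻¹ * z
    have hh₁ : h₁ ∈ P' ⊓ H := ⟨P'.mul_mem (P'.inv_mem hu') (autFn_mem _ hu'),
      hdisp P' hP' _ (inv_mem ha') (by rwa [orderOf_inv]) _ hu'⟩
    have hτz : autFn τ z = y * h₁ := by
      rw [hτv z (autFn_mem _ hu'), show n * z * n⁻¹ = (n * autFn τ⁻¹ y * n⁻¹) * (n * h₁ * n⁻¹) by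
        simp only [h₁]; group, hτu, hnc h₁ hh₁]
    rw [hσv y hy, hτz, ha'f.map_mul hy hh₁.1, ← mul_assoc]
    exact H.mul_mem (hdisp P' hP' _ ha' hco' _ hy) (sc_apply hH ha'f hh₁.1 hh₁.2)
  obtain ⟨s, hs, hse⟩ := mem_autInducedBy.1 (stab_mem_autInducedBy dt hP'n hσA hfix hd)
  obtain ⟨N, h, hh, hPN, hN, hhe⟩ :=
    receptive_extend (fullyNormalized_receptive hRp hG hP'n) ha'f (img_autFn a')
  have hnN' : n ∈ N := (hN n).2 ⟨hnR, hnN, s * n, R.mul_mem hs hnR, fun y hy => by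
    have hy1 := autFn_mem a' hy
    have hy2 := autFn_mem τ hy1
    rw [← hτv y hy]
    have h1 := hse ⟨_, hy2⟩
    rw [← autFn_coe σ, hσv _ hy2, autFn_inv_apply τ hy1, autFn_inv_apply a' hy] at h1
    refine h1.trans ?_
    show s * autFn τ (autFn a' y) * s⁻¹ = _
    rw [hτv _ hy1]
    group⟩
  haveI := finite_of_le_base hh.le
  have hlt' : Nat.card P < Nat.card N := hφP.card_img ▸ Set.Finite.card_lt_card (Set.toFinite (N : Set Ω))
    (lt_of_le_of_ne hPN fun e => hnP (e.ge hnN') : P' < N)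
  exact ((hbig N h hlt' hh).mono hPN).congr hhe

section Main

variable {S T : Subgroup Ω} [Finite S] {F : FusionSystem S} {E : FusionSystem T}

/-- The hyperfocal subgroup of a normal subsystem is normalized by the ambient group. -/
theorem hyperfocal_base_conj (dt : Data F E p) {s x : Ω} (hs : s ∈ S) (hx : x ∈ E.hyperfocalSubgroup p) :
    s * x * s⁻¹ ∈ E.hyperfocalSubgroup p := by
  have hT := dt.sc
  haveI : Finite T := finite_of_le_base hT.1
  have hle : E.hyperfocalSubgroup p ≤ (E.hyperfocalSubgroup p).comap (MulAut.conj s).toMonoidHom := by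
    refine hyperfocal_le_of_coprime fun Q hQ a ha hco y => ?_
    have hQS := hQ.trans hT.1
    have hf : Fn F Q (fun z => s * z * s⁻¹) := fn_conj hQS hs
    obtain ⟨χ, hχ, hχe⟩ := Invariant.strong dt.inv hQ hf le_rfl ((mem_autGroup_iff_fn hQ).1 ha)
      fun z hz => autFn_mem a hz
    obtain ⟨e, he, -⟩ := exists_transport hQS hf rfl
    have hb : MulAut.congr e a ∈ E.autGroup (img (fun z => s * z * s⁻¹) Q) := by
      refine (mem_autGroup_iff_fn hχ.le).2 (hχ.congr fun z hz => ?_)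
      obtain ⟨w, hw, rfl⟩ := hf.mem_img.1 hz
      lift w to Q using hw
      rw [hχe w w.2, ← he w, autFn_coe (MulAut.congr e a),
        show (MulAut.congr e a) (e w) = e (a w) by simp [MulAut.congr], he, autFn_coe]
    have h1 := disp_mem_hyperfocal (G := E) hχ.le hb (by rwa [MulEquiv.orderOf_eq]) (e y).2
    rw [autFn_coe, show (MulAut.congr e a) (e y) = e (a y) by simp [MulAut.congr], he, he] at h1
    show s * _ * s⁻¹ ∈ E.hyperfocalSubgroup p
    simpa [mul_assoc] using h1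
  exact hle hx

variable (dt : Data F E p) (hTR : T ≤ R) (hR : R ≤ S)
include dt hTR

/-- The normal subsystem lies in the product. -/
theorem sub_gsys : E.IsSubsystemOf (gsys F E p hR) := by
  have hT := dt.sc
  haveI : Finite T := finite_of_le_base hT.1
  have hTp : IsPGroup p T := dt.isp.to_le hT.1
  have hEs := dt.nrm.1.1
  let M : FusionSystem T := predSystem E (fun P f => Fn (gsys F E p hR) P f)
    (fun _ _ _ he _ h => h.congr he) (fun _ hP _ hs => fn_conj (hP.trans hTR) (hTR hs))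
    (fun _ _ _ _ _ _ hm h h' => h.comp h' hm)
    (fun P f g _ _ hgf h => by
      obtain ⟨k, hk, hkf, -⟩ := h.exists_inv
      exact hk.congr fun y hy => by
        obtain ⟨x, hx, rfl⟩ := h.mem_img.1 hy
        rw [hkf x hx, hgf x hx])
  have hres : ∀ Q ≤ T, E.IsFullyAutomized p Q →
      (∀ a ∈ E.autGroup Q, Nat.Coprime (orderOf a) p → Fn M Q (autFn a)) → E.autGroup Q ≤ M.autGroup Q := by
    intro Q hQ hA h a ha
    obtain ⟨β, hβ, γ, hγ, rfl⟩ := exists_residual_decomp hTp hEs hA ha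
    exact mul_mem (residual_le (fun b hb hc => (mem_autGroup_iff_fn hQ).2 (h b hb hc)) ⟨β, hβ, rfl⟩)
      (autInducedBy_le_autGroup hQ hγ)
  have hgen : ∀ Q ≤ T, WCentric F T Q → ∀ a ∈ E.autGroup Q, Nat.Coprime (orderOf a) p → Fn M Q (autFn a) := by
    intro Q hQ hc a ha hco
    have haf := (mem_autGroup_iff_fn hQ).1 ha
    refine fn_predSystem.2 ⟨haf, gen_mem (hQ.trans hTR) ⟨hQ.trans hT.1, ?_⟩ ⟨autGroup_mono' dt.sub Q ha,
      fun x hx => T.mul_mem (T.inv_mem (hQ hx)) (hQ (autFn_mem a hx)), haf.mono inf_le_left⟩ hco⟩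
    rwa [inf_eq_left.2 hQ]
  have htop : WCentric F T T := ⟨le_rfl, fun Z hZ => by
    obtain ⟨f, hf, hfi⟩ := isConj_iff.1 hZ
    rw [← hfi, sc_img hT le_rfl hf]
    exact inf_le_left⟩
  have hle : E ≤ M := le_of_automizers hTp hEs M (hres T le_rfl (fullyAutomized_top hEs) (hgen T le_rfl htop))
    fun P hPT hPn hbig => by
      refine hres P hPT.le (fullyNormalized_good hTp hEs hPn).1 fun a ha hco => ?_
      by_cases hC : centralizerIn T P ≤ P
      · refine hgen P hPT.le ⟨hPT.le, fun Z hZ c hc => ?_⟩ a ha hco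
        obtain ⟨f, hf, rfl⟩ := isConj_iff.1 hZ
        obtain ⟨α, hα, g, hg, hfg⟩ := Invariant.frattini dt.inv hPT.le hf
        have hαf := (mem_autGroup_iff_fn hT.1).1 hα
        have hgT : img g P ≤ T := hg.img_le_base
        haveI := finite_of_le_base (hgT.trans hT.1)
        have hgC : img g (centralizerIn T P) ≤ centralizerIn T (img g P) := img_le fun z hz =>
          hg.map_centralizer le_rfl rfl (hC hz) hz
        have heq : img g (centralizerIn T P) = centralizerIn T (img g P) :=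
          eq_of_le_of_card (inf_le_left) hgC (by
            rw [(hg.mono hC).card_img]
            exact (fullyNormalized_good hTp hEs hPn).2.2 _ (isConj_of_fn hg))
        obtain ⟨c₀, hc₀, hc₀e⟩ := hαf.mem_img.1 ((sc_img hT le_rfl hαf).ge hc.1)
        have hi : img f P = img (autFn α) (img g P) := by
          rw [← hg.img_comp]
          exact img_congr hfg
        have hc₀C : c₀ ∈ centralizerIn T (img g P) := mem_centralizerIn.2 ⟨hc₀, fun z hz => by
          have h1 := hc.2 _ (hi.ge (mem_img_of_mem hz))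
          rw [← hc₀e, ← hαf.map_mul (hgT hz) hc₀, ← hαf.map_mul hc₀ (hgT hz)] at h1
          exact hαf.inj (T.mul_mem (hgT hz) hc₀) (T.mul_mem hc₀ (hgT hz)) h1⟩
        rw [hi, ← hc₀e]
        exact mem_img_of_mem ((heq.ge.trans (img_mono hC)) hc₀C)
      · obtain ⟨c, hc, hcP⟩ := SetLike.not_le_iff_exists.1 hC
        obtain ⟨N, h, hh, hPN, hN, hhe⟩ := receptive_extend (fullyNormalized_receptive hTp hEs hPn)
          ((mem_autGroup_iff_fn hPT.le).1 ha) (img_autFn a)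
        haveI := finite_of_le_base hh.le
        exact ((hbig N h (Set.Finite.card_lt_card (Set.toFinite (N : Set Ω))
          (lt_of_le_of_ne hPN fun e => hcP (e.ge ((hN c).2 (inExt_of_commute hc))) : P < N)) hh).mono hPN).congr hhe
  exact fun P φ hφ => mem_hom_iff.2 (fn_predSystem.1 (fn_ofHom (hle P hφ))).2

/-- The hyperfocal subgroup of the product. -/
theorem gsys_hyperfocal : (gsys F E p hR).hyperfocalSubgroup p = E.hyperfocalSubgroup p := by
  have hT := dt.sc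
  haveI : Finite T := finite_of_le_base hT.1
  refine le_antisymm (hyperfocal_le_of_coprime fun P hP a ha hco x => ?_) (hyperfocal_le_of_coprime fun Q hQ a ha hco x => by
    rw [← autFn_coe]
    exact disp_mem_hyperfocal (hQ.trans hTR) (autGroup_mono' (sub_gsys dt hTR hR) Q ha) hco x.2)
  haveI := finite_of_le_base hP
  have hPS := hP.trans hR
  have hg := gmap_of_coprime dt hTR ((mem_autGroup_iff_fn hP).1 ha) hco
  have hHsc : E.StronglyClosed (E.hyperfocalSubgroup p) :=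
    hyperfocal_stronglyClosed (dt.isp.to_le hT.1) dt.nrm.1.1
  rw [← autFn_coe]
  have haf := ((mem_autGroup_iff_fn hP).1 ha).of_subsystem gsys_sub
  have hd : ((x : Ω)⁻¹ * autFn a x) ∈ P ⊓ T := ⟨P.mul_mem (P.inv_mem x.2) (autFn_mem a x.2), hg.disp _ x.2⟩
  obtain ⟨b, -, hbc, hbe⟩ := exists_restrict (G := gsys F E p hR) hP (inf_le_left : P ⊓ T ≤ P) ha hco
    fun y hy => ⟨autFn_mem a hy.1, sc_apply hT haf hy.1 hy.2⟩
  have hbE : b ∈ E.autGroup (P ⊓ T) :=
    (mem_autGroup_iff_fn inf_le_right).2 (hg.res.congr fun y hy => (hbe y hy).symm)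
  have h1 := disp_mem_hyperfocal (G := E) inf_le_right hbE hbc hd
  rw [hbe _ hd] at h1
  refine (CoreLayer.disp_mem_of_coprime (p := p) dt.isp (V := P) (R := P ⊓ E.hyperfocalSubgroup p) hPS inf_le_left hco
    (fun r hr => ⟨autFn_mem a hr.1, sc_apply hHsc hg.res (show r ∈ P ⊓ T from ⟨hr.1, hHsc.1 hr.2⟩) hr.2⟩)
    (fun v hv r hr => ⟨P.mul_mem (P.mul_mem hv hr.1) (P.inv_mem hv), hyperfocal_base_conj dt (hPS hv) hr.2⟩)
    x.2 ⟨P.mul_mem (P.inv_mem hd.1) (autFn_mem a hd.1), h1⟩).2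

/-- The residual of the normal subsystem has `p`-power index in the product. -/
theorem residual_index {H' : Subgroup Ω} {E₁ : FusionSystem H'} (hH' : E.hyperfocalSubgroup p ≤ H') (hH'T : H' ≤ T)
    (hi : E₁.HasPPowerIndexIn E p) : E₁.HasPPowerIndexIn (gsys F E p hR) p := by
  haveI : Finite T := finite_of_le_base dt.sc.1
  refine ⟨fun P φ hφ => sub_gsys dt hTR hR P (hi.1 P hφ), (gsys_hyperfocal dt hTR hR).le.trans hH',
    fun P hP => residual_le fun a ha hco => ?_⟩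
  have hg := gmap_of_coprime dt hTR ((mem_autGroup_iff_fn (hP.trans (hH'T.trans hTR))).1 ha) hco
  refine mem_of_coprime hi hP ((mem_autGroup_iff_fn (hP.trans hH'T)).2 ?_) hco
  have := hg.res
  rwa [inf_eq_left.2 (hP.trans hH'T)] at this

/-- The residuals of the normal subsystem and of the product agree. -/
theorem residual_eq {D₁ : FusionSystem ((gsys F E p hR).hyperfocalSubgroup p)}
    {E₁ : FusionSystem (E.hyperfocalSubgroup p)} (hD : (gsys F E p hR).IsPResidual p D₁)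
    (hE : E.IsPResidual p E₁) (P : Subgroup Ω) : D₁.Hom P = E₁.Hom P := by
  have hT := dt.sc
  haveI : Finite T := finite_of_le_base hT.1
  have hRp : IsPGroup p R := dt.isp.to_le hR
  have hi := residual_index dt hTR hR le_rfl hyperfocal_le hE.2
  exact Set.Subset.antisymm
    (le_of_pPowerIndex hRp hD.1 hD.2.1 (gsys_hyperfocal dt hTR hR).le hi P)
    (le_of_pPowerIndex hRp hE.1 hi.1 (gsys_hyperfocal dt hTR hR).ge hD.2 P)

/-- A saturated subsystem with the same residual is the product. -/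
theorem unique {D' : FusionSystem R} (hD' : D'.IsSaturated p) (hsub : D'.IsSubsystemOf F)
    (hhyp : D'.hyperfocalSubgroup p = E.hyperfocalSubgroup p)
    (hres : ∀ (D₁ : FusionSystem (D'.hyperfocalSubgroup p)) (E₁ : FusionSystem (E.hyperfocalSubgroup p)),
      D'.IsPResidual p D₁ → E.IsPResidual p E₁ → ∀ P : Subgroup Ω, D₁.Hom P = E₁.Hom P)
    (P : Subgroup Ω) : D'.Hom P = (gsys F E p hR).Hom P := by
  classical
  have hT := dt.sc
  haveI : Finite T := finite_of_le_base hT.1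
  have hRp : IsPGroup p R := dt.isp.to_le hR
  have hTp : IsPGroup p T := dt.isp.to_le hT.1
  have hEs := dt.nrm.1.1
  set D := gsys F E p hR
  have hDs : D.IsSaturated p := gsys_saturated dt hTR hR
  obtain ⟨D'₁, hD'₁, hD'₁i⟩ := exists_pPowerIndex hRp hD' hyperfocal_le le_rfl
  obtain ⟨E₁, hE₁, hE₁i⟩ := exists_pPowerIndex hTp hEs hyperfocal_le le_rfl
  obtain ⟨D₁, hD₁, hD₁i⟩ := exists_pPowerIndex hRp hDs hyperfocal_le le_rfl
  have hEq := hres D'₁ E₁ ⟨hD'₁, hD'₁i⟩ ⟨hE₁, hE₁i⟩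
  have hEq₁ := residual_eq dt hTR hR (D₁ := D₁) (E₁ := E₁) ⟨hD₁, hD₁i⟩ ⟨hE₁, hE₁i⟩
  have hHT : (D'.hyperfocalSubgroup p) ≤ T := hhyp.le.trans hyperfocal_le
  have hn' := pPowerIndex_normal hRp hD' (fun s hs x hx => hyperfocal_conj hRp hs hx) hD'₁ hD'₁i
  have hn := pPowerIndex_normal hRp hDs (fun s hs x hx => hyperfocal_conj hRp hs hx) hD₁ hD₁i
  have hTsc : ∀ {Q : Subgroup Ω} {f : Ω → Ω}, Fn D' Q f → ∀ x ∈ Q, x ∈ T → f x ∈ T :=
    fun hf x hx hxT => sc_apply hT (hf.of_subsystem hsub) hx hxT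
  have h₁E : ∀ (Q : Subgroup Ω) (g : Ω → Ω), Fn D'₁ Q g → Fn E Q g := fun Q g ⟨φ, hφ, hφg⟩ =>
    ⟨φ, hE₁i.1 Q (hEq Q ▸ hφ), hφg⟩
  have h₁D : ∀ (Q : Subgroup Ω) (g : Ω → Ω), Fn D'₁ Q g → Fn D Q g := fun Q g h =>
    (h₁E Q g h).of_subsystem (sub_gsys dt hTR hR)
  have h₁D' : ∀ (Q : Subgroup Ω) (g : Ω → Ω), Fn D₁ Q g → Fn D' Q g := fun Q g ⟨φ, hφ, hφg⟩ =>
    ⟨φ, hD'₁i.1 Q ((hEq Q).symm ▸ (hEq₁ Q ▸ hφ)), hφg⟩
  have hDH : D.hyperfocalSubgroup p = (D'.hyperfocalSubgroup p) := (gsys_hyperfocal dt hTR hR).trans hhyp.symm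
  have low : ∀ {Q : Subgroup Ω} {g : Ω → Ω}, Q ≤ (D'.hyperfocalSubgroup p) → Fn D Q g → Fn D' Q g := fun hQ hg =>
    low_maps hRp hDs hn hD₁i h₁D' (hQ.trans hDH.ge) hg
  have low' : ∀ {Q : Subgroup Ω} {g : Ω → Ω}, Q ≤ (D'.hyperfocalSubgroup p) → Fn D' Q g → Fn D Q g := fun hQ hg =>
    low_maps hRp hD' hn' hD'₁i h₁D hQ hg
  have step1 : D' ≤ D := by
    refine le_of_residual hRp hD' ⟨hRp, hn'⟩ D (fun Q hQ a ha hco x hx => disp_mem_hyperfocal hQ ha hco hx)
      fun Q hQ hQn hYc hC a ha hco => ?_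
    haveI := finite_of_le_base hQ
    have haf := (mem_autGroup_iff_fn hQ).1 ha
    have hHsc : D'.StronglyClosed (D'.hyperfocalSubgroup p) := hn'.1.2.2.2.1
    set Y := Q ⊓ (D'.hyperfocalSubgroup p)
    set Y₁ := Q ⊓ T
    have hYY₁ : Y ≤ Y₁ := inf_le_inf_left Q hHT
    have hY₁T : Y₁ ≤ T := inf_le_right
    have hYT : Y ≤ T := hYY₁.trans hY₁T
    have hY₁S : Y₁ ≤ S := hY₁T.trans hT.1
    haveI := finite_of_le_base hY₁S
    haveI := finite_of_le_base (hYT.trans hT.1)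
    haveI : Finite (MulAut Y₁) := Finite.of_injective (fun f : MulAut Y₁ => (f : Y₁ → Y₁)) DFunLike.coe_injective
    have hCY₁ : centralizerIn T Y ≤ Y₁ := fun c hc => ⟨hC ⟨hTR hc.1, hc.2⟩, hc.1⟩
    obtain ⟨a₁, ha₁, hco₁, ha₁e⟩ := exists_restrict (G := D') hQ (inf_le_left : Y₁ ≤ Q) ha hco
      fun y hy => ⟨autFn_mem a hy.1, hTsc haf y hy.1 hy.2⟩
    obtain ⟨a₀, ha₀, hco₀, ha₀e⟩ := exists_restrict (G := D') hQ (inf_le_left : Y ≤ Q) ha hco
      fun y hy => ⟨autFn_mem a hy.1, sc_apply hHsc haf hy.1 hy.2⟩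
    have ha₀E : Fn E Y (autFn a₀) := h₁E Y _ ((mem_autGroup_iff_fn inf_le_right).1
      (mem_of_coprime hD'₁i inf_le_right ha₀ hco₀))
    have hcard : ∀ {Z : Subgroup Ω}, E.IsConj Y Z → Nat.card (centralizerIn T Z) ≤ Nat.card (centralizerIn T Y) := by
      intro Z hZ
      obtain ⟨g, hg, hgi⟩ := isConj_iff.1 hZ
      obtain ⟨k, hk, -, hki⟩ := (low inf_le_right (hg.of_subsystem (sub_gsys dt hTR hR))).exists_inv
      rw [hgi] at hk hki
      obtain ⟨N, h, hh, hZN, hN, hhe⟩ := receptive_extend (fullyCentralized_receptive hRp hD' hYc) hk hki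
      have hle : centralizerIn T Z ≤ N := fun c hc => (hN c).2 (inExt_of_commute ⟨hTR hc.1, hc.2⟩)
      exact card_le_of_map_le ((inf_le_left : centralizerIn T Y ≤ T).trans hT.1) ((hh.mono hle).of_subsystem hsub)
        fun c hc => ⟨hTsc hh c (hle hc) hc.1,
          (hh.map_centralizer hZN ((img_congr hhe).trans hki) (hle hc) ⟨hTR hc.1, hc.2⟩).2⟩
    have hwc : WCentric F T Y₁ := ⟨hY₁T, fun Z hZ c hc => by
      obtain ⟨f, hf, rfl⟩ := isConj_iff.1 hZ
      obtain ⟨α, hα, g, hg, hfg⟩ := Invariant.frattini dt.inv hY₁T hf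
      have hαf := (mem_autGroup_iff_fn hT.1).1 hα
      have hgT : img g Y₁ ≤ T := hg.img_le_base
      haveI := finite_of_le_base (hgT.trans hT.1)
      have hgC : img g (centralizerIn T Y) ≤ centralizerIn T (img g Y) := img_le fun z hz =>
        hg.map_centralizer hYY₁ rfl (hCY₁ hz) hz
      have heq : img g (centralizerIn T Y) = centralizerIn T (img g Y) :=
        eq_of_le_of_card (inf_le_left) hgC (by
          rw [(hg.mono hCY₁).card_img]
          exact hcard (isConj_of_fn (hg.mono hYY₁)))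
      obtain ⟨c₀, hc₀, hc₀e⟩ := hαf.mem_img.1 ((sc_img hT le_rfl hαf).ge hc.1)
      have hi : img f Y₁ = img (autFn α) (img g Y₁) := by
        rw [← hg.img_comp]
        exact img_congr hfg
      have hc₀C : c₀ ∈ centralizerIn T (img g Y) := mem_centralizerIn.2 ⟨hc₀, fun z hz => by
        have hzT := hgT (img_mono hYY₁ hz)
        have h1 := hc.2 _ (hi.ge (mem_img_of_mem (img_mono hYY₁ hz)))
        rw [← hc₀e, ← hαf.map_mul hzT hc₀, ← hαf.map_mul hc₀ hzT] at h1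
        exact hαf.inj (T.mul_mem hzT hc₀) (T.mul_mem hc₀ hzT) h1⟩
      rw [hi, ← hc₀e]
      exact mem_img_of_mem ((heq.ge.trans (img_mono hCY₁)) hc₀C)⟩
    have hres' : Fn E Y₁ (autFn a₁) := by
      obtain ⟨N, h, hh, hYN, hN, hhe⟩ := receptive_extend
        (fullyCentralized_receptive hTp hEs (⟨hYT, fun Z hZ => hcard hZ⟩ : E.IsFullyCentralized Y))
        ha₀E (img_autFn a₀)
      have ha₁f := (mem_autGroup_iff_fn ((inf_le_left : Y₁ ≤ Q).trans hQ)).1 ha₁
      have hY₁N : Y₁ ≤ N := fun y hy => by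
        have hmap : ∀ z ∈ Y, y * z * y⁻¹ ∈ Y := fun z hz =>
          ⟨Q.mul_mem (Q.mul_mem hy.1 hz.1) (Q.inv_mem hy.1), sc_conj hHsc (hQ hy.1) hz.2⟩
        refine (hN y).2 ⟨hy.2, mem_normalizer_of_map_le hmap, autFn a₁ y, hY₁T (autFn_mem a₁ hy), fun z hz => ?_⟩
        rw [ha₀e _ (hmap z hz), ha₀e z hz, ha₁e y hy]
        exact haf.map_conj hy.1 hz.1
      have hh₁ := hh.mono hY₁N
      have hhv : ∀ y ∈ Y₁, h y ∈ Y₁ := fun y hy => by
        have hc : (autFn a₁ y)⁻¹ * h y ∈ centralizerIn T Y := mem_centralizerIn.2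
          ⟨T.mul_mem (T.inv_mem (hY₁T (autFn_mem a₁ hy))) (hh₁.mem hy), fun z hz => by
            obtain ⟨w, hw, rfl⟩ := ((mem_autGroup_iff_fn ((inf_le_left : Y ≤ Q).trans hQ)).1 ha₀).mem_img.1
              ((img_autFn a₀).ge hz)
            have hyw : y * w * y⁻¹ ∈ Y :=
              ⟨Q.mul_mem (Q.mul_mem hy.1 hw.1) (Q.inv_mem hy.1), sc_conj hHsc (hQ hy.1) hw.2⟩
            have h1 := hhe _ hyw
            rw [hh.map_conj (hY₁N hy) (hYN hw), hhe w hw, ha₀e _ hyw, haf.map_conj hy.1 hw.1,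
              ← ha₀e w hw, ← ha₁e y hy] at h1
            calc autFn a₀ w * ((autFn a₁ y)⁻¹ * h y) =
                (autFn a₁ y)⁻¹ * (autFn a₁ y * autFn a₀ w * (autFn a₁ y)⁻¹) * h y := by group
              _ = (autFn a₁ y)⁻¹ * (h y * autFn a₀ w * (h y)⁻¹) * h y := by rw [h1]
              _ = _ := by group⟩
        rw [← mul_inv_cancel_left (autFn a₁ y) (h y)]
        exact Y₁.mul_mem (autFn_mem a₁ hy) (hCY₁ hc)
      obtain ⟨b, hb, hbe⟩ := exists_aut_of_fn hh₁ (hh₁.img_eq_self hhv)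
      obtain ⟨q, hqe, hqc⟩ := CoreLayer.exists_coprime_pow (p := p) hY₁S hYY₁ (β := b) (a := a₀)
        (fun y hy => by rw [autFn_coe b ⟨y, hYY₁ hy⟩, hbe]; exact hhe y hy) hco₀
      set b₁ := b ^ q
      have hb₁ : b₁ ∈ E.autGroup Y₁ := pow_mem hb q
      set δ := b₁⁻¹ * a₁
      have hY₁H : Y₁ ⊓ (D'.hyperfocalSubgroup p) = Y := le_antisymm (le_inf (inf_le_left.trans inf_le_left) inf_le_right)
        (le_inf hYY₁ inf_le_right)
      have hδfix : ∀ y ∈ Y₁ ⊓ (D'.hyperfocalSubgroup p), autFn δ y = y := fun y hy => by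
        rw [hY₁H] at hy
        rw [autFn_mul _ _ (hYY₁ hy), ha₁e y (hYY₁ hy), ← ha₀e y hy, ← hqe y hy, autFn_inv_apply b₁ (hYY₁ hy)]
      have hδd : ∀ y ∈ Y₁, y⁻¹ * autFn δ y ∈ Y₁ ⊓ (D'.hyperfocalSubgroup p) := fun y hy => by
        refine ⟨Y₁.mul_mem (Y₁.inv_mem hy) (autFn_mem δ hy), ?_⟩
        have hu := autFn_mem a₁ hy
        rw [autFn_mul _ _ hy, show y⁻¹ * autFn b₁⁻¹ (autFn a₁ y) =
          (y⁻¹ * autFn a₁ y) * ((autFn a₁ y)⁻¹ * autFn b₁⁻¹ (autFn a₁ y)) by group]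
        exact (D'.hyperfocalSubgroup p).mul_mem (disp_mem_hyperfocal ((inf_le_left : Y₁ ≤ Q).trans hQ) ha₁ hco₁ hy)
          (hhyp.ge (disp_mem_hyperfocal (G := E) hY₁T (inv_mem hb₁) (by rwa [orderOf_inv]) hu))
      obtain ⟨K, hK⟩ := stab_isPElement (dt := (⟨hRp, hn'⟩ : Data D' D'₁ p))
        ((inf_le_left : Y₁ ≤ Q).trans hQ) hδfix hδd
      have hδF : δ ∈ F.autGroup Y₁ := mul_mem (inv_mem (autGroup_mono' dt.sub Y₁ hb₁)) (autGroup_mono' hsub Y₁ ha₁)
      have hmem := mem_of_stabilizer (H := E.autGroup Y₁) (γ := b₁) (d := δ) hb₁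
        (fun h hh => Invariant.conj_mem dt.inv hY₁T hδF hh) hK (by rwa [mul_inv_cancel_left])
      rw [mul_inv_cancel_left] at hmem
      exact (mem_autGroup_iff_fn hY₁T).1 hmem
    exact gen_mem hQ ⟨hQ.trans hR, hwc⟩ ⟨autGroup_mono' hsub Q ha,
      fun x hx => hHT (disp_mem_hyperfocal hQ ha hco hx), hres'.congr ha₁e⟩ hco
  have step2 : D ≤ D' := by
    have hdisp : ∀ Q ≤ R, ∀ a ∈ D.autGroup Q, Nat.Coprime (orderOf a) p → ∀ x ∈ Q,
        x⁻¹ * autFn a x ∈ D.hyperfocalSubgroup p := fun Q hQ a ha hco x hx => disp_mem_hyperfocal hQ ha hco hx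
    refine le_of_residual hRp hDs ⟨hRp, hn⟩ D' hdisp fun Q hQ hQn hYc hC a ha hco => ?_
    haveI := finite_of_le_base hQ
    haveI : Finite (MulAut Q) := Finite.of_injective (fun f : MulAut Q => (f : Q → Q)) DFunLike.coe_injective
    have haf := (mem_autGroup_iff_fn hQ).1 ha
    have hHsc : D.StronglyClosed (D.hyperfocalSubgroup p) := hn.1.2.2.2.1
    set Y := Q ⊓ D.hyperfocalSubgroup p
    have hYQ : Y ≤ Q := inf_le_left
    have hYH : Y ≤ (D'.hyperfocalSubgroup p) := inf_le_right.trans hDH.le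
    haveI := finite_of_le_base (hYQ.trans hQ)
    obtain ⟨a₀, ha₀, hco₀, ha₀e⟩ := exists_restrict (G := D) hQ hYQ ha hco
      fun y hy => ⟨autFn_mem a hy.1, sc_apply hHsc haf hy.1 hy.2⟩
    have hYc' : D'.IsFullyCentralized Y := ⟨hYQ.trans hQ, fun Z hZ => by
      obtain ⟨g, hg, hgi⟩ := isConj_iff.1 hZ
      exact hYc.2 Z (isConj_iff.2 ⟨g, low' hYH hg, hgi⟩)⟩
    obtain ⟨N, h, hh, hYN, hN, hhe⟩ := receptive_extend (fullyCentralized_receptive hRp hD' hYc')
      (low hYH ((mem_autGroup_iff_fn (hYQ.trans hQ)).1 ha₀)) (img_autFn a₀)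
    have hmap : ∀ y ∈ Q, ∀ z ∈ Y, y * z * y⁻¹ ∈ Y := fun y hy z hz =>
      ⟨Q.mul_mem (Q.mul_mem hy hz.1) (Q.inv_mem hy), sc_conj hHsc (hQ hy) hz.2⟩
    have hQN : Q ≤ N := fun y hy => by
      refine (hN y).2 ⟨hQ hy, mem_normalizer_of_map_le (hmap y hy), autFn a y, hQ (autFn_mem a hy), fun z hz => ?_⟩
      rw [ha₀e _ (hmap y hy z hz), ha₀e z hz]
      exact haf.map_conj hy hz.1
    have hh₁ := hh.mono hQN
    have hhv : ∀ y ∈ Q, h y ∈ Q := fun y hy => by
      have hc : (autFn a y)⁻¹ * h y ∈ centralizerIn R Y := mem_centralizerIn.2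
        ⟨R.mul_mem (R.inv_mem (hQ (autFn_mem a hy))) (hh₁.mem hy), fun z hz => by
          obtain ⟨w, hw, rfl⟩ := ((mem_autGroup_iff_fn (hYQ.trans hQ)).1 ha₀).mem_img.1 ((img_autFn a₀).ge hz)
          have h1 := hhe _ (hmap y hy w hw)
          rw [hh.map_conj (hQN hy) (hYN hw), hhe w hw, ha₀e _ (hmap y hy w hw), haf.map_conj hy hw.1,
            ← ha₀e w hw] at h1
          calc autFn a₀ w * ((autFn a y)⁻¹ * h y) =
              (autFn a y)⁻¹ * (autFn a y * autFn a₀ w * (autFn a y)⁻¹) * h y := by group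
            _ = (autFn a y)⁻¹ * (h y * autFn a₀ w * (h y)⁻¹) * h y := by rw [h1]
            _ = _ := by group⟩
      rw [← mul_inv_cancel_left (autFn a y) (h y)]
      exact Q.mul_mem (autFn_mem a hy) (hC hc)
    obtain ⟨b, hb, hbe⟩ := exists_aut_of_fn hh₁ (hh₁.img_eq_self hhv)
    obtain ⟨q, hqe, hqc⟩ := CoreLayer.exists_coprime_pow (p := p) (hQ.trans hR) hYQ (β := b) (a := a₀)
      (fun y hy => by rw [autFn_coe b ⟨y, hYQ hy⟩, hbe]; exact hhe y hy) hco₀
    set b₁ := b ^ q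
    have hb₁ : b₁ ∈ D'.autGroup Q := pow_mem hb q
    have hb₁D : b₁ ∈ D.autGroup Q := (mem_autGroup_iff_fn hQ).2 (fn_of_le step1 ((mem_autGroup_iff_fn hQ).1 hb₁))
    set δ := b₁⁻¹ * a
    have hδfix : ∀ y ∈ Q ⊓ D.hyperfocalSubgroup p, autFn δ y = y := fun y hy => by
      rw [autFn_mul _ _ hy.1, ← ha₀e y hy, ← hqe y hy, autFn_inv_apply b₁ hy.1]
    have hδd : ∀ y ∈ Q, y⁻¹ * autFn δ y ∈ Q ⊓ D.hyperfocalSubgroup p := fun y hy => by
      refine ⟨Q.mul_mem (Q.inv_mem hy) (autFn_mem δ hy), ?_⟩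
      rw [autFn_mul _ _ hy, show y⁻¹ * autFn b₁⁻¹ (autFn a y) =
        (y⁻¹ * autFn a y) * ((autFn a y)⁻¹ * autFn b₁⁻¹ (autFn a y)) by group]
      exact Subgroup.mul_mem _ (hdisp Q hQ a ha hco y hy)
        (hdisp Q hQ _ (inv_mem hb₁D) (by rwa [orderOf_inv]) _ (autFn_mem a hy))
    have hδ : δ ∈ autInducedBy R Q := stab_mem_autInducedBy (dt := (⟨hRp, hn⟩ : Data D D₁ p)) hQn
      (mul_mem (inv_mem hb₁D) ha) hδfix hδd
    have hm := mul_mem hb₁ (autInducedBy_le_autGroup (F := D') hQ hδ)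
    rw [mul_inv_cancel_left] at hm
    exact (mem_autGroup_iff_fn hQ).1 hm
  exact Set.Subset.antisymm (step1 P) (step2 P)

end Main

end CfsgLib.Fsys.EProd
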