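import Cfsg.Agent.Lib.FusionSystem.EProd.Local

/-! The coprime generators at a good subgroup are realized in the normal subgroup of the local group. -/

set_option autoImplicit false

namespace CfsgLib.Fsys.EProd

open Cfsg Cfsg.FusionSystem CfsgLib.Fsys.WNR CfsgLib.Fsys.Meet
open Cfsg.FusionSystem (centralizerIn normalizerIn)
open scoped Pointwise

universe u

variable {Ω : Type u} [Group Ω] {S T Q : Subgroup Ω} [Finite S] {F : FusionSystem S} {E : FusionSystem T}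
  {p : ℕ} [Fact p.Prime]

omit [Finite S] [Fact p.Prime] in
theorem le_normalizer_inf (dt : Data F E p) (hQ : Q ≤ S) : Q ≤ normalizerIn S (Q ⊓ T) := fun x hx =>
  ⟨hQ hx, mem_normalizer_iff'.2
    ⟨fun _ hy => ⟨Q.mul_mem (Q.mul_mem hx hy.1) (Q.inv_mem hx), sc_conj dt.sc (hQ hx) hy.2⟩,
      fun y hy => ⟨Q.mul_mem (Q.mul_mem (Q.inv_mem hx) hy.1) hx,
        by simpa using sc_conj dt.sc (S.inv_mem (hQ hx)) hy.2⟩⟩⟩

omit [Fact p.Prime] in
theorem normalizer_le_inf (dt : Data F E p) (hQ : Q ≤ S) : normalizerIn S Q ≤ normalizerIn S (Q ⊓ T) :=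
  fun x hx => ⟨hx.1, by
    haveI := finite_of_le_base ((inf_le_left : Q ⊓ T ≤ Q).trans hQ)
    exact mem_normalizer_of_map_le fun y hy =>
      ⟨(mem_normalizer_iff'.1 hx.2).1 y hy.1, sc_conj dt.sc hx.1 hy.2⟩⟩

variable {L : Type u} [Group L] (dt : Data F E p) (hQc : Cat F T Q) (lg : LocalGroup p F (Q ⊓ T) L)

/-- The elements of the normal subgroup normalizing the image of `Q`. -/
def qNorm : Subgroup L :=
  nSub dt hQc.2 lg ⊓ Subgroup.normalizer (((Q.subgroupOf (normalizerIn S (Q ⊓ T))).map lg.emb : Subgroup L) : Set L)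

theorem qNorm_dom {m : L} (hm : m ∈ qNorm dt hQc lg) {x : Ω} (hx : x ∈ Q) :
    ∃ y : normalizerIn S (Q ⊓ T), (y : Ω) ∈ Q ∧
      lg.emb y = m * lg.emb ⟨x, le_normalizer_inf dt hQc.1 hx⟩ * m⁻¹ := by
  obtain ⟨y, hy, hye⟩ := (Subgroup.mem_normalizer_iff.1 hm.2 _).1
    (Subgroup.mem_map_of_mem lg.emb (show (⟨x, le_normalizer_inf dt hQc.1 hx⟩ : normalizerIn S (Q ⊓ T)) ∈
      Q.subgroupOf (normalizerIn S (Q ⊓ T)) from hx))
  exact ⟨y, hy, hye⟩

theorem mem_qNorm {m : L} (hm : m ∈ nSub dt hQc.2 lg)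
    (h : ∀ x (hx : x ∈ Q), ∃ y : normalizerIn S (Q ⊓ T), (y : Ω) ∈ Q ∧
      lg.emb y = m * lg.emb ⟨x, le_normalizer_inf dt hQc.1 hx⟩ * m⁻¹) : m ∈ qNorm dt hQc lg := by
  haveI := lg.fin
  refine ⟨hm, ?_⟩
  haveI : Finite ↥((Q.subgroupOf (normalizerIn S (Q ⊓ T))).map lg.emb) := inferInstance
  refine mem_normalizer_of_map_le ?_
  rintro _ ⟨x, hx, rfl⟩
  obtain ⟨y, hy, hye⟩ := h x hx
  exact ⟨y, hy, hye⟩

theorem qNorm_aut (m : qNorm dt hQc lg) :
    ∃ a ∈ F.autGroup Q, ∀ x : Q, ((a x : Q) : Ω) = cj lg.emb (m : L) x := by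
  have hd : ∀ x ∈ Q, ∃ (hx : x ∈ normalizerIn S (Q ⊓ T)) (y : normalizerIn S (Q ⊓ T)),
      lg.emb y = (m : L) * lg.emb ⟨x, hx⟩ * (m : L)⁻¹ := fun x hx =>
    let ⟨y, _, hye⟩ := qNorm_dom dt hQc lg m.2 hx
    ⟨le_normalizer_inf dt hQc.1 hx, y, hye⟩
  have hf := lg.realize _ Q (le_normalizer_inf dt hQc.1) hd
  refine exists_aut_of_fn hf (hf.img_eq_self fun x hx => ?_)
  obtain ⟨y, hy, hye⟩ := qNorm_dom dt hQc lg m.2 hx
  rw [cj_eq lg.inj (le_normalizer_inf dt hQc.1 hx) hye]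
  exact hy

/-- The action on `Q`. -/
noncomputable def resQ : qNorm dt hQc lg →* MulAut Q :=
  MonoidHom.mk' (fun m => (qNorm_aut dt hQc lg m).choose) fun a b => MulEquiv.ext fun x => Subtype.ext <| by
    obtain ⟨y, hy, hye⟩ := qNorm_dom dt hQc lg b.2 x.2
    obtain ⟨z, hz, hze⟩ := qNorm_dom dt hQc lg a.2 hy
    have hv := fun m => (qNorm_aut dt hQc lg m).choose_spec.2
    rw [hv, MulAut.mul_apply, hv, hv,
      cj_eq lg.inj (le_normalizer_inf dt hQc.1 x.2) hye, cj_eq lg.inj (le_normalizer_inf dt hQc.1 hy) hze]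
    refine cj_eq lg.inj (le_normalizer_inf dt hQc.1 x.2) ?_
    rw [hze, show (⟨(y : Ω), le_normalizer_inf dt hQc.1 hy⟩ : normalizerIn S (Q ⊓ T)) = y from rfl, hye,
      Subgroup.coe_mul]
    group

theorem resQ_spec (m : qNorm dt hQc lg) {x : Ω} (hx : x ∈ Q) :
    ∃ y : normalizerIn S (Q ⊓ T), (y : Ω) = autFn (resQ dt hQc lg m) x ∧
      lg.emb y = (m : L) * lg.emb ⟨x, le_normalizer_inf dt hQc.1 hx⟩ * (m : L)⁻¹ := by
  obtain ⟨y, -, hye⟩ := qNorm_dom dt hQc lg m.2 hx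
  refine ⟨y, ?_, hye⟩
  rw [autFn_coe _ ⟨x, hx⟩]
  exact ((cj_eq lg.inj (le_normalizer_inf dt hQc.1 hx) hye).symm.trans
    ((qNorm_aut dt hQc lg m).choose_spec.2 ⟨x, hx⟩).symm)

theorem resQ_mem (m : qNorm dt hQc lg) : resQ dt hQc lg m ∈ F.autGroup Q :=
  (qNorm_aut dt hQc lg m).choose_spec.1

theorem autInducedBy_le_range : autInducedBy T Q ≤ (resQ dt hQc lg).range := by
  intro a ha
  obtain ⟨t, ht, hta⟩ := mem_autInducedBy.1 ha
  have htN : t ∈ normalizerIn S (Q ⊓ T) :=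
    normalizer_le_inf dt hQc.1 ⟨dt.sc.1 ht, mem_normalizer_of_autEq hta⟩
  have hval : ∀ x (hx : x ∈ Q), ∃ y : normalizerIn S (Q ⊓ T), (y : Ω) = autFn a x ∧
      lg.emb y = lg.emb ⟨t, htN⟩ * lg.emb ⟨x, le_normalizer_inf dt hQc.1 hx⟩ * (lg.emb ⟨t, htN⟩)⁻¹ := fun x hx =>
    ⟨⟨t, htN⟩ * ⟨x, le_normalizer_inf dt hQc.1 hx⟩ * ⟨t, htN⟩⁻¹, by
      rw [autFn_coe a ⟨x, hx⟩, hta]
      rfl, by rw [map_mul, map_mul, map_inv]⟩
  refine ⟨⟨_, mem_qNorm dt hQc lg (emb_mem_nSub dt hQc.2 lg (w := ⟨t, htN⟩) ht) fun x hx => ?_⟩, mulAut_ext fun x hx => ?_⟩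
  · obtain ⟨y, hy, hye⟩ := hval x hx
    exact ⟨y, hy ▸ autFn_mem a hx, hye⟩
  · obtain ⟨y, hy, hye⟩ := hval x hx
    obtain ⟨z, hz, hze⟩ := resQ_spec dt hQc lg ⟨_, mem_qNorm dt hQc lg (emb_mem_nSub dt hQc.2 lg ht)
      (fun x hx => let ⟨y, hy, hye⟩ := hval x hx; ⟨y, hy ▸ autFn_mem a hx, hye⟩)⟩ hx
    rw [← hz, ← hy, show z = y from lg.inj (hze.trans hye.symm)]

/-- The conjugation by an element of `N_S(Q)` normalizes the realized group. -/
theorem range_conj {s : Ω} (hs : s ∈ normalizerIn S Q) {σ : MulAut Q} (hσ : ∀ x ∈ Q, autFn σ x = s * x * s⁻¹)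
    {h : MulAut Q} (hh : h ∈ (resQ dt hQc lg).range) : σ * h * σ⁻¹ ∈ (resQ dt hQc lg).range := by
  haveI := finite_of_le_base hQc.1
  obtain ⟨m, rfl⟩ := hh
  have hsN := normalizer_le_inf dt hQc.1 hs
  set es := lg.emb ⟨s, hsN⟩ with hes
  have hM : (nSub dt hQc.2 lg).Normal := nSub_normal dt hQc.2 lg
  have hval : ∀ x (hx : x ∈ Q), ∃ y : normalizerIn S (Q ⊓ T),
      (y : Ω) = autFn (σ * resQ dt hQc lg m * σ⁻¹) x ∧
      lg.emb y = es * (m : L) * es⁻¹ * lg.emb ⟨x, le_normalizer_inf dt hQc.1 hx⟩ * (es * (m : L) * es⁻¹)⁻¹ := by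
    intro x hx
    have hu : s⁻¹ * x * s ∈ Q := (mem_normalizer_iff'.1 hs.2).2 x hx
    obtain ⟨z, hz, hze⟩ := resQ_spec dt hQc lg m hu
    have hσi : autFn σ⁻¹ x = s⁻¹ * x * s := by
      have h1 := autFn_inv_apply σ hu
      rwa [hσ _ hu, show s * (s⁻¹ * x * s) * s⁻¹ = x by group] at h1
    refine ⟨⟨s, hsN⟩ * z * ⟨s, hsN⟩⁻¹, ?_, ?_⟩
    · rw [autFn_mul _ _ hx, hσi, autFn_mul _ _ hu, hσ _ (autFn_mem _ hu), ← hz]
      rfl
    · rw [map_mul, map_mul, map_inv, hze, ← hes,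
        show (⟨s⁻¹ * x * s, le_normalizer_inf dt hQc.1 hu⟩ : normalizerIn S (Q ⊓ T)) =
          ⟨s, hsN⟩⁻¹ * ⟨x, le_normalizer_inf dt hQc.1 hx⟩ * ⟨s, hsN⟩ from rfl, map_mul, map_mul, map_inv, ← hes]
      group
  have hmem : es * (m : L) * es⁻¹ ∈ qNorm dt hQc lg := mem_qNorm dt hQc lg (hM.conj_mem _ m.2.1 _) fun x hx =>
    let ⟨y, hy, hye⟩ := hval x hx
    ⟨y, hy ▸ autFn_mem _ hx, hye⟩
  refine ⟨⟨_, hmem⟩, mulAut_ext fun x hx => ?_⟩
  obtain ⟨y, hy, hye⟩ := hval x hx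
  obtain ⟨z, hz, hze⟩ := resQ_spec dt hQc lg ⟨_, hmem⟩ hx
  rw [← hz, ← hy, show z = y from lg.inj (hze.trans hye.symm)]

/-- The coprime generators are realized. -/
theorem realize_gam (hQn : F.IsFullyNormalized Q) (hZn : F.IsFullyNormalized (Q ⊓ T)) {a : MulAut Q}
    (ha : IsGam F E Q a) (hco : Nat.Coprime (orderOf a) p) : a ∈ (resQ dt hQc lg).range := by
  classical
  haveI := lg.fin
  have hQS := hQc.1
  haveI := finite_of_le_base hQS
  haveI := finite_of_le_base hZn.1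
  haveI : Finite T := finite_of_le_base dt.sc.1
  have st := setup dt.isp dt.nrm
  have hZT : Q ⊓ T ≤ T ⊓ T := le_inf inf_le_right inf_le_right
  set M := nSub dt hQc.2 lg
  haveI hMn : M.Normal := nSub_normal dt hQc.2 lg
  set res := resY lg (base_le st hZT)
  obtain ⟨b, hb, hbe⟩ := exists_aut_of_fn ha.2.2
    (ha.2.2.img_eq_self fun x hx => ⟨autFn_mem a hx.1, ha.2.2.mem hx⟩)
  have hbv : ∀ y ∈ Q ⊓ T, autFn b y = autFn a y := fun y hy => (autFn_coe b ⟨y, hy⟩).trans (hbe ⟨y, hy⟩)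
  have hbK := autGroup_le_kGen dt.isp dt.nrm _ hQc.2 hb
  obtain ⟨m, hm, hmb⟩ := kGen_le_image st lg hZT hZn hbK
  have hQN := le_normalizer_inf dt hQS
  have haf := (mem_autGroup_iff_fn hQS).1 ha.1
  have hval : ∀ x (hx : x ∈ Q), ∃ v : normalizerIn S (Q ⊓ T), (v : Ω) ∈ Q ⊓ T ∧
      lg.emb (⟨autFn a x, hQN (autFn_mem a hx)⟩ * v) = m * lg.emb ⟨x, hQN hx⟩ * m⁻¹ := by
    intro x hx
    set ex : normalizerIn S (Q ⊓ T) := ⟨x, hQN hx⟩
    set ea : normalizerIn S (Q ⊓ T) := ⟨autFn a x, hQN (autFn_mem a hx)⟩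
    have hd : ((ex⁻¹ * ea : normalizerIn S (Q ⊓ T)) : Ω) ∈ T := ha.2.1 x hx
    have hmem : (lg.emb ea)⁻¹ * (m * lg.emb ex * m⁻¹) ∈ M := by
      rw [show (lg.emb ea)⁻¹ * (m * lg.emb ex * m⁻¹) =
        ((lg.emb ex)⁻¹ * lg.emb ea)⁻¹ * ((lg.emb ex)⁻¹ * m * (lg.emb ex)⁻¹⁻¹ * m⁻¹) by group,
        ← map_inv, ← map_mul, map_inv]
      exact M.mul_mem (M.inv_mem (emb_mem_nSub dt hQc.2 lg hd))
        (M.mul_mem (hMn.conj_mem _ hm _) (M.inv_mem hm))
    have hres : res ((lg.emb ea)⁻¹ * (m * lg.emb ex * m⁻¹)) = 1 := by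
      have h1 : res (lg.emb ea) = res (m * lg.emb ex * m⁻¹) := mulAut_ext fun y hy => by
        have hz : autFn b⁻¹ y ∈ Q ⊓ T := autFn_mem _ hy
        have hxz : x * autFn b⁻¹ y * x⁻¹ ∈ Q ⊓ T := (mem_normalizer_iff'.1 (hQN hx).2).1 _ hz
        rw [resY_emb lg _ ea hy, map_mul, map_mul, map_inv, hmb, autFn_mul _ _ hy, autFn_mul _ _ hz,
          resY_emb lg _ ex hz]
        show autFn a x * y * (autFn a x)⁻¹ = autFn b (x * autFn b⁻¹ y * x⁻¹)
        rw [hbv _ hxz, haf.map_conj hx hz.1, ← hbv _ hz, autFn_apply_inv b hy]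
      rw [map_mul, map_inv, h1, inv_mul_cancel]
    obtain ⟨v, hv, -, hve⟩ := nSub_ker dt hQc.2 lg hZn hmem fun y hy => by
      rw [← resY_apply lg (base_le st hZT) _ hy, hres, autFn_id hy]
    exact ⟨v, hv, by rw [map_mul, hve, mul_inv_cancel_left]⟩
  have hmQ : m ∈ qNorm dt hQc lg := mem_qNorm dt hQc lg hm fun x hx =>
    let ⟨v, hv, hve⟩ := hval x hx
    ⟨_, Q.mul_mem (autFn_mem a hx) hv.1, hve⟩
  set γ := resQ dt hQc lg ⟨m, hmQ⟩ with hγ
  have hγd : ∀ x ∈ Q, (autFn a x)⁻¹ * autFn γ x ∈ Q ⊓ T := fun x hx => by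
    obtain ⟨v, hv, hve⟩ := hval x hx
    obtain ⟨z, hz, hze⟩ := resQ_spec dt hQc lg ⟨m, hmQ⟩ hx
    rw [hγ, ← hz, show z = _ from lg.inj (hze.trans hve.symm)]
    simpa using hv
  have hγY : ∀ y ∈ Q ⊓ T, autFn γ y = autFn a y := fun y hy => by
    obtain ⟨z, hz, hze⟩ := resQ_spec dt hQc lg ⟨m, hmQ⟩ hy.1
    have h1 := (lg.rel m y (Subgroup.mem_sup_left hy)).1
    rw [cj_eq lg.inj (hQN hy.1) hze, ← resY_apply lg (base_le st hZT) m hy, hmb] at h1
    rw [hγ, ← hz, h1, hbv y hy]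
  set d := γ⁻¹ * a
  have hdA : d ∈ F.autGroup Q := mul_mem (inv_mem (resQ_mem dt hQc lg ⟨m, hmQ⟩)) ha.1
  have hγf := (mem_autGroup_iff_fn hQS).1 (inv_mem (resQ_mem dt hQc lg ⟨m, hmQ⟩))
  have hfix : ∀ y ∈ Q ⊓ T, autFn d y = y := fun y hy => by
    rw [autFn_mul _ _ hy.1, ← hγY y hy, autFn_inv_apply γ hy.1]
  have hdisp : ∀ x ∈ Q, x⁻¹ * autFn d x ∈ Q ⊓ T := fun x hx => by
    have hγx := autFn_mem γ hx
    have hax := autFn_mem a hx
    have hu := Subgroup.inv_mem _ (hγd x hx)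
    rw [mul_inv_rev, inv_inv] at hu
    rw [autFn_mul _ _ hx, ← mul_inv_cancel_left (autFn γ x) (autFn a x), hγf.map_mul hγx hu.1,
      autFn_inv_apply γ hx, inv_mul_cancel_left]
    exact ⟨autFn_mem _ hu.1, sc_apply dt.sc hγf hu.1 hu.2⟩
  obtain ⟨s, hs, hsd⟩ := mem_autInducedBy.1 (stab_mem_autInducedBy dt hQn hdA hfix hdisp)
  obtain ⟨K, hK⟩ := stab_isPElement dt hQS hfix hdisp
  have h := mem_of_stabilizer (H := (resQ dt hQc lg).range) (γ := γ) (d := d) ⟨⟨m, hmQ⟩, rfl⟩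
    (fun h hh => range_conj dt hQc lg ⟨hs, mem_normalizer_of_autEq hsd⟩
      (fun x hx => (autFn_coe d ⟨x, hx⟩).trans (hsd _)) hh) hK (by rwa [mul_inv_cancel_left])
  rwa [mul_inv_cancel_left] at h

/-- `N_T(Q)` gives a Sylow subgroup of the realized group. -/
theorem range_sylow (hQn : F.IsFullyNormalized Q) (hZn : F.IsFullyNormalized (Q ⊓ T)) :
    ¬ p ∣ (autInducedBy T Q).relIndex (resQ dt hQc lg).range := by
  classical
  haveI := lg.fin
  have hQS := hQc.1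
  haveI := finite_of_le_base hQS
  haveI : Finite T := finite_of_le_base dt.sc.1
  haveI : Finite (MulAut Q) := Finite.of_injective (fun f : MulAut Q => (f : Q → Q)) DFunLike.coe_injective
  have hT := dt.sc
  have hQN := le_normalizer_inf dt hQS
  set H := qNorm dt hQc lg
  set f := (resQ dt hQc lg).rangeRestrict
  let U : Sylow p H := default
  have hU : ¬ p ∣ ((U : Subgroup H).map f).index := fun h =>
    U.not_dvd_index (h.trans (Subgroup.index_map_dvd _ (resQ dt hQc lg).rangeRestrict_surjective))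
  set EQ := (Q.subgroupOf (normalizerIn S (Q ⊓ T))).map lg.emb
  have hEQp : IsPGroup p EQ := ((dt.isp.to_le normalizerIn_le).to_subgroup _).map _
  set UL := (U : Subgroup H).map H.subtype
  have hULN : UL ≤ Subgroup.normalizer (EQ : Set L) := by
    rintro _ ⟨u, -, rfl⟩
    exact u.2.2
  have hUp : IsPGroup p ↥(UL ⊔ EQ) := (U.2.map _).to_sup_of_normal_right' hEQp hULN
  obtain ⟨RS, hRS⟩ := lg.syl
  obtain ⟨R', hR'⟩ := hUp.exists_le_sylow
  obtain ⟨l, hl⟩ := MulAction.exists_smul_eq L R' RS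
  have hlr : ∀ x ∈ UL ⊔ EQ, ∃ y : normalizerIn S (Q ⊓ T), lg.emb y = l * x * l⁻¹ := fun x hx => by
    have h1 : MulAut.conj l x ∈ (RS : Subgroup L) := by
      rw [← hl]
      exact ⟨x, hR' hx, rfl⟩
    rw [hRS] at h1
    exact h1
  have hd : ∀ x ∈ Q, ∃ (hx : x ∈ normalizerIn S (Q ⊓ T)) (y : normalizerIn S (Q ⊓ T)),
      lg.emb y = l * lg.emb ⟨x, hx⟩ * l⁻¹ := fun x hx =>
    ⟨hQN hx, hlr _ (Subgroup.mem_sup_right (Subgroup.mem_map_of_mem lg.emb
      (show (⟨x, hQN hx⟩ : normalizerIn S (Q ⊓ T)) ∈ _ from hx)))⟩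
  have hc := lg.realize l Q hQN hd
  set Q' := img (cj lg.emb l) Q
  have hQ'S := hc.img_le_base
  obtain ⟨φ, hφ, hφm, hφi⟩ := exists_normalizer_map dt.isp (fullyNormalized_good dt.isp dt.sat hQn).1
    (fullyNormalized_receptive dt.isp dt.sat hQn) (isConj_symm (isConj_of_fn hc))
  have hQ'N := le_normalizerIn hQ'S
  have hψ := hc.comp hφ fun x hx => hQ'N (mem_img_of_mem hx)
  have hψi : img (φ ∘ cj lg.emb l) Q = Q := by rw [hc.img_comp, hφi]
  obtain ⟨e, he, -⟩ := exists_transport hQS hψ hψi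
  have hmap : ∀ u ∈ (U : Subgroup H), MulAut.congr e (resQ dt hQc lg u) ∈ autInducedBy T Q := by
    intro u hu
    obtain ⟨t, ht⟩ := hlr _ (Subgroup.mem_sup_left ⟨u, hu, rfl⟩)
    have htM : lg.emb t ∈ nSub dt hQc.2 lg := by
      rw [ht]
      exact (nSub_normal dt hQc.2 lg).conj_mem _ u.2.1 _
    have htT : (t : Ω) ∈ T := nSub_range dt hQc.2 lg hZn htM
    have hconj : ∀ x ∈ Q, cj lg.emb l (autFn (resQ dt hQc lg u) x) =
        (t : Ω) * cj lg.emb l x * (t : Ω)⁻¹ := fun x hx => by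
      obtain ⟨hxN, z, hz⟩ := hd x hx
      obtain ⟨w, hw, hwe⟩ := resQ_spec dt hQc lg u hx
      obtain ⟨hwN, z', hz'⟩ := hd (w : Ω) (hw ▸ autFn_mem _ hx)
      rw [← hw, cj_eq lg.inj hwN hz', cj_eq lg.inj hxN hz]
      have h1 : z' = t * z * t⁻¹ := lg.inj <| by
        rw [hz', show (⟨(w : Ω), hwN⟩ : normalizerIn S (Q ⊓ T)) = w from rfl, hwe, map_mul, map_mul, map_inv,
          ht, hz]
        show _ = l * (u : L) * l⁻¹ * _ * (l * (u : L) * l⁻¹)⁻¹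
        group
      rw [h1]
      rfl
    haveI := finite_of_le_base hQ'S
    have htN : (t : Ω) ∈ normalizerIn S Q' := ⟨t.2.1, mem_normalizer_of_map_le fun y hy => by
      obtain ⟨x, hx, rfl⟩ := hc.mem_img.1 hy
      rw [← hconj x hx]
      exact mem_img_of_mem (autFn_mem _ hx)⟩
    refine mem_autInducedBy.2 ⟨φ (t : Ω), sc_apply hT hφ htN htT, fun y => ?_⟩
    obtain ⟨x, rfl⟩ := e.surjective y
    rw [show (MulAut.congr e (resQ dt hQc lg u)) (e x) = e (resQ dt hQc lg u x) by simp [MulAut.congr], he, he]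
    show φ (cj lg.emb l _) = _
    rw [← autFn_coe, hconj x x.2, hφ.map_conj htN (hQ'N (mem_img_of_mem x.2))]
    rfl
  -- compare orders
  set A := (autInducedBy T Q).subgroupOf (resQ dt hQc lg).range
  have hTp := dt.isp.to_le hT.1
  have hle : Nat.card ↥((U : Subgroup H).map f) ≤ Nat.card A := by
    rw [Nat.card_congr (Subgroup.subgroupOfEquivOfLe (autInducedBy_le_range dt hQc lg)).toEquiv]
    refine Nat.card_le_card_of_injective (fun a => (⟨MulAut.congr e ((a : (resQ dt hQc lg).range) : MulAut Q), by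
      obtain ⟨u, hu, hua⟩ := a.2
      rw [← hua]
      exact hmap u hu⟩ : autInducedBy T Q)) fun a b hab => ?_
    exact Subtype.ext (Subtype.ext ((MulAut.congr e).injective (congrArg Subtype.val hab)))
  intro hdvd
  have h1 : p ∣ A.index := hdvd
  obtain ⟨i, (hi : Nat.card A = p ^ i)⟩ := IsPGroup.iff_card.1 ((isPGroup_autInducedBy hTp (P := Q)).comap_of_injective
    (resQ dt hQc lg).range.subtype (Subgroup.subtype_injective _) : IsPGroup p A)
  obtain ⟨j, hj⟩ := IsPGroup.iff_card.1 (U.2.map f)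
  have hji : j ≤ i := (Nat.pow_le_pow_iff_right (Fact.out : p.Prime).one_lt).1 (hj ▸ hi ▸ hle)
  refine hU ?_
  have e1 := A.card_mul_index
  have e2 := ((U : Subgroup H).map f).card_mul_index
  rw [hi] at e1
  rw [hj] at e2
  have h4 : p ^ j * (p ^ (i - j) * A.index) = p ^ j * ((U : Subgroup H).map f).index := by
    rw [← mul_assoc, ← pow_add, Nat.add_sub_cancel' hji, e1, e2]
  rw [← Nat.eq_of_mul_eq_mul_left (pow_pos (Fact.out : p.Prime).pos j) h4]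
  exact h1.trans (dvd_mul_left _ _)

/-- A realized automorphism extends in the product to the part of the normalizer it transports into `Aut_S(Q)`. -/
theorem range_extend (hQn : F.IsFullyNormalized Q) (hZn : F.IsFullyNormalized (Q ⊓ T)) {k : MulAut Q}
    (hk : k ∈ (resQ dt hQc lg).range) {X : Subgroup Ω} (hQX : Q ≤ X) (hXN : X ≤ normalizerIn S Q)
    (hw : ∀ x ∈ X, ∃ w ∈ S, ∀ y ∈ Q, autFn k (x * y * x⁻¹) = w * autFn k y * w⁻¹) {hB : T ⊔ X ≤ S} :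
    ∃ g, Fn (gsys F E p hB) X g ∧ ∀ y ∈ Q, g y = autFn k y := by
  classical
  haveI := lg.fin
  have hQS := hQc.1
  haveI := finite_of_le_base hQS
  haveI : Finite T := finite_of_le_base dt.sc.1
  haveI : Finite (MulAut Q) := Finite.of_injective (fun f : MulAut Q => (f : Q → Q)) DFunLike.coe_injective
  have hT := dt.sc
  have st := setup dt.isp dt.nrm
  have hZT : Q ⊓ T ≤ T ⊓ T := le_inf inf_le_right inf_le_right
  set M := nSub dt hQc.2 lg
  haveI hMn : M.Normal := nSub_normal dt hQc.2 lg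
  obtain ⟨⟨m, hm⟩, rfl⟩ := hk
  set k := resQ dt hQc lg ⟨m, hm⟩ with hkdef
  set Re := (resQ dt hQc lg).range with hRe
  have hk' : k ∈ Re := ⟨⟨m, hm⟩, rfl⟩
  have hQN := le_normalizer_inf dt hQS
  have hXZ : X ≤ normalizerIn S (Q ⊓ T) := hXN.trans (normalizer_le_inf dt hQS)
  have hsyl := range_sylow dt hQc lg hQn hZn
  have hST : autInducedBy S Q ⊓ Re ≤ autInducedBy T Q := by
    intro a ha
    have hA1 : IsPGroup p ((autInducedBy S Q ⊓ Re).subgroupOf Re) :=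
      ((isPGroup_autInducedBy dt.isp).to_le inf_le_left).comap_of_injective _ (Subgroup.subtype_injective _)
    have hle : (autInducedBy T Q).subgroupOf Re ≤ (autInducedBy S Q ⊓ Re).subgroupOf Re := fun b hb => by
      obtain ⟨t, ht, hte⟩ := mem_autInducedBy.1 (show (b : MulAut Q) ∈ autInducedBy T Q from hb)
      exact ⟨mem_autInducedBy.2 ⟨t, hT.1 ht, hte⟩, b.2⟩
    let PS : Sylow p Re := IsPGroup.toSylow
      ((isPGroup_autInducedBy (P := Q) (dt.isp.to_le hT.1)).comap_of_injective Re.subtype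
        (Subgroup.subtype_injective _) : IsPGroup p ((autInducedBy T Q).subgroupOf Re)) hsyl
    have heq : (autInducedBy S Q ⊓ Re).subgroupOf Re = (autInducedBy T Q).subgroupOf Re := PS.3 hA1 hle
    exact heq.le (show (⟨a, ha.2⟩ : Re) ∈ (autInducedBy S Q ⊓ Re).subgroupOf Re from ha)
  have hd : Defd lg m X := by
    intro x hx
    obtain ⟨w, hwS, hwk⟩ := hw x hx
    have hxn := hXN hx
    have hwn : w ∈ Subgroup.normalizer (Q : Set Ω) := mem_normalizer_of_map_le fun y hy => by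
      have hz := autFn_mem k⁻¹ hy
      have h1 := hwk _ hz
      rw [autFn_apply_inv k hy] at h1
      rw [← h1]
      exact autFn_mem k ((mem_normalizer_iff'.1 hxn.2).1 _ hz)
    set σ := conjAut Q hxn.2
    set τ := conjAut Q hwn
    have hστ : k * σ * k⁻¹ = τ := mulAut_ext fun y hy => by
      have hz := autFn_mem k⁻¹ hy
      rw [autFn_mul _ _ hy, autFn_mul _ _ hz, autFn_coe σ ⟨_, hz⟩, conjAut_coe, hwk _ hz,
        autFn_apply_inv k hy, autFn_coe τ ⟨y, hy⟩, conjAut_coe]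
    have hσR : σ * k⁻¹ * σ⁻¹ ∈ Re := range_conj dt hQc lg hxn
      (fun y hy => (autFn_coe σ ⟨y, hy⟩).trans (conjAut_coe _ _)) (inv_mem hk')
    have hmemT : τ * σ⁻¹ ∈ autInducedBy T Q := by
      refine hST ⟨Subgroup.mul_mem _ (conjAut_mem_autInducedBy hwn hwS) (Subgroup.inv_mem _ (conjAut_mem_autInducedBy hxn.2 hxn.1)), ?_⟩
      have := mul_mem hk' hσR
      rw [← hστ]
      simpa [mul_assoc] using this
    obtain ⟨t, ht, hte⟩ := mem_autInducedBy.1 hmemT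
    have htn : t ∈ normalizerIn S (Q ⊓ T) := normalizer_le_inf dt hQS ⟨hT.1 ht, mem_normalizer_of_autEq hte⟩
    have hwx : ∀ y ∈ Q, autFn k (x * y * x⁻¹) = t * x * autFn k y * (t * x)⁻¹ := fun y hy => by
      have hky := autFn_mem k hy
      have h1 := hte (σ ⟨autFn k y, hky⟩)
      rw [MulAut.mul_apply, MulAut.inv_apply_self, conjAut_coe, conjAut_coe] at h1
      rw [hwk y hy]
      refine h1.trans ?_
      show t * (x * autFn k y * x⁻¹) * t⁻¹ = _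
      group
    set ex : normalizerIn S (Q ⊓ T) := ⟨x, hXZ hx⟩
    set et : normalizerIn S (Q ⊓ T) := ⟨t, htn⟩
    set y₀ := (lg.emb (et * ex))⁻¹ * (m * lg.emb ex * m⁻¹) with hy₀
    have hyM : y₀ ∈ M := by
      rw [hy₀, map_mul, show (lg.emb et * lg.emb ex)⁻¹ * (m * lg.emb ex * m⁻¹) =
        ((lg.emb ex)⁻¹ * (lg.emb et)⁻¹ * (lg.emb ex)⁻¹⁻¹) * ((lg.emb ex)⁻¹ * m * (lg.emb ex)⁻¹⁻¹) * m⁻¹ by group]
      exact M.mul_mem (M.mul_mem (hMn.conj_mem _ (M.inv_mem (emb_mem_nSub dt hQc.2 lg ht)) _)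
        (hMn.conj_mem _ hm.1 _)) (M.inv_mem hm.1)
    have hfix : ∀ z ∈ Q ⊓ T, autFn (lg.act y₀) z = z := by
      intro z hz
      have hkf := (mem_autGroup_iff_fn hQS).1 (resQ_mem dt hQc lg ⟨m, hm⟩)
      have hu : autFn k⁻¹ z ∈ Q := autFn_mem _ hz.1
      have huT : autFn k⁻¹ z ∈ Q ⊓ T :=
        ⟨hu, sc_apply hT ((mem_autGroup_iff_fn hQS).1 (inv_mem (resQ_mem dt hQc lg ⟨m, hm⟩))) hz.1 hz.2⟩
      have hmz : ∀ v ∈ Q ⊓ T, autFn (lg.act m) v = autFn k v := fun v hv => by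
        obtain ⟨z', hz', hze'⟩ := resQ_spec dt hQc lg ⟨m, hm⟩ hv.1
        rw [hkdef, ← hz']
        exact ((lg.rel m v (Subgroup.mem_sup_left hv)).1.symm.trans (cj_eq lg.inj (hQN hv.1) hze'))
      have hres1 : resY lg (base_le st hZT) (lg.emb (et * ex)) = resY lg (base_le st hZT) (m * lg.emb ex * m⁻¹) := by
        refine mulAut_ext fun v hv => ?_
        set res := resY lg (base_le st hZT)
        have hv' : autFn (res m)⁻¹ v ∈ Q ⊓ T := autFn_mem _ hv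
        rw [resY_emb lg _ _ hv, map_mul res, map_mul res, map_inv res, autFn_mul _ _ hv, autFn_mul _ _ hv',
          resY_emb lg _ ex hv', resY_apply lg _ m ((mem_normalizer_iff'.1 ex.2.2).1 _ hv'),
          hmz _ ((mem_normalizer_iff'.1 ex.2.2).1 _ hv')]
        show t * x * v * (t * x)⁻¹ = autFn k (x * autFn (res m)⁻¹ v * x⁻¹)
        rw [hwx _ hv'.1]
        have h2 := autFn_apply_inv (res m) hv
        rw [resY_apply lg _ m hv', hmz _ hv'] at h2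
        rw [h2]
      rw [← resY_apply lg (base_le st hZT) y₀ hz, hy₀, map_mul, map_inv, hres1, inv_mul_cancel, autFn_id hz]
    obtain ⟨v, -, -, hve⟩ := nSub_ker dt hQc.2 lg hZn hyM hfix
    exact ⟨hXZ hx, et * ex * v, by rw [map_mul, hve, hy₀, mul_inv_cancel_left]⟩
  refine ⟨cj lg.emb m, nSub_fusion dt hQc.2 lg hZn hm.1 (inf_le_left.trans hQX) hXZ hd, fun y hy => ?_⟩
  obtain ⟨z, hz, hze⟩ := resQ_spec dt hQc lg ⟨m, hm⟩ hy
  exact (cj_eq lg.inj (hQN hy) hze).trans hz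

end CfsgLib.Fsys.EProd
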