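import Cfsg.Agent.Lib.FusionSystem.Criterion

/-! The saturation criterion with the larger subgroups known to be good. -/

set_option autoImplicit false

namespace CfsgLib.Fsys.EProd

open Cfsg Cfsg.FusionSystem CfsgLib.Fsys.Criterion
open Cfsg.FusionSystem (centralizerIn normalizerIn)
open scoped Pointwise

variable {Ω : Type*} [Group Ω] {S : Subgroup Ω} {F : FusionSystem S} {p : ℕ} [Fact p.Prime] [Finite S]

/-- Saturation from generation by a family that is good whenever the larger subgroups are. -/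
theorem saturated_of_rec (hS : IsPGroup p S) (ℋ : Set (Subgroup Ω)) (hℋS : ∀ P ∈ ℋ, P ≤ S)
    (hℋconj : ∀ P ∈ ℋ, ∀ Q, F.IsConj P Q → Q ∈ ℋ) (hsat : ∀ P ∈ ℋ, (∀ R ≤ S, Nat.card P < Nat.card R → Good F p R) → Good F p P)
    (hgen : ∀ E : FusionSystem S, (∀ P ∈ ℋ, F.Hom P ⊆ E.Hom P) → F ≤ E)
    (hstar : ∀ P : Subgroup Ω, F.IsCentric P → P ∉ ℋ → ∃ Q, F.IsConj P Q ∧
      ¬ (autInducedBy S Q ⊓ (pCore p (F.autGroup Q)).map (F.autGroup Q).subtype ≤ Inn Q)) :
    F.IsSaturated p := by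
  intro P₀ hP₀
  refine induction_down (C := fun P => Good F p P) P₀ hP₀ ?_
  intro P₁ hP₁ ih
  obtain ⟨P, hconj, hPn⟩ := exists_fullyNormalized (F := F) hP₁
  suffices h : Good F p P by
    obtain ⟨Q, hQ, hA, hr⟩ := h
    exact ⟨Q, isConj_trans hconj hQ, hA, hr⟩
  have hgood : ∀ R ≤ S, Nat.card P < Nat.card R → Good F p R := fun R hR h => ih R hR (isConj_card hconj ▸ h)
  by_cases hPH : P ∈ ℋ
  · exact hsat P hPH hgood
  haveI := finite_of_le_base hPn.1
  haveI : Finite (MulAut P) := Finite.of_injective (fun f : MulAut P => (f : P → P)) DFunLike.coe_injective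
  have hPS : P ≠ S := by
    rintro rfl
    have hc : F.IsCentric P := ⟨le_rfl, fun Q hQ => by
      rw [eq_of_le_of_card le_rfl (isConj_le_right hQ) (isConj_card hQ).ge]
      exact inf_le_left⟩
    obtain ⟨Q, hQ, hQ'⟩ := hstar P hc hPH
    obtain rfl : Q = P := eq_of_le_of_card le_rfl (isConj_le_right hQ) (isConj_card hQ).ge
    refine hQ' fun α hα => ?_
    obtain ⟨s, hs, hsα⟩ := mem_autInducedBy.1 hα.1
    exact ⟨⟨s, hs⟩, MulEquiv.ext fun x => Subtype.ext (hsα x).symm⟩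
  refine good_of_core ℋ hS hℋS hℋconj hgen hPn hPH hPS hgood ?_
  by_cases hcen : centralizerIn S P ≤ P
  swap
  · obtain ⟨n, hn, hnP⟩ := SetLike.not_le_iff_exists.1 hcen
    refine ⟨n, hn.1, hnP, 1, Subgroup.one_mem _, fun x => ?_⟩
    show (x : Ω) = n * x * n⁻¹
    rw [← (mem_centralizerIn.1 hn).2 x x.2, mul_inv_cancel_right]
  have hc : F.IsCentric P := ⟨hPn.1, fun Q hQ c hc => by
    obtain ⟨ψ, hψ, hψi⟩ := exists_up ℋ hS hℋS hℋconj hgen hPn hPH hPS hgood hQ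
    have hQN := le_normalizerIn (isConj_le_right hQ)
    have hcN := centralizerIn_le_normalizerIn hc
    have h1 := hcen (hψ.map_centralizer hQN hψi hcN hc)
    obtain ⟨y, hy, hye⟩ := (hψ.mono hQN).mem_img.1 (hψi.ge h1)
    exact hψ.inj hcN (hQN hy) hye.symm ▸ hy⟩
  obtain ⟨Q, hQ, hQ'⟩ := hstar P hc hPH
  obtain ⟨α, ⟨hαS, hαO⟩, hαI⟩ := SetLike.not_le_iff_exists.1 hQ'
  obtain ⟨n, hn, hne⟩ := mem_autInducedBy.1 hαS
  have hnN : n ∈ normalizerIn S Q := ⟨hn, mem_normalizer_of_autEq hne⟩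
  obtain ⟨ψ, hψ, hψi⟩ := exists_up ℋ hS hℋS hℋconj hgen hPn hPH hPS hgood hQ
  have hQS := isConj_le_right hQ
  haveI := finite_of_le_base hQS
  haveI : Finite (MulAut Q) := Finite.of_injective (fun f : MulAut Q => (f : Q → Q)) DFunLike.coe_injective
  have hQN := le_normalizerIn hQS
  obtain ⟨e, he, hmap⟩ := exists_transport hQS (hψ.mono hQN) hψi
  refine ⟨ψ n, hψ.mem hnN, fun hmem => ?_, MulAut.congr e α, ?_, fun x => ?_⟩
  · obtain ⟨y, hy, hye⟩ := (hψ.mono hQN).mem_img.1 (hψi.ge hmem)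
    obtain rfl := hψ.inj (hQN hy) hnN hye
    exact hαI ⟨⟨y, hy⟩, MulEquiv.ext fun z => Subtype.ext (hne z).symm⟩
  · let Φ : F.autGroup Q →* F.autGroup P :=
      ((MulAut.congr e).toMonoidHom.comp (F.autGroup Q).subtype).codRestrict _ fun a => hmap ▸ ⟨a, a.2, rfl⟩
    have hΦ : Function.Surjective Φ := by
      intro b
      obtain ⟨a, ha, hab⟩ := hmap.ge b.2
      exact ⟨⟨a, ha⟩, Subtype.ext hab⟩
    haveI := CfsgLib.Solvable.Cores.pCore_normal (G := F.autGroup Q) p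
    have hle : (pCore p (F.autGroup Q)).map Φ ≤ pCore p (F.autGroup P) :=
      le_sSup (s := {N : Subgroup (F.autGroup P) | N.Normal ∧ IsPGroup p N})
        ⟨Subgroup.Normal.map inferInstance Φ hΦ, (CfsgLib.Solvable.Cores.isPGroup_pCore p).map Φ⟩
    obtain ⟨a, ha, rfl⟩ := hαO
    exact ⟨Φ a, hle ⟨a, ha, rfl⟩, rfl⟩
  · obtain ⟨y, rfl⟩ := e.surjective x
    rw [show (MulAut.congr e α) (e y) = e (α y) by simp [MulAut.congr], he, he, hne y,
      hψ.map_conj hnN (hQN y.2)]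

end CfsgLib.Fsys.EProd
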