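import Cfsg.Agent.Lib.FusionSystem.EProd.Stab
import Cfsg.Agent.Lib.FusionSystem.EProd.Rec

/-! The product of a normal subsystem with an overgroup of its base is saturated. -/

set_option autoImplicit false

namespace CfsgLib.Fsys.EProd

open Cfsg Cfsg.FusionSystem CfsgLib.Fsys.WNR CfsgLib.Fsys.Meet
open Cfsg.FusionSystem (centralizerIn normalizerIn extender)
open scoped Pointwise

universe u

variable {Ω : Type u} [Group Ω] {S T R : Subgroup Ω} [Finite S] {F : FusionSystem S} {E : FusionSystem T}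
  {P Q : Subgroup Ω} {p : ℕ} [Fact p.Prime] (dt : Data F E p) (hTR : T ≤ R) (hR : R ≤ S)

include dt hTR in
/-- The representative of a class, with its image normal form. -/
theorem exists_rep {P₀ : Subgroup Ω} (hP₀ : P₀ ≤ R) (hc : Cat F T P₀) :
    ∃ P, (gsys F E p hR).IsConj P₀ P ∧ (gsys F E p hR).IsFullyNormalized P ∧ ∃ (Q : Subgroup Ω) (α : Ω → Ω),
      F.IsFullyNormalized Q ∧ Nice F (Q ⊓ T) ∧ Cat F T Q ∧ Fn F (T ⊔ normalizerIn R P) α ∧ img α P = Q := by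
  have hT := dt.sc
  haveI := finite_of_le_base hR
  obtain ⟨Q₀, hPQ₀, hQ₀⟩ := exists_fullyNormalized (F := F) hc.1
  obtain ⟨f₀, hf₀, hf₀i⟩ := isConj_iff.1 hPQ₀
  have hQ₀S := hQ₀.1
  have hY₀ : Q₀ ⊓ T ≤ S := inf_le_left.trans hQ₀S
  obtain ⟨Z, hYZ, hZ⟩ := exists_nice (p := p) dt.isp dt.sat hY₀
  obtain ⟨φ, hφ, -, hφi⟩ := exists_normalizer_map dt.isp (fullyNormalized_good dt.isp dt.sat hZ.1).1
    (fullyNormalized_receptive dt.isp dt.sat hZ.1) hYZ
  have hφQ := hφ.mono (le_normalizer_inf dt hQ₀S)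
  set Q := img φ Q₀
  have hQS := hφQ.img_le_base
  have hQQ₀ : F.IsConj Q₀ Q := isConj_of_fn hφQ
  have hQn : F.IsFullyNormalized Q := ⟨hQS, fun X hX =>
    (hQ₀.2 X (isConj_trans hQQ₀ hX)).trans (card_le_of_map_le normalizerIn_le
      (hφ.mono (normalizer_le_inf dt hQ₀S)) fun n hn =>
        hφ.map_normalizer (le_normalizer_inf dt hQ₀S) rfl (normalizer_le_inf dt hQ₀S hn) hn.2)⟩
  have hQT : Q ⊓ T = Z := by rw [img_inf_sc hT hφQ, hφi]
  have hQc : Cat F T Q := (hf₀i ▸ hc.conj dt hf₀).conj dt hφQ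
  obtain ⟨P₁, hP₁, hP₁n⟩ := exists_fullyNormalized (F := gsys F E p hR) hP₀
  obtain ⟨f₁, hf₁, hf₁i⟩ := isConj_iff.1 hP₁
  have hP₁R : P₁ ≤ R := hP₁n.1
  have hPQ : F.IsConj P₁ Q := isConj_trans
    (isConj_symm (isConj_iff.2 ⟨f₁, hf₁.of_subsystem gsys_sub, hf₁i⟩)) (isConj_trans hPQ₀ hQQ₀)
  obtain ⟨ψ, hψ, -, hψi⟩ := exists_normalizer_map dt.isp (fullyNormalized_good dt.isp dt.sat hQn).1
    (fullyNormalized_receptive dt.isp dt.sat hQn) hPQ
  have hNle : normalizerIn R P₁ ≤ normalizerIn S P₁ := inf_le_inf hR le_rfl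
  obtain ⟨d, hd, α, hα, hψd⟩ := dec dt (hψ.mono hNle)
  have hle : T ⊔ normalizerIn R P₁ ≤ R := sup_le hTR normalizerIn_le
  have hdG : Fn (gsys F E p hR) (normalizerIn R P₁) d := gsys_mono hle hd.fn
  have hPN₁ := le_normalizerIn hP₁R
  set P := img d P₁
  have hPR : P ≤ R := (hdG.mono hPN₁).img_le_base
  have hP₁P : (gsys F E p hR).IsConj P₁ P := isConj_of_fn (hdG.mono hPN₁)
  have hcard : Nat.card (normalizerIn R P₁) ≤ Nat.card (normalizerIn R P) :=
    card_le_of_map_le normalizerIn_le hdG fun n hn => hdG.map_normalizer hPN₁ rfl hn hn.2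
  have hPn : (gsys F E p hR).IsFullyNormalized P :=
    ⟨hPR, fun X hX => (hP₁n.2 X (isConj_trans hP₁P hX)).trans hcard⟩
  have hNi : img d (normalizerIn R P₁) = normalizerIn R P :=
    img_eq_of_card_le normalizerIn_le hdG (fun n hn => hdG.map_normalizer hPN₁ rfl hn hn.2) (hP₁n.2 P hP₁P)
  refine ⟨P, isConj_trans hP₁ hP₁P, hPn, Q, α, hQn, hQT ▸ hZ, hQc, ?_, ?_⟩
  · rw [← hNi, hd.sup_img]
    exact hα
  · rw [← (hdG.mono hPN₁).img_comp, ← hψi]
    exact img_congr fun x hx => (hψd x (hPN₁ hx)).symm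

theorem mem_family {W W' : Subgroup Ω} (hW : W ≤ R ∧ Cat F T W) (h : (gsys F E p hR).IsConj W W')
    (dt : Data F E p) : W' ≤ R ∧ Cat F T W' := by
  obtain ⟨f, hf, rfl⟩ := isConj_iff.1 h
  exact ⟨hf.img_le_base, hW.2.conj dt (hf.of_subsystem gsys_sub)⟩

include dt hTR in
/-- A restriction of an automorphism of the normalizer is an inner one times coprime generators. -/
theorem resN_decomp (hP : P ≤ R) (hlt : P < R) (hPn : (gsys F E p hR).IsFullyNormalized P)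
    (hgood : ∀ W ≤ R, Nat.card P < Nat.card W → Criterion.Good (gsys F E p hR) p W) {s : MulAut P}
    (hs : s ∈ resN (E := E) (F := F) (p := p) hR hP) :
    ∃ σ ∈ autInducedBy R P, ∃ k ∈ oGrp F E p P, s = σ * k := by
  classical
  haveI := finite_of_le_base hR
  have hRp : IsPGroup p R := dt.isp.to_le hR
  set N := normalizerIn R P with hN
  obtain ⟨h, hh, hhs⟩ : ∃ h ∈ (gsys F E p hR).autGroup N, ∀ x ∈ P, autFn h x = autFn s x := id hs
  have hPN : P ≤ N := le_normalizerIn hP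
  haveI := finite_of_le_base hP
  haveI := finite_of_le_base (normalizerIn_le : N ≤ R)
  haveI : Finite (MulAut N) := Finite.of_injective (fun f : MulAut N => (f : N → N)) DFunLike.coe_injective
  have hpow : ∀ l : ℕ, ∀ x ∈ P, autFn (s ^ l) x = autFn (h ^ l) x := by
    intro l
    induction l with
    | zero => intro x hx; rw [pow_zero, pow_zero, autFn_id hx, autFn_id (hPN hx)]
    | succ l ihl =>
      intro x hx
      rw [pow_succ, pow_succ, autFn_mul _ _ hx, autFn_mul _ _ (hPN hx), hhs x hx, ihl _ (autFn_mem s hx)]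
  obtain ⟨j, hj⟩ := CfsgLib.Fusion.Basic.exists_pow_coprime (p := p) h
  set m := orderOf (h ^ p ^ j)
  have hm : (h ^ p ^ j) ^ m = 1 := pow_orderOf_eq_one _
  have hcp : Nat.Coprime (p ^ j) m := (hj.symm.pow_left j)
  obtain ⟨c, hc1, hc0⟩ := Nat.chineseRemainder hcp 1 0
  obtain ⟨d, hd0, hd1⟩ := Nat.chineseRemainder hcp 0 1
  have hho : h ^ (p ^ j * m) = 1 := by rw [pow_mul, hm]
  have hsum : c + d ≡ 1 [MOD p ^ j * m] := (Nat.modEq_and_modEq_iff_modEq_mul hcp).1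
    ⟨by simpa using hc1.add hd0, by simpa using hc0.add hd1⟩
  have hspl : h = h ^ c * h ^ d := by rw [← pow_add, pow_eq_self hho hsum]
  have hssp : s = s ^ c * s ^ d := mulAut_ext fun x hx => by
    rw [← hhs x hx, ← pow_add, hpow _ x hx, pow_add, ← hspl]
  obtain ⟨c', rfl⟩ := Nat.modEq_zero_iff_dvd.1 hc0
  obtain ⟨d', rfl⟩ := Nat.modEq_zero_iff_dvd.1 hd0
  have hsA : s ∈ (gsys F E p hR).autGroup P := resN_le hR hP hs
  have hkm : s ^ (p ^ j * d') ∈ oGrp F E p P := by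
    rw [pow_mul]
    refine pow_mem (coprime_mem_oGrp dt hTR hP (pow_mem hsA _) ?_) _
    refine Nat.Coprime.coprime_dvd_left (orderOf_dvd_of_pow_eq_one (mulAut_ext fun x hx => ?_)) hj
    rw [← pow_mul, hpow _ x hx, pow_mul, hm, autFn_id (hPN hx), autFn_id hx]
  refine ⟨s ^ (m * c'), ?_, _, hkm, hssp⟩
  set τ := h ^ (m * c')
  have hτ : τ ∈ (gsys F E p hR).autGroup N := pow_mem hh _
  have hτp : IsPGroup p (Subgroup.zpowers τ) := by
    have h1 : τ ^ p ^ j = 1 := by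
      rw [← pow_mul, show m * c' * p ^ j = p ^ j * m * c' by ring, pow_mul, hho, one_pow]
    obtain ⟨i, -, hi⟩ := (Nat.dvd_prime_pow Fact.out).1 (orderOf_dvd_of_pow_eq_one h1)
    exact IsPGroup.of_card (n := i) ((Nat.card_zpowers _).trans hi)
  obtain ⟨N', hNN', hA, -⟩ := hgood N normalizerIn_le
    (Set.Finite.card_lt_card (Set.toFinite (N : Set Ω)) (lt_normalizerIn hRp hlt))
  obtain ⟨f, hf, hfi⟩ := isConj_iff.1 hNN'
  obtain ⟨e, he, hmap⟩ := exists_transport hf.le hf hfi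
  have hτ' : MulAut.congr e τ ∈ (gsys F E p hR).autGroup N' := hmap ▸ ⟨τ, hτ, rfl⟩
  have hzp : IsPGroup p (Subgroup.zpowers (MulAut.congr e τ)) := by
    have := hτp.map (MulAut.congr e).toMonoidHom
    rwa [MonoidHom.map_zpowers] at this
  obtain ⟨γ, hγ, hγT⟩ := exists_conj_into hRp hA (Subgroup.zpowers_le.2 hτ') hzp
  obtain ⟨w, hw, hwe⟩ := mem_autInducedBy.1 (hγT _ (Subgroup.mem_zpowers _))
  have hfm : ∀ x ∈ N, f x ∈ N' := fun x hx => hfi.le (mem_img_of_mem hx)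
  have hg := hf.comp ((mem_autGroup_iff_fn hA.1).1 hγ) hfm
  set g := autFn γ ∘ f
  have hval : ∀ x ∈ N, g (autFn τ x) = w * g x * w⁻¹ := fun x hx => by
    lift x to N using hx
    have h1 := hwe (γ (e x))
    simp only [MulAut.mul_apply, MulAut.inv_apply_self] at h1
    rw [show (MulAut.congr e τ) (e x) = e (τ x) by simp [MulAut.congr]] at h1
    show autFn γ (f (autFn τ x)) = w * autFn γ (f x) * w⁻¹
    rw [autFn_coe τ, ← he, ← he, autFn_coe, autFn_coe]
    exact h1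
  have hgP := hg.mono hPN
  have hτs : ∀ x ∈ P, autFn τ x = autFn (s ^ (m * c')) x := fun x hx => (hpow _ x hx).symm
  haveI := finite_of_le_base hgP.img_le_base
  have hwN : w ∈ normalizerIn R (img g P) := ⟨hw, mem_normalizer_of_map_le fun z hz => by
    obtain ⟨y, hy, rfl⟩ := hgP.mem_img.1 hz
    rw [← hval y (hPN hy), hτs y hy]
    exact mem_img_of_mem (autFn_mem _ hy)⟩
  have hgN : img g N = normalizerIn R (img g P) := img_eq_of_card_le normalizerIn_le hg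
    (fun n hn => hg.map_normalizer hPN rfl hn hn.2) (hPn.2 _ (isConj_of_fn hgP))
  obtain ⟨n, hn, hnw⟩ := hg.mem_img.1 (hgN.ge hwN)
  refine mem_autInducedBy.2 ⟨n, hn.1, fun x => ?_⟩
  have h1 := hval x (hPN x.2)
  rw [hτs x x.2, ← hnw, ← hg.map_conj hn (hPN x.2)] at h1
  rw [← autFn_coe]
  exact hg.inj (hPN (autFn_mem _ x.2)) ((mem_normalizer_iff'.1 hn.2).1 x x.2 |> fun h => hPN h) h1

include dt hTR in
/-- The automizer of a representative is generated by the inner and the coprime automorphisms. -/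
theorem aut_decomp (hP : P ≤ R) (hc : Cat F T P) (hPn : (gsys F E p hR).IsFullyNormalized P)
    (hgood : ∀ W ≤ R, Nat.card P < Nat.card W → Criterion.Good (gsys F E p hR) p W) {a : MulAut P}
    (ha : a ∈ (gsys F E p hR).autGroup P) :
    ∃ σ ∈ autInducedBy R P, ∃ k ∈ oGrp F E p P, a = σ * k := by
  classical
  haveI := finite_of_le_base hR
  have hRp : IsPGroup p R := dt.isp.to_le hR
  obtain ⟨k, hk, b, hb, hab⟩ := dec_level dt hR ((mem_autGroup_iff_fn hP).1 ha) le_rfl hc rfl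
  rcases eq_or_lt_of_le hP with rfl | hlt
  · obtain ⟨φ, ⟨-, w, hw, hwe⟩, hφb⟩ := uSys_le dt hR (M := innerFusionSystem P)
      (fun Y hY _ hlt _ _ _ => absurd (Subgroup.card_le_of_le hY) (Nat.not_le.2 hlt)) hb
    have hn : w ∈ Subgroup.normalizer (P : Set Ω) := Subgroup.le_normalizer hw
    refine ⟨conjAut P hn, conjAut_mem_autInducedBy hn hw, k, hk, mulAut_ext fun x hx => ?_⟩
    rw [hab x hx, autFn_mul _ _ hx]
    have hkx := autFn_mem k hx
    rw [← hφb ⟨_, hkx⟩, hwe, autFn_coe (conjAut P hn) ⟨_, hkx⟩, conjAut_coe]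
  have hbi : img b P = P := hb.img_eq_self fun x hx => by
    have h1 := hab _ (autFn_mem k⁻¹ hx)
    rw [autFn_apply_inv k hx] at h1
    exact h1 ▸ autFn_mem a (autFn_mem k⁻¹ hx)
  obtain ⟨b', hb', hbe⟩ := exists_aut_of_fn hb hbi
  have hMn : (uSys dt hR (Nat.card P)).IsFullyNormalized P := ⟨hP, fun W hW => hPn.2 W (by
    obtain ⟨f, hf, hfi⟩ := isConj_iff.1 hW
    exact isConj_iff.2 ⟨f, hf.of_subsystem (uSys_sub dt hR _), hfi⟩)⟩
  obtain ⟨s, hs, k', hk', hbsk⟩ := gen_le_resK dt hR hTR hP hlt hPn hgood _ (Nat.lt_succ_self _)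
    (Criterion.autGroup_le_gen {W | (W ≤ R ∧ Cat F T W) ∧ Nat.card P < Nat.card W} hRp (fun W hW => hW.1.1)
      (fun W hW W' h => mem_uSys_family dt hR hW h) (uSys_gen dt hR _) hMn (fun h => lt_irrefl _ h.2) hlt.ne
      (fun W hW h => uSys_good dt hR hW h (hgood W hW h)) hb')
  obtain ⟨σ, hσ, k'', hk'', hsσ⟩ := resN_decomp dt hTR hR hP hlt hPn hgood hs
  refine ⟨σ, hσ, k'' * k' * k, mul_mem (mul_mem hk'' hk') hk, ?_⟩
  rw [show a = b' * k from mulAut_ext fun x hx => by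
    rw [hab x hx, autFn_mul _ _ hx, autFn_coe b' ⟨_, autFn_mem k hx⟩, hbe], hbsk, hsσ]
  group

include dt hTR in
/-- The inner automorphisms form a Sylow subgroup. -/
theorem rep_fullyAutomized (hP : P ≤ R) (hc : Cat F T P) (hPn : (gsys F E p hR).IsFullyNormalized P)
    (hgood : ∀ W ≤ R, Nat.card P < Nat.card W → Criterion.Good (gsys F E p hR) p W)
    {L : Type u} [Group L] (hQn : F.IsFullyNormalized Q) (hZn : F.IsFullyNormalized (Q ⊓ T))
    (hQc : Cat F T Q) (lg : LocalGroup p F (Q ⊓ T) L)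
    {α : Ω → Ω} (hα : Fn F (T ⊔ normalizerIn R P) α) (hαi : img α P = Q) :
    (gsys F E p hR).IsFullyAutomized p P := by
  classical
  haveI := finite_of_le_base hR
  haveI := finite_of_le_base hP
  haveI := finite_of_le_base hQn.1
  haveI : Finite (MulAut P) := Finite.of_injective (fun f : MulAut P => (f : P → P)) DFunLike.coe_injective
  haveI : Finite (MulAut Q) := Finite.of_injective (fun f : MulAut Q => (f : Q → Q)) DFunLike.coe_injective
  have hT := dt.sc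
  set A := (gsys F E p hR).autGroup P
  set H := autInducedBy R P
  set O := oGrp F E p P
  have hHA : H ≤ A := autInducedBy_le_autGroup hP
  have hOA : O ≤ A := oGrp_le_gsys hc hP
  set H' := H.subgroupOf A
  set O' := O.subgroupOf A
  haveI hO'n : O'.Normal := ⟨fun k hk b => oGrp_conj dt (hP.trans hR) (autGroup_mono' gsys_sub P b.2) hk⟩
  have htop : H' ⊔ O' = ⊤ := eq_top_iff.2 fun a _ => by
    obtain ⟨σ, hσ, k, hk, e⟩ := aut_decomp dt hTR hR hP hc hPn hgood a.2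
    rw [show a = ⟨σ, hHA hσ⟩ * ⟨k, hOA hk⟩ from Subtype.ext e]
    exact Subgroup.mul_mem_sup hσ hk
  have hidx : H'.index = H.relIndex O := by
    have e1 := Subgroup.relIndex_mul_index (inf_le_right : H' ⊓ O' ≤ O')
    have e2 := Subgroup.relIndex_mul_index (inf_le_left : H' ⊓ O' ≤ H')
    have e3 : O'.index = O'.relIndex H' := by
      rw [← Subgroup.relIndex_top_right O', ← htop]
      exact Subgroup.relIndex_sup_right H' O'
    rw [Subgroup.inf_relIndex_right] at e1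
    rw [Subgroup.inf_relIndex_left, ← e3] at e2
    rw [← Subgroup.relIndex_subgroupOf (H := H) hOA]
    refine Nat.eq_of_mul_eq_mul_left (Nat.pos_of_ne_zero (Subgroup.FiniteIndex.index_ne_zero (H := O'))) ?_
    rw [e2, ← e1, mul_comm]
  -- transport to the representative in `F`
  have hαP := hα.mono ((le_normalizerIn hP).trans le_sup_right)
  obtain ⟨e, he, hmap⟩ := exists_transport hαP.le hαP hαi
  set Φ := (MulAut.congr e).toMonoidHom
  set Re := (resQ dt hQc lg).range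
  have hOQ : O.map Φ ≤ Re := (oGrp_congr dt hαP hαi e he).trans
    ((Subgroup.closure_le _).2 fun a ha => realize_gam dt hQc lg hQn hZn ha.1 ha.2)
  haveI hOn : ((O.map Φ).subgroupOf Re).Normal := ⟨fun k hk b => by
    obtain ⟨k₀, hk₀, hk₀e⟩ := hk
    have hbF : (b : MulAut Q) ∈ F.autGroup Q := by
      obtain ⟨m, hm⟩ := b.2
      exact hm ▸ resQ_mem dt hQc lg m
    obtain ⟨b₀, hb₀, hb₀e⟩ := hmap.ge hbF
    refine ⟨b₀ * k₀ * b₀⁻¹, oGrp_conj dt (hP.trans hR) hb₀ hk₀, ?_⟩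
    rw [map_mul, map_mul, map_inv]
    show Φ b₀ * Φ k₀ * (Φ b₀)⁻¹ = _
    rw [hb₀e, hk₀e]
    rfl⟩
  have hTle : autInducedBy T Q ≤ (autInducedBy T P).map Φ := by
    intro a ha
    obtain ⟨t, ht, hta⟩ := mem_autInducedBy.1 ha
    obtain ⟨t₀, ht₀, rfl⟩ := (hα.mono (le_sup_left : T ≤ _)).mem_img.1 ((sc_img hT le_sup_left hα).ge ht)
    have ht₀' : t₀ ∈ T ⊔ normalizerIn R P := Subgroup.mem_sup_left ht₀
    have hPW : P ≤ T ⊔ normalizerIn R P := (le_normalizerIn hP).trans le_sup_right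
    have hv : ∀ x ∈ P, α (t₀ * x * t₀⁻¹) = autFn a (α x) := fun x hx => by
      lift x to P using hx
      rw [hα.map_conj ht₀' (hPW x.2), ← he x, autFn_coe, hta]
    have htn : t₀ ∈ Subgroup.normalizer (P : Set Ω) := mem_normalizer_of_map_le fun x hx => by
      obtain ⟨y, hy, hye⟩ := hαP.mem_img.1 (hαi.ge (autFn_mem a (hαi.le (mem_img_of_mem hx))))
      rw [← hv x hx] at hye
      have hm : t₀ * x * t₀⁻¹ ∈ T ⊔ normalizerIn R P :=
        Subgroup.mul_mem _ (Subgroup.mul_mem _ ht₀' (hPW hx)) (Subgroup.inv_mem _ ht₀')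
      exact hα.inj (hPW hy) hm hye ▸ hy
    refine ⟨conjAut P htn, conjAut_mem_autInducedBy htn ht₀, MulEquiv.ext fun y => Subtype.ext ?_⟩
    obtain ⟨x, rfl⟩ := e.surjective y
    rw [show Φ (conjAut P htn) (e x) = e (conjAut P htn x) by simp [Φ, MulAut.congr], he, conjAut_coe]
    show α (t₀ * x * t₀⁻¹) = _
    rw [hv x x.2, ← he x, autFn_coe]
  have hsyl := range_sylow dt hQc lg hQn hZn
  let PS : Sylow p Re := IsPGroup.toSylow
    ((isPGroup_autInducedBy (P := Q) (dt.isp.to_le hT.1)).comap_of_injective Re.subtype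
      (Subgroup.subtype_injective _) : IsPGroup p ((autInducedBy T Q).subgroupOf Re)) hsyl
  have hnd : ¬ p ∣ (autInducedBy T Q).relIndex (O.map Φ) := by
    have h1 := CfsgLib.Fusion.Basic.not_dvd_relIndex_of_normal PS ((O.map Φ).subgroupOf Re)
    rw [Subgroup.inf_relIndex_right, show (PS : Subgroup Re) = (autInducedBy T Q).subgroupOf Re from rfl,
      Subgroup.relIndex_subgroupOf hOQ] at h1
    exact h1
  have hH : IsPGroup p H' :=
    (isPGroup_autInducedBy (dt.isp.to_le hR)).comap_of_injective _ (Subgroup.subtype_injective _)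
  refine ⟨hP, hH.toSylow (fun h => hnd ?_), rfl⟩
  rw [hidx] at h
  refine (h.trans (Subgroup.relIndex_dvd_of_le_left _ fun a ha => ?_)).trans
    ((Subgroup.relIndex_map_map_of_injective (autInducedBy T P) O (f := Φ) (MulAut.congr e).injective).symm ▸
      Subgroup.relIndex_dvd_of_le_left _ hTle)
  obtain ⟨t, ht, hte⟩ := mem_autInducedBy.1 ha
  exact mem_autInducedBy.2 ⟨t, hTR ht, hte⟩

include dt hTR in
/-- The classes with centric intersection are good. -/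
theorem good_of_cat {P₀ : Subgroup Ω} (hP₀ : P₀ ≤ R) (hc₀ : Cat F T P₀)
    (hgood₀ : ∀ W ≤ R, Nat.card P₀ < Nat.card W → Criterion.Good (gsys F E p hR) p W) :
    Criterion.Good (gsys F E p hR) p P₀ := by
  classical
  haveI := finite_of_le_base hR
  have hRp : IsPGroup p R := dt.isp.to_le hR
  have hT := dt.sc
  obtain ⟨P, hPP, hPn, Q, α, hQn, hnice, hQc, hα, hαi⟩ := exists_rep dt hTR hR hP₀ hc₀
  obtain ⟨L, hL, ⟨lg⟩⟩ := exists_local dt.isp dt.sat hnice
  letI := hL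
  have hP := hPn.1
  have hgood : ∀ W ≤ R, Nat.card P < Nat.card W → Criterion.Good (gsys F E p hR) p W :=
    fun W hW h => hgood₀ W hW (isConj_card hPP ▸ h)
  obtain ⟨f₀, hf₀, hf₀i⟩ := isConj_iff.1 hPP
  have hc : Cat F T P := hf₀i ▸ hc₀.conj dt (hf₀.of_subsystem gsys_sub)
  set G := gsys F E p hR
  refine ⟨P, hPP, rep_fullyAutomized dt hTR hR hP hc hPn hgood hQn hnice.1 hQc lg hα hαi,
    receptive_of_extend hP fun X f hf hfi => ?_⟩
  rcases eq_or_lt_of_le hP with rfl | hlt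
  · obtain rfl : X = P := eq_of_le_of_card le_rfl hf.le
      ((congrArg (fun Z : Subgroup Ω => Nat.card Z) hfi).symm.trans hf.card_img).le
    exact ⟨f, fun N hN => hf.mono fun x hx => (hN x hx).1, fun _ _ => rfl⟩
  set N := normalizerIn R P
  have hPN : P ≤ N := le_normalizerIn hP
  set r := Nat.card P
  have hMn : (uSys dt hR r).IsFullyNormalized P := ⟨hP, fun W hW => hPn.2 W (by
    obtain ⟨f, hf, hfi⟩ := isConj_iff.1 hW
    exact isConj_iff.2 ⟨f, hf.of_subsystem (uSys_sub dt hR _), hfi⟩)⟩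
  have hXP : G.IsConj P X := isConj_symm (isConj_iff.2 ⟨f, hf, hfi⟩)
  have hMPX : (uSys dt hR r).IsConj P X := by
    obtain ⟨u, hu, hui⟩ := isConj_iff.1 hXP
    obtain ⟨k, hk, b, hb, hub⟩ := dec_level dt hR hu le_rfl hc rfl
    refine isConj_iff.2 ⟨b, hb, ?_⟩
    rw [← hui, img_congr (f := u) (g := b ∘ autFn k) hub,
      ((mem_autGroup_iff_fn hc.1).1 (oGrp_le_autGroup hk)).img_comp, img_autFn]
  obtain ⟨ψ, hψM, hψi⟩ := Criterion.exists_up {W | (W ≤ R ∧ Cat F T W) ∧ r < Nat.card W} hRp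
    (fun W hW => hW.1.1) (fun W hW W' h => mem_uSys_family dt hR hW h) (uSys_gen dt hR _) hMn
    (fun h => lt_irrefl _ h.2) hlt.ne (fun W hW h => uSys_good dt hR hW h (hgood W hW h)) hMPX
  have hψ := hψM.of_subsystem (uSys_sub dt hR r)
  obtain ⟨a, ha, hae⟩ := Criterion.exists_pushed (P := P) (X := X) (Q := X) hf le_rfl hψ hψi
    (ψ' := id) (fn_id normalizerIn_le) (by rw [img_id, hfi])
  obtain ⟨σ, hσ, k, hk, rfl⟩ := aut_decomp dt hTR hR hP hc hPn hgood ha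
  obtain ⟨s, hs, hse⟩ := mem_autInducedBy.1 hσ
  have hsN : s ∈ N := ⟨hs, mem_normalizer_of_autEq hse⟩
  have haf : ∀ x ∈ X, f x = s * autFn k (ψ x) * s⁻¹ := fun x hx => by
    have hψx : ψ x ∈ P := hψi.le (mem_img_of_mem hx)
    have h1 := hae x hx
    rw [autFn_mul _ _ hψx, autFn_coe σ ⟨_, autFn_mem k hψx⟩, hse] at h1
    exact h1.symm
  obtain ⟨φ, hφ, hφf⟩ := id hf
  set Nf := extender R X φ
  have hNf : ∀ x, x ∈ Nf ↔ InExt R X f x := fun x => mem_extender hφf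
  have hNfN : Nf ≤ normalizerIn R X := fun x hx => ⟨((hNf x).1 hx).1, ((hNf x).1 hx).2.1⟩
  have hXNf : X ≤ Nf := fun x hx => (hNf x).2 (inExt_of_mem hf hx)
  have hψN := hψ.mono hNfN
  have hψX := hψ.mono (le_normalizerIn hf.le)
  set M := img ψ Nf
  have hMN : M ≤ N := img_le fun n hn =>
    hψ.map_normalizer (le_normalizerIn hf.le) hψi (hNfN hn) (hNfN hn).2
  have hPM : P ≤ M := hψi ▸ img_mono hXNf
  have hMα : T ⊔ M ≤ T ⊔ N := sup_le_sup_left hMN T
  have hαM := hα.mono (le_sup_right.trans hMα : M ≤ T ⊔ N)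
  set X₀ := img α M
  have hQX₀ : Q ≤ X₀ := hαi ▸ img_mono hPM
  have hX₀N : X₀ ≤ normalizerIn S Q := img_le fun y hy =>
    hα.map_normalizer (hPN.trans le_sup_right) hαi (Subgroup.mem_sup_right (hMN hy)) (hMN hy).2
  have hNT : ∀ x ∈ N, x ∈ T ⊔ N := fun x hx => Subgroup.mem_sup_right hx
  obtain ⟨k₀, hk₀, hk₀e⟩ := oGrp_transport dt (hα.mono (hPN.trans le_sup_right)) hαi hk
  have hkR : k₀ ∈ (resQ dt hQc lg).range :=
    (Subgroup.closure_le _).2 (fun a ha => realize_gam dt hQc lg hQn hnice.1 ha.1 ha.2) hk₀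
  haveI := finite_of_le_base hP
  obtain ⟨g₀, hg₀, hg₀e⟩ := range_extend dt hQc lg hQn hnice.1 hkR hQX₀ hX₀N
    (hB := sup_le_base dt hαM.img_le_base) fun x₀ hx₀ => by
      obtain ⟨m, hm, rfl⟩ := hαM.mem_img.1 hx₀
      obtain ⟨n, hn, rfl⟩ := hψN.mem_img.1 hm
      obtain ⟨-, hnX, w, hw, hwe⟩ := (hNf n).1 hn
      have hwN : w ∈ N := ⟨hw, mem_normalizer_of_map_le fun y hy => by
        obtain ⟨x, hx, rfl⟩ := hf.mem_img.1 (hfi.ge hy)
        rw [← hwe x hx]
        exact hfi.le (mem_img_of_mem ((mem_normalizer_iff'.1 hnX).1 x hx))⟩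
      set w' := s⁻¹ * w * s
      have hw'N : w' ∈ N := N.mul_mem (N.mul_mem (N.inv_mem hsN) hwN) hsN
      refine ⟨α w', hα.mem (hNT _ hw'N), fun y₀ hy₀ => ?_⟩
      obtain ⟨y, hy, rfl⟩ := (hα.mono (hPN.trans le_sup_right)).mem_img.1 (hαi.ge hy₀)
      obtain ⟨x, hx, rfl⟩ := hψX.mem_img.1 (hψi.ge hy)
      have hxn := (mem_normalizer_iff'.1 hnX).1 x hx
      have hψn : ψ n ∈ N := hMN (mem_img_of_mem hn)
      have hψx : ψ x ∈ P := hψi.le (mem_img_of_mem hx)
      have hcn : ψ (n * x * n⁻¹) = ψ n * ψ x * (ψ n)⁻¹ := hψN.map_conj hn (hXNf hx)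
      have hψc : ψ n * ψ x * (ψ n)⁻¹ ∈ P := (mem_normalizer_iff'.1 hψn.2).1 _ hψx
      rw [← hα.map_conj (hNT _ hψn) (hNT _ (hPN hψx)), hk₀e _ hψc, hk₀e _ hψx,
        ← hα.map_conj (hNT _ hw'N) (hNT _ (hPN (autFn_mem k hψx)))]
      refine congrArg α ?_
      have h1 := hwe x hx
      rw [haf _ hxn, haf x hx, hcn] at h1
      show _ = s⁻¹ * w * s * autFn k (ψ x) * (s⁻¹ * w * s)⁻¹
      calc autFn k (ψ n * ψ x * (ψ n)⁻¹) = s⁻¹ * (s * autFn k (ψ n * ψ x * (ψ n)⁻¹) * s⁻¹) * s := by group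
        _ = s⁻¹ * (w * (s * autFn k (ψ x) * s⁻¹) * w⁻¹) * s := by rw [h1]
        _ = _ := by group
  have hαi' : img α (T ⊔ M) = T ⊔ X₀ := by
    rw [(hα.mono hMα).img_sup, sc_img hT le_sup_left hα]
  obtain ⟨β, hβ, hβα, hβi⟩ := (hα.mono hMα).exists_inv
  rw [hαi'] at hβ hβi
  obtain ⟨χ, hχ, hχe⟩ := gsys_transport (hB' := sup_le_base dt ((hMN.trans normalizerIn_le).trans hR)) dt hβ hβi hg₀
  have hβX : img β X₀ = M := by
    rw [← hαM.img_comp]
    exact (img_congr (g := id) fun x hx => hβα x (Subgroup.mem_sup_right hx)).trans (img_id M)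
  rw [hβX] at hχ
  have hg : Fn G M χ := gsys_mono (sup_le hTR (hMN.trans normalizerIn_le)) hχ
  have hge : ∀ y ∈ P, χ y = autFn k y := fun y hy => by
    have h1 := hχe (α y) (mem_img_of_mem (hPM hy))
    have hky := autFn_mem k hy
    rwa [hβα y (Subgroup.mem_sup_right (hPM hy)), hg₀e _ (hαi.le (mem_img_of_mem hy)), hk₀e y hy,
      hβα _ (Subgroup.mem_sup_right (hPM hky))] at h1
  have hgm : ∀ m ∈ M, χ m ∈ N := fun m hm => hg.map_normalizer hPM
    ((img_congr hge).trans (img_autFn k)) hm (hMN hm).2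
  refine ⟨(fun y => s * y * s⁻¹) ∘ (χ ∘ ψ), fun N' hN' => ?_, fun x hx => ?_⟩
  · have hle : N' ≤ Nf := fun x hx => (hNf x).2 (hN' x hx)
    exact ((hψN.mono hle).comp hg fun x hx => mem_img_of_mem (hle hx)).comp (fn_conj normalizerIn_le hs)
      fun x hx => hgm _ (mem_img_of_mem (hle hx))
  · show s * χ (ψ x) * s⁻¹ = f x
    rw [hge _ (hψi.le (mem_img_of_mem hx)), haf x hx]

include dt hTR in
/-- Outside the centric classes a stabilizing conjugation is not inner. -/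
theorem star (hPc : (gsys F E p hR).IsCentric P) (hc : ¬ (P ≤ R ∧ Cat F T P)) :
    ∃ Q, (gsys F E p hR).IsConj P Q ∧ ¬ (autInducedBy R Q ⊓
      (pCore p ((gsys F E p hR).autGroup Q)).map ((gsys F E p hR).autGroup Q).subtype ≤ Inn Q) := by
  classical
  haveI := finite_of_le_base hR
  have hT := dt.sc
  have hPR := hPc.1
  have hPS := hPR.trans hR
  have hY : ¬ WCentric F T (P ⊓ T) := fun h => hc ⟨hPR, hPS, h⟩
  simp only [WCentric, not_and, not_forall] at hY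
  obtain ⟨Y', hY', hY'c⟩ := hY inf_le_right
  obtain ⟨c, hcY, hcY'⟩ := SetLike.not_le_iff_exists.1 hY'c
  obtain ⟨Z, hYZ, hZ⟩ := exists_fullyNormalized (F := F) (inf_le_left.trans hPS : P ⊓ T ≤ S)
  have hgood := (fullyNormalized_good dt.isp dt.sat hZ).1
  have hrec := fullyNormalized_receptive dt.isp dt.sat hZ
  obtain ⟨φ, hφ, -, hφi⟩ := exists_normalizer_map dt.isp hgood hrec hYZ
  obtain ⟨ρ, hρ, -, hρi⟩ := exists_normalizer_map dt.isp hgood hrec (isConj_trans (isConj_symm hY') hYZ)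
  have hY'S := isConj_le_right hY'
  have hcS : c ∈ centralizerIn S Y' := ⟨hT.1 hcY.1, hcY.2⟩
  have hcN := centralizerIn_le_normalizerIn hcS
  have hcZ : ρ c ∈ centralizerIn T Z := ⟨sc_apply hT hρ hcN hcY.1,
    (hρ.map_centralizer (le_normalizerIn hY'S) hρi hcN hcS).2⟩
  have hcZ' : ρ c ∉ Z := fun h => hcY' <| by
    obtain ⟨y, hy, hye⟩ := (hρ.mono (le_normalizerIn hY'S)).mem_img.1 (hρi.ge h)
    rwa [← hρ.inj (le_normalizerIn hY'S hy) hcN hye]
  have hφP := hφ.mono (le_normalizer_inf dt hPS)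
  obtain ⟨d, hd, α, hα, hφd⟩ := dec dt hφP
  set Q := img d P
  have hdG : Fn (gsys F E p hR) P d := gsys_mono (sup_le hTR hPR) hd.fn
  have hQR : Q ≤ R := hdG.img_le_base
  have hQS := hQR.trans hR
  haveI := finite_of_le_base hQR
  haveI : Finite (MulAut Q) := Finite.of_injective (fun f : MulAut Q => (f : Q → Q)) DFunLike.coe_injective
  refine ⟨Q, isConj_of_fn hdG, fun hle => ?_⟩
  have hCR : centralizerIn R Q ≤ Q := hPc.2 Q (isConj_of_fn hdG)
  -- an element of the base centralizing the intersection outside `Q`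
  obtain ⟨c₀, hc₀, hc₀e⟩ := (hα.mono (le_sup_left : T ≤ T ⊔ P)).mem_img.1 ((sc_img hT le_sup_left hα).ge hcZ.1)
  have hQW : Q ≤ T ⊔ P := hd.fn.img_le_base
  have hαQ : img α Q = img φ P := by
    rw [← hd.fnF.img_comp]
    exact img_congr fun x hx => (hφd x hx).symm
  have hαY : img α (Q ⊓ T) = Z := by
    rw [← img_inf_sc hT (hα.mono hQW), hαQ, img_inf_sc hT hφP, hφi]
  have hc₀C : c₀ ∈ centralizerIn T (Q ⊓ T) := mem_centralizerIn.2 ⟨hc₀, fun y hy => by
    have hm := (mem_centralizerIn.1 hcZ).2 _ (hαY.le (mem_img_of_mem hy))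
    rw [← hc₀e, ← hα.map_mul (hQW hy.1) (Subgroup.mem_sup_left hc₀),
      ← hα.map_mul (Subgroup.mem_sup_left hc₀) (hQW hy.1)] at hm
    exact hα.inj (Subgroup.mul_mem _ (hQW hy.1) (Subgroup.mem_sup_left hc₀))
      (Subgroup.mul_mem _ (Subgroup.mem_sup_left hc₀) (hQW hy.1)) hm⟩
  have hc₀Q : c₀ ∉ Q := fun h => hcZ' <| by
    rw [← hc₀e]
    exact hαY.le (mem_img_of_mem ⟨h, hc₀⟩)
  set C := centralizerIn T (Q ⊓ T)
  have hCR' : C ≤ R := inf_le_left.trans hTR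
  haveI := finite_of_le_base hCR'
  have hlt : Q < Q ⊔ C := lt_of_le_of_ne le_sup_left fun e => hc₀Q (e.ge (Subgroup.mem_sup_right hc₀C))
  obtain ⟨m, hmM, hm, hmQ⟩ := exists_mem_normalizer_not_mem (dt.isp.to_le hR) (sup_le hQR hCR') hlt
  have hQC : Q ≤ Subgroup.normalizer (C : Set Ω) := fun x hx => mem_normalizer_of_map_le fun y hy =>
    mem_centralizerIn.2 ⟨sc_conj hT (hQS hx) (mem_centralizerIn.1 hy).1, fun z hz => by
      have hz' : x⁻¹ * z * x ∈ Q ⊓ T := ⟨Q.mul_mem (Q.mul_mem (Q.inv_mem hx) hz.1) hx,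
        by simpa using sc_conj hT (S.inv_mem (hQS hx)) hz.2⟩
      have h1 := (mem_centralizerIn.1 hy).2 _ hz'
      calc z * (x * y * x⁻¹) = x * (x⁻¹ * z * x * y) * x⁻¹ := by group
        _ = x * (y * (x⁻¹ * z * x)) * x⁻¹ := by rw [h1]
        _ = _ := by group⟩
  have hmm : m ∈ ((Q : Set Ω) * (C : Set Ω)) := by
    rw [← Subgroup.coe_mul_of_left_le_normalizer_right _ _ hQC]
    exact hmM
  obtain ⟨u, hu, n, hn, hun⟩ := hmm
  dsimp only at hun
  have hnQ : n ∉ Q := fun h => hmQ (hun ▸ Q.mul_mem hu h)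
  have hnN : n ∈ Subgroup.normalizer (Q : Set Ω) := by
    rw [show n = u⁻¹ * m by rw [← hun]; group]
    exact Subgroup.mul_mem _ (Subgroup.inv_mem _ (Subgroup.le_normalizer hu)) hm.2
  have hnC : n ∈ centralizerIn T (Q ⊓ T) := hn
  set A := (gsys F E p hR).autGroup Q
  let St : Subgroup A :=
    { carrier := {b | (∀ y ∈ Q ⊓ T, autFn (b : MulAut Q) y = y) ∧ ∀ x ∈ Q, x⁻¹ * autFn (b : MulAut Q) x ∈ Q ⊓ T}
      one_mem' := ⟨fun y hy => autFn_id hy.1, fun x hx => by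
        rw [Subgroup.coe_one, autFn_id hx, inv_mul_cancel]; exact one_mem _⟩
      mul_mem' := fun {b c} hb hc => ⟨fun y hy => by
          rw [Subgroup.coe_mul, autFn_mul _ _ hy.1, hc.1 y hy, hb.1 y hy],
        fun x hx => by
          rw [Subgroup.coe_mul, autFn_mul _ _ hx, show x⁻¹ * autFn (b : MulAut Q) (autFn (c : MulAut Q) x) =
            (x⁻¹ * autFn (c : MulAut Q) x) *
              ((autFn (c : MulAut Q) x)⁻¹ * autFn (b : MulAut Q) (autFn (c : MulAut Q) x)) by group]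
          exact mul_mem (hc.2 x hx) (hb.2 _ (autFn_mem _ hx))⟩
      inv_mem' := fun {b} hb => ⟨fun y hy => by
          conv_lhs => rw [Subgroup.coe_inv, ← hb.1 y hy, autFn_inv_apply (b : MulAut Q) hy.1],
        fun x hx => by
          have h := inv_mem (hb.2 _ (autFn_mem (b : MulAut Q)⁻¹ hx))
          rw [autFn_apply_inv (b : MulAut Q) hx] at h
          simpa using h⟩ }
  haveI hStn : St.Normal := ⟨fun b hb g => by
    have hgf := ((mem_autGroup_iff_fn hQR).1 g.2).of_subsystem gsys_sub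
    have hgi := ((mem_autGroup_iff_fn hQR).1 (inv_mem g.2)).of_subsystem gsys_sub
    refine ⟨fun y hy => ?_, fun x hx => ?_⟩
    · have hz : autFn (g : MulAut Q)⁻¹ y ∈ Q ⊓ T := ⟨autFn_mem _ hy.1, sc_apply hT hgi hy.1 hy.2⟩
      rw [Subgroup.coe_mul, Subgroup.coe_mul, Subgroup.coe_inv, autFn_mul _ _ hy.1, autFn_mul _ _ hz.1,
        hb.1 _ hz, autFn_apply_inv _ hy.1]
    · have hz := autFn_mem (g : MulAut Q)⁻¹ hx
      have hdz := hb.2 _ hz
      rw [Subgroup.coe_mul, Subgroup.coe_mul, Subgroup.coe_inv, autFn_mul _ _ hx, autFn_mul _ _ hz,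
        ← mul_inv_cancel_left (autFn (g : MulAut Q)⁻¹ x) (autFn (b : MulAut Q) (autFn (g : MulAut Q)⁻¹ x)),
        hgf.map_mul hz hdz.1, autFn_apply_inv _ hx, inv_mul_cancel_left]
      exact ⟨autFn_mem _ hdz.1, sc_apply hT hgf hdz.1 hdz.2⟩⟩
  have hStp : IsPGroup p St := fun b => by
    obtain ⟨K, hK⟩ := stab_isPElement dt hQS b.2.1 b.2.2
    exact ⟨K, Subtype.ext (Subtype.ext (by simpa using hK))⟩
  have hnA : conjAut Q hnN ∈ A :=
    autInducedBy_le_autGroup hQR (conjAut_mem_autInducedBy hnN (hTR hnC.1))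
  have hnS : (⟨_, hnA⟩ : A) ∈ St := by
    refine ⟨fun y hy => ?_, fun x hx => ?_⟩
    · rw [autFn_coe _ ⟨y, hy.1⟩, conjAut_coe]
      show n * y * n⁻¹ = y
      rw [← (mem_centralizerIn.1 hnC).2 y hy, mul_inv_cancel_right]
    · rw [autFn_coe _ ⟨x, hx⟩, conjAut_coe]
      refine ⟨Q.mul_mem (Q.inv_mem hx) ((mem_normalizer_iff'.1 hnN).1 x hx), ?_⟩
      rw [show x⁻¹ * (n * x * n⁻¹) = x⁻¹ * n * x⁻¹⁻¹ * n⁻¹ by group]
      exact T.mul_mem (sc_conj hT (S.inv_mem (hQS hx)) hnC.1) (T.inv_mem hnC.1)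
  obtain ⟨v, hv⟩ := hle ⟨conjAut_mem_autInducedBy hnN (hTR hnC.1), ⟨_, hnA⟩,
    (le_sSup (s := {N : Subgroup A | N.Normal ∧ IsPGroup p N}) ⟨hStn, hStp⟩ : St ≤ pCore p A) hnS, rfl⟩
  have hcen : (v : Ω)⁻¹ * n ∈ centralizerIn R Q := mem_centralizerIn.2
    ⟨R.mul_mem (R.inv_mem (hQR v.2)) (hTR hnC.1), fun z hz => by
      have h1 := congrArg (fun b : MulAut Q => ((b ⟨z, hz⟩ : Q) : Ω)) hv
      change (v : Ω) * z * (v : Ω)⁻¹ = n * z * n⁻¹ at h1
      calc z * ((v : Ω)⁻¹ * n) = (v : Ω)⁻¹ * ((v : Ω) * z * (v : Ω)⁻¹) * n := by group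
        _ = (v : Ω)⁻¹ * (n * z * n⁻¹) * n := by rw [h1]
        _ = _ := by group⟩
  have := Q.mul_mem v.2 (hCR hcen)
  rw [mul_inv_cancel_left] at this
  exact hnQ this

include dt hTR in
/-- The product is saturated. -/
theorem gsys_saturated : (gsys F E p hR).IsSaturated p := by
  haveI := finite_of_le_base hR
  exact saturated_of_rec (dt.isp.to_le hR) {P | P ≤ R ∧ Cat F T P} (fun P hP => hP.1)
    (fun P hP Q h => mem_family hR hP h dt)
    (fun P hP hgood => good_of_cat dt hTR hR hP.1 hP.2 hgood)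
    (fun M hM => gsys_gen hR M hM)
    fun P hc hP => star dt hTR hR hc hP

end CfsgLib.Fsys.EProd
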