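import Cfsg.Agent.Lib.FusionSystem.EProd.Levels

/-! The automizer of a representative in a product. -/

set_option autoImplicit false

namespace CfsgLib.Fsys.EProd

open Cfsg Cfsg.FusionSystem CfsgLib.Fsys.WNR CfsgLib.Fsys.Meet
open Cfsg.FusionSystem (centralizerIn normalizerIn)

universe u

variable {Ω : Type u} [Group Ω] {S T R : Subgroup Ω} [Finite S] {F : FusionSystem S} {E : FusionSystem T}
  {P : Subgroup Ω} {p : ℕ} [Fact p.Prime] (dt : Data F E p) (hR : R ≤ S)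

/-- The restrictions of the automorphisms of the normalizer. -/
def resN (hP : P ≤ R) : Subgroup (MulAut P) where
  carrier := {a | ∃ h ∈ (gsys F E p hR).autGroup (normalizerIn R P), ∀ x ∈ P, autFn h x = autFn a x}
  one_mem' := ⟨1, one_mem _, fun x hx => by rw [autFn_id (le_normalizerIn hP hx), autFn_id hx]⟩
  mul_mem' := fun {a b} ⟨h, hh, he⟩ ⟨h', hh', he'⟩ => ⟨h * h', mul_mem hh hh', fun x hx => by
    rw [autFn_mul _ _ (le_normalizerIn hP hx), autFn_mul _ _ hx, he' x hx, he _ (autFn_mem b hx)]⟩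
  inv_mem' := fun {a} ⟨h, hh, he⟩ => ⟨h⁻¹, inv_mem hh, fun x hx => by
    have h1 := he _ (autFn_mem a⁻¹ hx)
    rw [autFn_apply_inv a hx] at h1
    conv_lhs => rw [← h1]
    exact autFn_inv_apply h (le_normalizerIn hP (autFn_mem a⁻¹ hx))⟩

omit [Finite S] [Fact p.Prime] in
theorem resN_le (hP : P ≤ R) : resN (E := E) (F := F) (p := p) hR hP ≤ (gsys F E p hR).autGroup P :=
  fun _ ⟨_, hh, he⟩ =>
  (mem_autGroup_iff_fn hP).2 ((((mem_autGroup_iff_fn normalizerIn_le).1 hh).mono (le_normalizerIn hP)).congr he)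

/-- The restrictions times the generated group. -/
def resK (dt : Data F E p) (hR : R ≤ S) (hP : P ≤ R) : Subgroup (MulAut P) where
  carrier := {a | ∃ s ∈ resN (E := E) (F := F) (p := p) hR hP, ∃ k ∈ oGrp F E p P, a = s * k}
  one_mem' := ⟨1, one_mem _, 1, one_mem _, (mul_one 1).symm⟩
  mul_mem' := fun {a b} ⟨s, hs, k, hk, ea⟩ ⟨s', hs', k', hk', eb⟩ =>
    ⟨s * s', mul_mem hs hs', s'⁻¹ * k * s' * k', mul_mem (by
      have := oGrp_conj dt (hP.trans hR) (autGroup_mono' gsys_sub P (resN_le hR hP (inv_mem hs'))) hk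
      rwa [inv_inv] at this) hk', by rw [ea, eb]; group⟩
  inv_mem' := fun {a} ⟨s, hs, k, hk, ea⟩ =>
    ⟨s⁻¹, inv_mem hs, s * k⁻¹ * s⁻¹,
      oGrp_conj dt (hP.trans hR) (autGroup_mono' gsys_sub P (resN_le hR hP hs)) (inv_mem hk),
      by rw [ea]; group⟩

theorem resN_le_resK (hP : P ≤ R) : resN (E := E) (F := F) (p := p) hR hP ≤ resK dt hR hP := fun s hs =>
  ⟨s, hs, 1, one_mem _, (mul_one s).symm⟩

theorem oGrp_le_resK (hP : P ≤ R) : oGrp F E p P ≤ resK dt hR hP := fun k hk =>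
  ⟨1, one_mem _, k, hk, (one_mul k).symm⟩

theorem mem_uSys_family {r : ℕ} {W W' : Subgroup Ω} (hW : (W ≤ R ∧ Cat F T W) ∧ r < Nat.card W)
    (h : (uSys dt hR r).IsConj W W') : (W' ≤ R ∧ Cat F T W') ∧ r < Nat.card W' := by
  obtain ⟨f, hf, rfl⟩ := isConj_iff.1 h
  exact ⟨⟨hf.img_le_base, hW.1.2.conj dt (hf.of_subsystem (uSys_subF dt hR r))⟩, hf.card_img.symm ▸ hW.2⟩

/-- The automorphisms generated above the order of `P` are restrictions times generated ones. -/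
theorem gen_le_resK (hTR : T ≤ R) (hP : P ≤ R) (hlt : P < R)
    (hPn : (gsys F E p hR).IsFullyNormalized P)
    (hgood : ∀ W ≤ R, Nat.card P < Nat.card W → Criterion.Good (gsys F E p hR) p W) :
    ∀ m, Nat.card P < m → Criterion.Gen (uSys dt hR (Nat.card P)) m P ≤ resK dt hR hP := by
  classical
  haveI := finite_of_le_base hR
  have hRp : IsPGroup p R := dt.isp.to_le hR
  set M := uSys dt hR (Nat.card P)
  set N := normalizerIn R P
  have hNR : N ≤ R := normalizerIn_le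
  haveI := finite_of_le_base hNR
  haveI := finite_of_le_base hP
  have hPN : P ≤ N := le_normalizerIn hP
  have hMG : M.IsSubsystemOf (gsys F E p hR) := uSys_sub dt hR _
  have hMF : M.IsSubsystemOf F := uSys_subF dt hR _
  have hMn : M.IsFullyNormalized P := ⟨hP, fun W hW => hPn.2 W (by
    obtain ⟨f, hf, hfi⟩ := isConj_iff.1 hW
    exact isConj_iff.2 ⟨f, hf.of_subsystem hMG, hfi⟩)⟩
  have hMgood : ∀ W ≤ R, Nat.card P < Nat.card W → Criterion.Good M p W := fun W hW h =>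
    uSys_good dt hR hW h (hgood W hW h)
  have hup : ∀ {X : Subgroup Ω}, M.IsConj P X → Criterion.Up M X P := fun {X} hX =>
    Criterion.exists_up {W | (W ≤ R ∧ Cat F T W) ∧ Nat.card P < Nat.card W} hRp (fun W hW => hW.1.1)
      (fun W hW W' h => mem_uSys_family dt hR hW h) (uSys_gen dt hR _) hMn (fun h => lt_irrefl _ h.2) hlt.ne
      hMgood hX
  intro m
  induction hk : Nat.card ↥R + 1 - m using Nat.strong_induction_on generalizing m with
  | _ k ih =>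
  intro hm
  refine (Subgroup.closure_le _).2 ?_
  rintro a ⟨W, g, hg, hPW, hWN, hmW, hag⟩
  have hgP : img g P = P := (hg.mono hPW).img_eq_self fun x hx => hag ⟨x, hx⟩ ▸ (a ⟨x, hx⟩).2
  by_cases hWN' : W = N
  · subst hWN'
    have hgN : img g N = N := hg.img_eq_self fun x hx => hg.map_normalizer hPN hgP hx hx.2
    obtain ⟨h, hh, hhe⟩ := exists_aut_of_fn (hg.of_subsystem hMG) hgN
    refine resN_le_resK dt hR hP ⟨h, hh, fun x hx => ?_⟩
    rw [autFn_coe h ⟨x, hPN hx⟩, hhe, autFn_coe a ⟨x, hx⟩, hag]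
  have hWR : Nat.card W ≤ Nat.card ↥R := Subgroup.card_le_of_le hg.le
  have hnext : Criterion.Gen M (Nat.card W + 1) P ≤ resK dt hR hP :=
    ih (Nat.card ↥R + 1 - (Nat.card W + 1)) (by omega) _ rfl (by omega)
  set W₂ := img g W
  have hPW₂ : P ≤ W₂ := hgP ▸ img_mono hPW
  have hW₂N : W₂ ≤ N := img_le fun n hn => hg.map_normalizer hPW hgP hn (hWN hn).2
  have hW₂N' : W₂ ≠ N := fun e => hWN' (eq_of_le_of_card hNR hWN
    ((congrArg (fun Z : Subgroup Ω => Nat.card Z) e).symm.trans hg.card_img).le)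
  obtain ⟨W', hW', hA, hrec⟩ := hMgood W hg.le (lt_of_lt_of_le hm hmW)
  obtain ⟨f₁, hf₁, hi₁⟩ := isConj_iff.1 hW'
  obtain ⟨g', hg', hg'g, hg'i⟩ := hg.exists_inv
  have hm' : ∀ y ∈ W₂, g' y ∈ W := fun y hy => hg'i.le (mem_img_of_mem hy)
  have hf₂ := hg'.comp hf₁ hm'
  have hi₂ : img (f₁ ∘ g') W₂ = W' := by rw [hg'.img_comp, hg'i, hi₁]
  have hf₁P := hf₁.mono hPW
  set P₀ := img f₁ P with hP₀
  have hP₀W : P₀ ≤ W' := hi₁ ▸ img_mono hPW
  haveI := finite_of_le_base hA.1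
  haveI : Finite (MulAut W') := Finite.of_injective (fun f : MulAut W' => (f : W' → W')) DFunLike.coe_injective
  haveI := finite_of_le_base (hP₀W.trans hA.1)
  have hf₂P : img (f₁ ∘ g') P = P₀ := by
    conv_lhs => rw [← hgP, ← (hg.mono hPW).img_comp]
    exact img_congr fun x hx => congrArg f₁ (hg'g x (hPW hx))
  let G₀ : Subgroup (MulAut W') :=
    { carrier := {τ | τ ∈ M.autGroup W' ∧ ∀ y ∈ P₀, autFn τ y ∈ P₀}
      one_mem' := ⟨one_mem _, fun y hy => by rwa [autFn_id (hP₀W hy)]⟩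
      mul_mem' := fun {a b} ha hb => ⟨mul_mem ha.1 hb.1, fun y hy => by
        rw [autFn_mul _ _ (hP₀W hy)]
        exact ha.2 _ (hb.2 y hy)⟩
      inv_mem' := fun {a} ha => ⟨inv_mem ha.1, fun y hy => by
        have hfa := ((mem_autGroup_iff_fn hA.1).1 ha.1).mono hP₀W
        obtain ⟨z, hz, rfl⟩ := hfa.mem_img.1 ((hfa.img_eq_self ha.2).ge hy)
        rwa [autFn_inv_apply a (hP₀W hz)]⟩ }
  let K₀ := Subgroup.closure {τ | τ ∈ G₀ ∧ Nat.Coprime (orderOf τ) p}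
  have hres : ∀ δ ∈ K₀, ∃ b ∈ oGrp F E p P₀, ∀ y ∈ P₀, autFn b y = autFn δ y := by
    intro δ hδ
    induction hδ using Subgroup.closure_induction with
    | mem τ hτ =>
      obtain ⟨⟨hτA, hst⟩, hco⟩ := hτ
      have hτf := ((mem_autGroup_iff_fn hA.1).1 hτA).mono hP₀W
      obtain ⟨b, hbA, hb⟩ := exists_aut_of_fn hτf (hτf.img_eq_self hst)
      have hbe : ∀ y ∈ P₀, autFn b y = autFn τ y := fun y hy => (autFn_coe b ⟨y, hy⟩).trans (hb _)
      refine ⟨b, coprime_mem_oGrp dt hTR hτf.le (autGroup_mono' hMG P₀ hbA) ?_, hbe⟩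
      refine Nat.Coprime.coprime_dvd_left (orderOf_dvd_of_pow_eq_one (mulAut_ext fun x hx => ?_)) hco
      have hpow : ∀ j : ℕ, ∀ x ∈ P₀, autFn (b ^ j) x = autFn (τ ^ j) x := fun j => by
        induction j with
        | zero => intro x hx; rw [pow_zero, pow_zero, autFn_id hx, autFn_id (hP₀W hx)]
        | succ j ihj =>
          intro x hx
          rw [pow_succ, pow_succ, autFn_mul _ _ hx, autFn_mul _ _ (hP₀W hx), ihj _ (autFn_mem b hx), hbe x hx]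
      rw [hpow _ x hx, pow_orderOf_eq_one, autFn_id (hP₀W hx), autFn_id hx]
    | one => exact ⟨1, one_mem _, fun y hy => by rw [autFn_id hy, autFn_id (hP₀W hy)]⟩
    | mul a b _ _ ha hb =>
      obtain ⟨a', ha', hae⟩ := ha
      obtain ⟨b', hb', hbe⟩ := hb
      refine ⟨a' * b', mul_mem ha' hb', fun y hy => ?_⟩
      rw [autFn_mul _ _ hy, autFn_mul _ _ (hP₀W hy), hae _ (autFn_mem b' hy), hbe y hy]
    | inv a _ ha =>
      obtain ⟨a', ha', hae⟩ := ha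
      refine ⟨a'⁻¹, inv_mem ha', fun y hy => ?_⟩
      have h1 := hae _ (autFn_mem a'⁻¹ hy)
      rw [autFn_apply_inv a' hy] at h1
      conv_rhs => rw [h1]
      exact (autFn_inv_apply a (hP₀W (autFn_mem a'⁻¹ hy))).symm
  have hK₀G : K₀ ≤ G₀ := (Subgroup.closure_le _).2 fun τ hτ => hτ.1
  have hK₀n : ∀ a ∈ G₀, ∀ k ∈ K₀, a * k * a⁻¹ ∈ K₀ := by
    intro a ha k hk
    induction hk using Subgroup.closure_induction with
    | mem τ hτ =>
      refine Subgroup.subset_closure ⟨mul_mem (mul_mem ha hτ.1) (inv_mem ha), ?_⟩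
      rw [show a * τ * a⁻¹ = MulAut.conj a τ from rfl, MulEquiv.orderOf_eq]
      exact hτ.2
    | one => simp
    | mul x y _ _ hx hy => simpa [mul_assoc] using mul_mem hx hy
    | inv x _ hx => simpa [mul_assoc] using inv_mem hx
  have hK₀p : ∀ a ∈ G₀, ∃ n : ℕ, a ^ p ^ n ∈ K₀ := fun a ha => by
    obtain ⟨n, hn⟩ := CfsgLib.Fusion.Basic.exists_pow_coprime (p := p) a
    exact ⟨n, Subgroup.subset_closure ⟨pow_mem ha _, hn⟩⟩
  have hstab : ∀ (X : Subgroup Ω) (f : Ω → Ω), Fn M X f → img f X = W' → P ≤ X → img f P = P₀ →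
      ∀ m ∈ normalizerIn N X, ∃ τ ∈ G₀, ∀ x ∈ X, autFn τ (f x) = f (m * x * m⁻¹) := by
    intro X f hf hi hPX hfP m hm
    obtain ⟨τ, hτ, hτe⟩ := Criterion.exists_transported hf hi (⟨hm.1.1, hm.2⟩ : m ∈ normalizerIn R X)
    refine ⟨τ, ⟨hτ, fun y hy => ?_⟩, hτe⟩
    obtain ⟨x, hx, rfl⟩ := (hf.mono hPX).mem_img.1 (hfP.ge hy)
    rw [hτe x (hPX hx), ← hfP]
    exact mem_img_of_mem ((mem_normalizer_iff'.1 hm.1.2).1 x hx)
  obtain ⟨γ, -, δ, hδ, h₁, h₂, hh₁, hh₂, he₁, he₂⟩ := Criterion.two_push hRp hA hrec (G₀ := G₀) (K := K₀)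
    (fun τ hτ => hτ.1) hK₀G hK₀n hK₀p
    hf₁ hi₁ hf₂ hi₂ (M₁ := normalizerIn N W) (M₂ := normalizerIn N W₂)
    (fun m hm => ⟨hm.1.1, hm.2⟩) (fun m hm => ⟨hm.1.1, hm.2⟩)
    (hstab W f₁ hf₁ hi₁ hPW rfl) (hstab W₂ (f₁ ∘ g') hf₂ hi₂ hPW₂ hf₂P)
  obtain ⟨b, hb, hbδ⟩ := hres δ hδ
  obtain ⟨c, hc', hcf, hci⟩ := hf₁P.exists_inv
  obtain ⟨d, hd, hde⟩ := oGrp_transport dt (hc'.of_subsystem hMF) hci hb
  have hkey : ∀ x ∈ P, h₂ (g x) = h₁ (autFn d x) := fun x hx => by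
    have hfx : f₁ x ∈ P₀ := mem_img_of_mem hx
    have h1 := hde _ hfx
    rw [hcf x hx] at h1
    obtain ⟨z, hz, hze⟩ := hf₁P.mem_img.1 (autFn_mem b hfx)
    rw [← hze, hcf z hz] at h1
    rw [he₂ _ (mem_img_of_mem (hPW hx)), h1, he₁ z (hPW hz), hze]
    show autFn γ (autFn δ (f₁ (g' (g x)))) = _
    rw [hg'g x (hPW hx), hbδ _ hfx]
  have hlarge : ∀ X : Subgroup Ω, X ≤ N → X ≠ N → Nat.card X + 1 ≤ Nat.card ↥(X ⊔ normalizerIn N X) := by
    intro X hX hne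
    have hle : X ⊔ normalizerIn N X ≤ N := sup_le hX normalizerIn_le
    haveI := finite_of_le_base (hle.trans hNR)
    exact Set.Finite.card_lt_card (Set.toFinite ((X ⊔ normalizerIn N X : Subgroup Ω) : Set Ω))
      (lt_of_lt_of_le (lt_normalizerIn (hRp.to_le hNR) (lt_of_le_of_ne hX hne)) le_sup_right : X < X ⊔ normalizerIn N X)
  set P₃ := img h₁ P with hP₃
  have hdP : Fn F P (autFn d) := (mem_autGroup_iff_fn (hP.trans hR)).1 (oGrp_le_autGroup hd)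
  have h12 : img h₂ P = P₃ := by
    conv_lhs => rw [← hgP, ← (hg.mono hPW).img_comp]
    rw [img_congr (f := h₂ ∘ g) (g := h₁ ∘ autFn d) hkey, hdP.img_comp, img_autFn]
  obtain ⟨ψ, hψ, hψi⟩ := hup (isConj_of_fn (hh₁.mono (hPW.trans le_sup_left)) : M.IsConj P P₃)
  have mk : ∀ (X : Subgroup Ω) (h : Ω → Ω), Fn M X h → P ≤ X → X ≤ N → Nat.card W + 1 ≤ Nat.card X →
      img h P = P₃ → ∃ β : MulAut P, β ∈ resK dt hR hP ∧ ∀ x : P, ((β x : P) : Ω) = ψ (h x) := by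
    intro X h hh hPX hX hc hi
    have hc' := hh.comp hψ fun n hn => hh.map_normalizer hPX hi hn (hX hn).2
    have hci : img (ψ ∘ h) P = P := by rw [(hh.mono hPX).img_comp, hi, hψi]
    obtain ⟨β, -, hβe⟩ := exists_aut_of_fn (hc'.mono hPX) hci
    exact ⟨β, hnext (Subgroup.subset_closure ⟨X, _, hc', hPX, hX, hc, hβe⟩), hβe⟩
  obtain ⟨β₁, hβ₁, e₁⟩ := mk _ h₁ hh₁ (hPW.trans le_sup_left) (sup_le hWN normalizerIn_le) (hlarge W hWN hWN') rfl
  obtain ⟨β₂, hβ₂, e₂⟩ := mk _ h₂ hh₂ (hPW₂.trans le_sup_left) (sup_le hW₂N normalizerIn_le)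
    (hg.card_img ▸ hlarge W₂ hW₂N hW₂N') h12
  have e : a = β₂⁻¹ * (β₁ * d) := eq_inv_mul_of_mul_eq (MulEquiv.ext fun x => Subtype.ext (by
    rw [MulAut.mul_apply, MulAut.mul_apply, e₁, e₂, hag, hkey x x.2, autFn_coe]))
  rw [e]
  exact mul_mem (inv_mem hβ₂) (mul_mem hβ₁ (oGrp_le_resK dt hR hP hd))

end CfsgLib.Fsys.EProd
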